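import Mathlib

/-!
Two involutions of a finite group: conjugate inside the group they generate, or some power of their product gives a
two-subgroup with an involution commuting with a conjugating element.
-/

set_option autoImplicit false

namespace CfsgLib.TensorWreathSL

open Subgroup

theorem dihedral_alt {G : Type*} [Group G] [Finite G] {x y : G} (hx : x * x = 1) (hy : y * y = 1) :
    (∃ v ∈ closure ({x, y} : Set G), v * y * v⁻¹ = x) ∨
      ∃ v ∈ closure ({x, y} : Set G), IsPGroup 2 (closure ({x, v * y * v⁻¹} : Set G)) ∧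
        ∃ n : ℕ, (v * y * v⁻¹ * x) ^ n ≠ 1 ∧ (v * y * v⁻¹ * x) ^ n * (v * y * v⁻¹ * x) ^ n = 1 ∧
          Commute ((v * y * v⁻¹ * x) ^ n) v ∧ (Commute (v * y * v⁻¹) x → n = 1) := by
  classical
  have hxi : x⁻¹ = x := inv_eq_of_mul_eq_one_right hx
  have hyi : y⁻¹ = y := inv_eq_of_mul_eq_one_right hy
  set D := x * y with hD
  have hinv : x * D * x⁻¹ = D⁻¹ := by rw [hD, _root_.mul_inv_rev, hxi, hyi, ← mul_assoc, hx, one_mul]
  have hzinv : ∀ k : ℤ, x * D ^ k = D ^ (-k) * x := fun k => by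
    have h := (conj_zpow (a := x) (b := D) (i := k))
    rw [hinv, inv_zpow'] at h
    rw [h, inv_mul_cancel_right]
  have hy' : y = x * D := by rw [hD, ← mul_assoc, hx, one_mul]
  have hconj : ∀ j : ℤ, D ^ j * y * (D ^ j)⁻¹ = x * D ^ (1 - 2 * j) := fun j => by
    calc D ^ j * y * (D ^ j)⁻¹ = (D ^ j * x) * (D * D ^ (-j)) := by
          rw [← zpow_neg, mul_assoc, mul_assoc, ← mul_assoc x D, ← hy']
      _ = (x * D ^ (-j)) * (D * D ^ (-j)) := by rw [hzinv (-j), neg_neg]
      _ = x * D ^ (1 - 2 * j) := by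
          rw [mul_assoc, ← zpow_one_add, ← zpow_add]
          congr 2
          ring
  have hDmem : D ∈ closure ({x, y} : Set G) :=
    mul_mem (subset_closure (by simp)) (subset_closure (by simp))
  have hpos : 0 < orderOf D := orderOf_pos D
  obtain ⟨a, o, ho, hN⟩ := Nat.exists_eq_two_pow_mul_odd hpos.ne'
  obtain ⟨b, rfl⟩ := ho
  set v := D ^ ((b : ℤ) + 1) with hv
  have hvmem : v ∈ closure ({x, y} : Set G) := zpow_mem hDmem _
  have hr : v * y * v⁻¹ = x * (D ^ (2 * b + 1))⁻¹ := by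
    rw [hconj, ← zpow_natCast, ← zpow_neg]
    congr 2
  have hrx : v * y * v⁻¹ * x = D ^ (2 * b + 1) := by
    rw [hr, ← zpow_natCast, ← zpow_neg, hzinv, neg_neg, mul_assoc, hx, mul_one]
  have hord : D ^ orderOf D = 1 := pow_orderOf_eq_one D
  rcases Nat.eq_zero_or_pos a with rfl | ha
  · left
    refine ⟨v, hvmem, ?_⟩
    rw [hr]
    simp only [pow_zero, one_mul] at hN
    rw [← hN, hord, inv_one, mul_one]
  right
  obtain ⟨a', rfl⟩ : ∃ a', a = a' + 1 := ⟨a - 1, by omega⟩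
  refine ⟨v, hvmem, ?_, 2 ^ a', ?_, ?_, ?_, ?_⟩
  · have key : ∀ g ∈ closure ({x, v * y * v⁻¹} : Set G),
        ∃ i : ℤ, g = D ^ (((2 * b + 1 : ℕ) : ℤ) * i) ∨ g = x * D ^ (((2 * b + 1 : ℕ) : ℤ) * i) := by
      intro g hg
      induction hg using closure_induction with
      | mem g hg =>
        rcases hg with rfl | rfl
        · exact ⟨0, Or.inr (by simp)⟩
        · exact ⟨-1, Or.inr (by rw [hr, mul_neg, mul_one, zpow_neg, zpow_natCast])⟩
      | one => exact ⟨0, Or.inl (by simp)⟩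
      | mul g h _ _ hg hh =>
        obtain ⟨i, hi⟩ := hg
        obtain ⟨j, hj⟩ := hh
        rcases hi with rfl | rfl <;> rcases hj with rfl | rfl
        · exact ⟨i + j, Or.inl (by rw [mul_add, zpow_add])⟩
        · refine ⟨-i + j, Or.inr ?_⟩
          rw [mul_add, zpow_add, ← mul_assoc, ← mul_assoc, mul_neg, hzinv (-(((2 * b + 1 : ℕ) : ℤ) * i)), neg_neg]
        · exact ⟨i + j, Or.inr (by rw [mul_add, zpow_add, mul_assoc])⟩
        · refine ⟨-i + j, Or.inl ?_⟩
          rw [mul_add, zpow_add, mul_assoc x, ← mul_assoc (D ^ (((2 * b + 1 : ℕ) : ℤ) * i)), ← neg_neg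
            (((2 * b + 1 : ℕ) : ℤ) * i), ← hzinv, mul_assoc x, ← mul_assoc x x, hx, one_mul, mul_neg]
      | inv g _ hg =>
        obtain ⟨i, hi⟩ := hg
        rcases hi with rfl | rfl
        · exact ⟨-i, Or.inl (by rw [mul_neg, zpow_neg])⟩
        · exact ⟨i, Or.inr (by
            rw [_root_.mul_inv_rev, hxi, ← zpow_neg, ← neg_neg (((2 * b + 1 : ℕ) : ℤ) * i), ← hzinv, neg_neg])⟩
    intro g
    refine ⟨a' + 2, Subtype.ext ?_⟩
    rw [SubgroupClass.coe_pow, OneMemClass.coe_one]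
    obtain ⟨i, hi⟩ := key g.1 g.2
    rcases hi with e | e
    · rw [e, ← zpow_natCast, ← zpow_mul, orderOf_dvd_iff_zpow_eq_one.1]
      rw [hN]
      exact ⟨2 * i, by push_cast; ring⟩
    · have h2 : g.1 * g.1 = 1 := by
        rw [e, mul_assoc, ← mul_assoc (D ^ (((2 * b + 1 : ℕ) : ℤ) * i)), ← neg_neg (((2 * b + 1 : ℕ) : ℤ) * i),
          ← hzinv, mul_assoc x (D ^ _), ← mul_assoc, hx, one_mul, ← zpow_add]
        simp
      rw [pow_succ', pow_mul, sq, h2, one_pow]
  · rw [hrx, ← pow_mul]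
    intro e
    have h1 := Nat.le_of_dvd (by positivity) (orderOf_dvd_of_pow_eq_one e)
    rw [hN, pow_succ] at h1
    have : 0 < 2 ^ a' * (2 * b + 1) := by positivity
    nlinarith
  · rw [hrx, ← pow_mul, ← pow_add, show (2 * b + 1) * 2 ^ a' + (2 * b + 1) * 2 ^ a' = 2 ^ (a' + 1) * (2 * b + 1) by ring,
      ← hN, hord]
  · rw [hrx, hv]
    exact ((Commute.self_zpow D _).pow_left _).pow_left _
  · intro hc
    have h2 : (v * y * v⁻¹ * x) ^ 2 = 1 := by
      have hrr : (v * y * v⁻¹) * (v * y * v⁻¹) = 1 := by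
        rw [show v * y * v⁻¹ * (v * y * v⁻¹) = v * (y * y) * v⁻¹ by group, hy, mul_one, mul_inv_cancel]
      rw [hc.mul_pow, sq, sq, hrr, hx, one_mul]
    rw [hrx, ← pow_mul] at h2
    have h3 := orderOf_dvd_of_pow_eq_one h2
    rw [hN, mul_comm (2 * b + 1) 2] at h3
    have h4 : 2 ^ (a' + 1) ∣ 2 := Nat.dvd_of_mul_dvd_mul_right (by omega) h3
    have h5 := Nat.le_of_dvd (by norm_num) h4
    rw [pow_succ] at h5
    have : 0 < 2 ^ a' := by positivity
    omega

end CfsgLib.TensorWreathSL
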