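import Cfsg.Agent.Lib.TensorWreathSL.Root
import Cfsg.Agent.Lib.TensorWreathSL.Dihedral

/-!
Characteristic two: a conjugate of a root outside the tensor wreath group is conjugate to every root inside the
group generated by the two.
-/

set_option autoImplicit false
set_option linter.unusedSectionVars false

namespace CfsgLib.TensorWreathSL

open Cfsg Cfsg.Geo CfsgLib.Aschbacher CfsgLib.AschbacherForm CfsgLib.TensorWreath
open scoped Matrix MatrixGroups

variable {F : Type*} [Field F] [Finite F] {m s : ℕ} [NeZero m]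
variable {M : Subgroup (GL (Fin (s + 1) → Fin m) F)}

/-- The elements `1 + NN X NN`. -/
def sandwichGroup (M : Subgroup (GL (Fin (s + 1) → Fin m) F)) (NN : TMat F m (s + 1)) (h : NN * NN = 0) :
    Subgroup (GL (Fin (s + 1) → Fin m) F) where
  carrier := {g | g ∈ M ∧ ∃ X, g.1 = 1 + NN * X * NN}
  one_mem' := ⟨one_mem _, 0, by simp⟩
  mul_mem' := by
    rintro g g' ⟨hg, X, e⟩ ⟨hg', X', e'⟩
    refine ⟨mul_mem hg hg', X + X', ?_⟩
    have : NN * X * NN * (NN * X' * NN) = 0 := by
      rw [show NN * X * NN * (NN * X' * NN) = NN * X * (NN * NN) * (X' * NN) by simp only [mul_assoc], h, mul_zero,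
        zero_mul]
    rw [Units.val_mul, e, e']
    simp only [mul_add, add_mul, one_mul, mul_one, this, add_zero]
    abel
  inv_mem' := by
    rintro g ⟨hg, X, e⟩
    refine ⟨inv_mem hg, -X, left_inv_eq_right_inv (Units.inv_mul g) ?_⟩
    have : NN * X * NN * (NN * X * NN) = 0 := by
      rw [show NN * X * NN * (NN * X * NN) = NN * X * (NN * NN) * (X * NN) by simp only [mul_assoc], h, mul_zero,
        zero_mul]
    rw [e, mul_neg, neg_mul, add_mul, one_mul, mul_add, mul_one, mul_neg, this, neg_zero, add_zero,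
      add_assoc, neg_add_cancel, add_zero]

/-- The centraliser of a one-slot square-zero element lies in the tensor wreath group. -/
theorem Lev.cent_slot (hL : Lev M) (i : Fin (s + 1)) {N : Matrix (Fin m) (Fin m) F} (hsq : N * N = 0) (hne : N ≠ 0)
    {g : GL (Fin (s + 1) → Fin m) F} (hg : g ∈ M) (h : cj g (slot i N) = slot i N) : g ∈ Std F m (s + 1) := by
  obtain ⟨p, hp⟩ := CharP.exists F
  have : Fact p.Prime := ⟨CharP.char_is_prime F p⟩
  set NN : TMat F m (s + 1) := slot i N
  have hNN : NN * NN = 0 := by rw [← slot_mul, hsq, slot_zero]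
  obtain ⟨a, b, hab⟩ : ∃ a b, N a b ≠ 0 := by
    by_contra hcon; push Not at hcon; exact hne (Matrix.ext hcon)
  set v : Fin m → F := N *ᵥ Pi.single b 1
  set φ : Fin m → F := Pi.single a 1 ᵥ* N
  have hr : IsRoot i (NN * slot i (Matrix.single b a 1) * NN) := by
    refine ⟨v, φ, fun e => hab ?_, fun e => hab ?_, ?_, ?_⟩
    · simpa [v, Matrix.mulVec, dotProduct, Pi.single_apply] using congrFun e a
    · simpa [φ, Matrix.vecMul, dotProduct, Pi.single_apply] using congrFun e b
    · rw [← Matrix.dotProduct_mulVec, Matrix.mulVec_mulVec, hsq, Matrix.zero_mulVec, dotProduct_zero]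
    · rw [← slot_mul, ← slot_mul, ← Matrix.mul_vecMulVec, mul_assoc, ← Matrix.vecMulVec_mul,
        Matrix.single_eq_single_vecMulVec_single]
  have hP : IsPGroup p (sandwichGroup M NN hNN) := fun x => ⟨1, Subtype.ext (by
    obtain ⟨X, e⟩ := x.2.2
    rw [pow_one, SubgroupClass.coe_pow, OneMemClass.coe_one]
    refine Units.ext ?_
    rw [Units.val_pow_eq_pow_val, Units.val_one, e]
    refine one_add_pow_char p ?_
    rw [show NN * X * NN * (NN * X * NN) = NN * X * (NN * NN) * (X * NN) by simp only [mul_assoc], hNN, mul_zero,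
      zero_mul])⟩
  refine (hL.local_le hP (fun x hx => hx.1) hr ⟨hL.ctx.root_mem hr, _, rfl⟩).2 g hg fun x hx => ?_
  obtain ⟨hxM, X, e⟩ := hx
  refine ⟨mul_mem (mul_mem hg hxM) (inv_mem hg), cj g X, ?_⟩
  rw [← cj_val, e, map_add, map_one, map_mul, map_mul, h]

theorem IsRoot.slot_eq {i k : Fin s} {R : TMat F m s} (h : IsRoot i R) (X : Matrix (Fin m) (Fin m) F)
    (e : R = slot k X) : i = k := by
  by_contra hne
  obtain ⟨v, φ, hv, hφ, h0, eR⟩ := id h
  set a := Matrix.vecMulVec v φ with ha
  obtain ⟨c, hc⟩ : a ∈ Set.range (Matrix.scalar (Fin m) : F →+* _) :=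
    Matrix.mem_range_scalar_of_commute_single fun x y _ => slot_injective i (by
      rw [slot_mul, slot_mul, ← eR, e, slot_commute hne])
  have h0' : a * a = 0 := by rw [ha, vmv_smul_mul, h0, zero_smul]
  rw [← hc, ← map_mul, ← map_zero (Matrix.scalar (Fin m) : F →+* _)] at h0'
  refine h.ne_zero ?_
  rw [eR, ← hc, mul_self_eq_zero.1 (Matrix.scalar_inj.1 h0'), map_zero, slot_zero]

/-- The two roots of a product are determined. -/
theorem pair_unique {k l i j : Fin s} (hkl : k ≠ l) {P Q a b : TMat F m s} (hP : IsRoot k P) (hQ : IsRoot l Q)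
    (ha : IsRoot i a) (hb : IsRoot j b) (h : (1 + P) * (1 + Q) = (1 + a) * (1 + b)) : P = a ∨ P = b := by
  obtain ⟨v, φ, hv, hφ, h0, eP⟩ := id hP
  obtain ⟨w, ψ, -, -, -, eQ⟩ := id hQ
  have hij : k = i ∨ k = j := by
    by_contra hcon
    push Not at hcon
    obtain ⟨v', φ', -, -, -, ea⟩ := id ha
    obtain ⟨v'', φ'', -, -, -, eb⟩ := id hb
    set A := Matrix.vecMulVec v φ with hA
    obtain ⟨c, hc⟩ : A ∈ Set.range (Matrix.scalar (Fin m) : F →+* _) := by
      refine Matrix.mem_range_scalar_of_commute_single fun x y _ => slot_injective k ?_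
      set E := slot (F := F) k (Matrix.single x y 1)
      have cq : Commute E (1 + Q) := by
        rw [eQ]; exact (Commute.one_right E).add_right (slot_commute hkl _ _)
      have cab : Commute E ((1 + a) * (1 + b)) := by
        rw [ea, eb]
        exact ((Commute.one_right E).add_right (slot_commute hcon.1 _ _)).mul_right
          ((Commute.one_right E).add_right (slot_commute hcon.2 _ _))
      have hu : IsUnit (1 + Q) := ⟨oneAdd Q hQ.sq, rfl⟩
      have : E * (1 + P) * (1 + Q) = (1 + P) * E * (1 + Q) := by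
        rw [mul_assoc, h, cab.eq, ← h, mul_assoc, mul_assoc, cq.eq]
      have := hu.mul_right_cancel this
      rw [mul_add, add_mul, mul_one, one_mul, eP] at this
      rw [slot_mul, slot_mul]
      exact add_left_cancel this
    have h0' : A * A = 0 := by rw [hA, vmv_smul_mul, h0, zero_smul]
    rw [← hc, ← map_mul, ← map_zero (Matrix.scalar (Fin m) : F →+* _)] at h0'
    refine hP.ne_zero ?_
    rw [eP, ← hc, mul_self_eq_zero.1 (Matrix.scalar_inj.1 h0'), map_zero, slot_zero]
  have key : ∀ {i' j' : Fin s} {a b : TMat F m s}, IsRoot i' a → IsRoot j' b → i' ≠ j' → k = i' →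
      (1 + P) * (1 + Q) = (1 + a) * (1 + b) → P = a := by
    rintro i' j' a b ha hb hne rfl h
    obtain ⟨v', φ', -, -, h0', ea⟩ := id ha
    obtain ⟨v'', φ'', -, -, -, eb⟩ := id hb
    set A := Matrix.vecMulVec v φ with hA
    set A' := Matrix.vecMulVec v' φ' with hA'
    have h1 : (1 - a) * (1 + P) = (1 + b) * (1 - Q) := by
      have e1 : (1 - a) * (1 + a) = 1 := (oneAdd a ha.sq).inv_val
      have e2 : (1 + Q) * (1 - Q) = 1 := (oneAdd Q hQ.sq).val_inv
      calc (1 - a) * (1 + P) = (1 - a) * ((1 + P) * (1 + Q)) * (1 - Q) := by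
            rw [mul_assoc, mul_assoc, e2, mul_one]
        _ = _ := by rw [h, ← mul_assoc, e1, one_mul]
    obtain ⟨c, hc⟩ : (1 - A') * (1 + A) ∈ Set.range (Matrix.scalar (Fin m) : F →+* _) := by
      refine Matrix.mem_range_scalar_of_commute_single fun x y _ => slot_injective k ?_
      set E := slot (F := F) k (Matrix.single x y 1)
      have hslot : slot (F := F) k ((1 - A') * (1 + A)) = (1 - a) * (1 + P) := by
        rw [slot_mul, slot_add, slot_one, eP, ea, sub_eq_add_neg, slot_add, slot_one, slot_neg, ← sub_eq_add_neg]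
      rw [slot_mul k (Matrix.single x y (1 : F)), slot_mul k _ (Matrix.single x y (1 : F)), hslot, h1, eQ, eb]
      exact (((Commute.one_right E).add_right (slot_commute hne _ _)).mul_right
        ((Commute.one_right E).sub_right (slot_commute hkl _ _))).eq
    have hslot : (1 - a) * (1 + P) = c • (1 : TMat F m s) := by
      rw [eP, ea, ← slot_one k, sub_eq_add_neg, ← slot_neg, ← slot_add, ← slot_add, ← slot_mul, ← sub_eq_add_neg,
        ← hc, ← slot_smul, Matrix.smul_one_eq_diagonal]
      rfl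
    have hP' : P = (c - 1) • (1 : TMat F m s) + c • a := by
      have : 1 + P = (1 + a) * ((1 - a) * (1 + P)) := by
        rw [← mul_assoc, show (1 + a) * (1 - a) = 1 from (oneAdd a ha.sq).val_inv, one_mul]
      rw [hslot, Matrix.mul_smul, mul_one, smul_add] at this
      rw [sub_smul, one_smul, ← add_sub_cancel_left (1 : TMat F m s) P, this]
      abel
    have hsq := hP.sq
    rw [hP', add_mul, mul_add, mul_add, Matrix.smul_mul, Matrix.mul_smul, one_mul, Matrix.smul_mul, one_mul,
      Matrix.smul_mul, Matrix.mul_smul, mul_one, Matrix.smul_mul, Matrix.mul_smul, ha.sq, smul_zero, smul_zero,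
      add_zero] at hsq
    have h2 := congrArg (· * a) hsq
    simp only [add_mul, Matrix.smul_mul, one_mul, ha.sq, smul_zero, add_zero, zero_mul, smul_smul] at h2
    have hc1 : c = 1 := by
      rcases smul_eq_zero.1 h2 with e | e
      · exact sub_eq_zero.1 (mul_self_eq_zero.1 e)
      · exact absurd e ha.ne_zero
    rw [hP', hc1, sub_self, zero_smul, zero_add, one_smul]
  by_cases hne : i = j
  · subst hne
    obtain rfl : k = i := hij.elim id id
    -- both roots in one slot: the other root would be scalar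
    obtain ⟨v', φ', -, -, -, ea⟩ := id ha
    obtain ⟨v'', φ'', -, -, -, eb⟩ := id hb
    exfalso
    set B := Matrix.vecMulVec w ψ with hB
    obtain ⟨c, hc⟩ : B ∈ Set.range (Matrix.scalar (Fin m) : F →+* _) := by
      refine Matrix.mem_range_scalar_of_commute_single fun x y _ => slot_injective l ?_
      set E := slot (F := F) l (Matrix.single x y 1)
      have cp : Commute E (1 + P) := by
        rw [eP]; exact (Commute.one_right E).add_right (slot_commute hkl.symm _ _)
      have cab : Commute E ((1 + a) * (1 + b)) := by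
        rw [ea, eb]
        exact ((Commute.one_right E).add_right (slot_commute hkl.symm _ _)).mul_right
          ((Commute.one_right E).add_right (slot_commute hkl.symm _ _))
      have hu : IsUnit (1 + P) := ⟨oneAdd P hP.sq, rfl⟩
      have : (1 + P) * (E * (1 + Q)) = (1 + P) * ((1 + Q) * E) := by
        rw [← mul_assoc, ← cp.eq, mul_assoc, h, cab.eq, ← h, mul_assoc]
      have := hu.mul_left_cancel this
      rw [mul_add, add_mul, mul_one, one_mul, eQ] at this
      rw [slot_mul, slot_mul]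
      exact add_left_cancel this
    obtain ⟨w', ψ', -, -, h0'', eQ'⟩ := id hQ
    have h0' : B * B = 0 := slot_injective l (by rw [slot_mul, ← eQ, hQ.sq, slot_zero])
    rw [← hc, ← map_mul, ← map_zero (Matrix.scalar (Fin m) : F →+* _)] at h0'
    refine hQ.ne_zero ?_
    rw [eQ, ← hc, mul_self_eq_zero.1 (Matrix.scalar_inj.1 h0'), map_zero, slot_zero]
  rcases hij with e | e
  · exact Or.inl (key ha hb hne e h)
  · refine Or.inr (key hb ha (Ne.symm hne) e ?_)
    obtain ⟨v', φ', -, -, -, ea⟩ := id ha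
    obtain ⟨v'', φ'', -, -, -, eb⟩ := id hb
    rw [h, ea, eb]
    have c0 : Commute (slot (F := F) i (Matrix.vecMulVec v' φ')) (slot j (Matrix.vecMulVec v'' φ'')) := slot_commute hne _ _
    exact ((Commute.one_right _).add_right ((Commute.one_left _).add_left c0)).eq

theorem oneAdd_sq_one {n : ℕ} (h2 : (2 : F) = 0) {N : TMat F m n} (h : N * N = 0) :
    oneAdd N h * oneAdd N h = 1 := Units.ext (by
  show (1 + N) * (1 + N) = 1
  rw [add_mul, one_mul, mul_add, mul_one, h, add_zero, add_assoc,
    show N + N = (2 : F) • N from (two_smul F N).symm, h2, zero_smul, add_zero])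

theorem slotGL_tv {i : Fin (s + 1)} {N : TMat F m (s + 1)} (h : IsRoot i N) :
    ∃ A : GL (Fin m) F, oneAdd N h.sq = slotGL i A := by
  obtain ⟨v, φ, -, -, h0, e⟩ := id h
  exact ⟨Maximal.tv v φ h0, Units.ext (by rw [root_unit, ← e]; rfl)⟩

theorem oneAdd_inj {n : ℕ} {N N' : TMat F m n} {h : N * N = 0} {h' : N' * N' = 0} (e : oneAdd N h = oneAdd N' h') :
    N = N' := add_left_cancel (congrArg Units.val e : (1 : TMat F m n) + N = 1 + N')

/-- The dichotomy for a root and a conjugate of a root outside the tensor wreath group. -/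
theorem Lev.alt (hL : Lev M) (h2 : (2 : F) = 0) {i ia : Fin (s + 1)} {X a : TMat F m (s + 1)} (hX : IsRoot i X)
    (ha : IsRoot ia a) {g : GL (Fin (s + 1) → Fin m) F} (hg : g ∈ M) (hgs : g ∉ Std F m (s + 1)) :
    ∃ v ∈ Subgroup.closure ({oneAdd X hX.sq, oneAdd (cj g a) (cj_sq g ha.sq)} : Set (GL (Fin (s + 1) → Fin m) F)),
      cj (v * g) a = X ∨ ∃ j, j ≠ i ∧ v * g ∈ Std F m (s + 1) ∧ ∃ hR : IsRoot j (cj (v * g) a),
        Commute v (oneAdd X hX.sq * oneAdd (cj (v * g) a) hR.sq) := by
  set x := oneAdd X hX.sq with hx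
  set y := oneAdd (cj g a) (cj_sq g ha.sq) with hy
  have hxM : x ∈ M := hL.ctx.root_mem hX
  have hyM : y ∈ M := oneAdd_mem_of_root hL ha hg
  have hcl : Subgroup.closure ({x, y} : Set (GL (Fin (s + 1) → Fin m) F)) ≤ M :=
    (Subgroup.closure_le _).2 (Set.pair_subset_iff.2 ⟨hxM, hyM⟩)
  have hr : ∀ v, v * y * v⁻¹ = oneAdd (cj (v * g) a) (cj_sq _ ha.sq) := fun v => Units.ext (by
    rw [hy, oneAdd_conj]
    show 1 + cj v (cj g a) = 1 + cj (v * g) a
    rw [cj_cj])
  rcases dihedral_alt (oneAdd_sq_one h2 hX.sq) (oneAdd_sq_one h2 (cj_sq g ha.sq)) with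
    ⟨v, hv, e⟩ | ⟨v, hv, hP, n, hz1, hz2, hzv, hn⟩
  · exact ⟨v, hv, Or.inl (oneAdd_inj ((hr v).symm.trans e))⟩
  have hvM : v ∈ M := hcl hv
  have : Fact (Nat.Prime 2) := ⟨Nat.prime_two⟩
  have hPM : Subgroup.closure ({x, v * y * v⁻¹} : Set (GL (Fin (s + 1) → Fin m) F)) ≤ M :=
    (Subgroup.closure_le _).2 (Set.pair_subset_iff.2 ⟨hxM, mul_mem (mul_mem hvM hyM) (inv_mem hvM)⟩)
  have hPs := (hL.local_le hP hPM hX (Subgroup.subset_closure (Set.mem_insert _ _))).1
  have hrs : oneAdd (cj (v * g) a) (cj_sq _ ha.sq) ∈ Std F m (s + 1) := by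
    rw [← hr]; exact hPs (Subgroup.subset_closure (Set.mem_insert_of_mem _ rfl))
  have hvg := hL.std_of_conj ha (mul_mem hvM hg) hrs
  obtain ⟨j, hj⟩ := hL.root_in_std ha (mul_mem hvM hg) hrs
  have hji : j ≠ i := fun hji => hgs ?_
  refine ⟨v, hv, Or.inr ⟨j, hji, hvg, hj, ?_⟩⟩
  swap
  · subst hji
    obtain ⟨Ax, eAx⟩ := slotGL_tv hX
    obtain ⟨Ar, eAr⟩ := slotGL_tv hj
    set Z := (Ar * Ax) ^ n with hZ
    have hz : (v * y * v⁻¹ * x) ^ n = slotGL j Z := by
      rw [hr, hx, eAx, hZ, map_pow, map_mul, ← eAr]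
    set N : Matrix (Fin m) (Fin m) F := Z.1 - 1 with hN
    have hNne : N ≠ 0 := fun e => hz1 (by
      rw [hz, show Z = 1 from Units.ext (sub_eq_zero.1 e), map_one])
    have hZZ : Z.1 * Z.1 = 1 := by
      rw [hz, ← map_mul] at hz2
      refine slot_injective j ?_
      rw [slot_one]
      exact congrArg Units.val hz2
    have hNN : N * N = 0 := by
      rw [hN, sub_mul, mul_sub, hZZ, mul_one, one_mul, show (1 : Matrix (Fin m) (Fin m) F) - Z.1 - (Z.1 - 1) =
        (2 : F) • (1 - Z.1) by rw [two_smul]; abel, h2, zero_smul]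
    have hvs : v ∈ Std F m (s + 1) := hL.cent_slot j hNN hNne hvM ((cj_eq_self_iff _ _).2 (by
      rw [hz] at hzv
      have := congrArg Units.val hzv.eq
      rw [Units.val_mul, Units.val_mul, slotGL_val] at this
      rw [hN, sub_eq_add_neg, slot_add, slot_neg, slot_one, mul_add, add_mul, ← this, mul_neg, neg_mul, mul_one,
        one_mul]))
    rw [show g = v⁻¹ * (v * g) by group]
    exact mul_mem (inv_mem hvs) hvg
  · have hcomm : Commute (oneAdd (cj (v * g) a) hj.sq) x := Units.ext (by
      show (1 + cj (v * g) a) * (1 + X) = (1 + X) * (1 + cj (v * g) a)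
      simp only [mul_add, add_mul, one_mul, mul_one, (hj.commute_ne hji hX)]
      abel)
    have h1 := hn (by rw [hr]; exact hcomm)
    rw [h1, pow_one, hr] at hzv
    rw [← hcomm.eq]
    exact hzv.symm

/-- The centraliser of a product of two roots in different slots lies in the tensor wreath group. -/
theorem Lev.cent_pair (hL : Lev M) (h2 : (2 : F) = 0) {i j : Fin (s + 1)} (hij : i ≠ j) {a b : TMat F m (s + 1)}
    (ha : IsRoot i a) (hb : IsRoot j b) {g : GL (Fin (s + 1) → Fin m) F} (hg : g ∈ M)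
    (h : Commute g (oneAdd a ha.sq * oneAdd b hb.sq)) : g ∈ Std F m (s + 1) := by
  by_contra hgs
  have hm := hL.hm
  -- a second root of the slot of `a`
  obtain ⟨o, c, n, hoc, hon, hcn⟩ : ∃ o c n : Fin m, o ≠ c ∧ o ≠ n ∧ c ≠ n :=
    ⟨⟨0, by omega⟩, ⟨1, by omega⟩, ⟨2, by omega⟩, by simp, by simp, by simp⟩
  obtain ⟨A, -, eA⟩ := ha.move hm hoc
  set e2 : Matrix (Fin m) (Fin m) F := cj A⁻¹ (Matrix.single o n 1) with he2
  set X : TMat F m (s + 1) := slot i e2 with hXdef
  have e1 : a = slot i (cj A⁻¹ (Matrix.single o c 1)) := by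
    rw [← slot_conj, ← eA, map_inv, cj_inv_cj]
  have hX : IsRoot i X := by
    refine ⟨_, _, ?_, ?_, ?_, by rw [hXdef, he2, Matrix.single_eq_single_vecMulVec_single, cj_vmv]⟩
    · intro e
      have := Matrix.mulVec_injective_of_isUnit (A⁻¹).isUnit (e.trans (Matrix.mulVec_zero _).symm)
      simp at this
    · intro e
      have := Matrix.vecMul_injective_of_isUnit (A⁻¹)⁻¹.isUnit (e.trans (Matrix.zero_vecMul _).symm)
      simp at this
    · rw [Matrix.dotProduct_mulVec, Matrix.vecMul_vecMul, inv_inv, Units.mul_inv, Matrix.vecMul_one]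
      simp [hon.symm]
  have hXa : X ≠ a := fun e => by
    have := congrFun (congrFun ((cj A⁻¹).injective (slot_injective i (hXdef ▸ e.trans e1))) o) c
    simp [Matrix.single_apply, hcn.symm] at this
  have hXb : X ≠ b := fun e => hij (hX.slot_eq _ (e.trans hb.choose_spec.choose_spec.2.2.2))
  have hXaz : X * a = 0 ∧ a * X = 0 := by
    rw [e1, hXdef, he2, ← slot_mul, ← slot_mul, ← map_mul, ← map_mul, Matrix.single_mul_single_of_ne _ _ _ _ hon.symm,
      Matrix.single_mul_single_of_ne _ _ _ _ hoc.symm, map_zero, slot_zero]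
    exact ⟨rfl, rfl⟩
  have hcx : Commute (oneAdd X hX.sq) (oneAdd a ha.sq * oneAdd b hb.sq) := Commute.mul_right
    (Units.ext (by
      show (1 + X) * (1 + a) = (1 + a) * (1 + X)
      simp only [mul_add, add_mul, one_mul, mul_one, hXaz.1, hXaz.2]; abel))
    (Units.ext (by
      show (1 + X) * (1 + b) = (1 + b) * (1 + X)
      simp only [mul_add, add_mul, one_mul, mul_one, hX.commute_ne hij hb]; abel))
  have hcy : Commute (oneAdd (cj g a) (cj_sq g ha.sq)) (oneAdd a ha.sq * oneAdd b hb.sq) := by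
    rw [← oneAdd_conj g ha.sq]
    have hxz : Commute (oneAdd a ha.sq) (oneAdd a ha.sq * oneAdd b hb.sq) :=
      (Commute.refl _).mul_right (Units.ext (by
        show (1 + a) * (1 + b) = (1 + b) * (1 + a)
        simp only [mul_add, add_mul, one_mul, mul_one, ha.commute_ne hij hb]; abel))
    exact (h.mul_left hxz).mul_left h.inv_left
  obtain ⟨v, hv, hcase⟩ := hL.alt h2 hX ha hg hgs
  have hvM : v ∈ M := (Subgroup.closure_le _).2 (Set.pair_subset_iff.2
    ⟨hL.ctx.root_mem hX, oneAdd_mem_of_root hL ha hg⟩) hv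
  have hvz : Commute v (oneAdd a ha.sq * oneAdd b hb.sq) := by
    have hle : Subgroup.closure ({oneAdd X hX.sq, oneAdd (cj g a) (cj_sq g ha.sq)} : Set (GL (Fin (s + 1) → Fin m) F)) ≤
        Subgroup.centralizer {oneAdd a ha.sq * oneAdd b hb.sq} := (Subgroup.closure_le _).2 (Set.pair_subset_iff.2
      ⟨Subgroup.mem_centralizer_singleton_iff.2 hcx.eq, Subgroup.mem_centralizer_singleton_iff.2 hcy.eq⟩)
    exact Subgroup.mem_centralizer_singleton_iff.1 (hle hv)
  -- the images of the two roots
  have himg : ∀ (hs : v * g ∈ Std F m (s + 1)) {k} (hk : IsRoot k (cj (v * g) a)),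
      cj (v * g) a = a ∨ cj (v * g) a = b := by
    intro hs k hk
    obtain ⟨π, _, -, hπ⟩ := exists_rep_of_std hs
    obtain ⟨l, hl⟩ := hL.root_in_std hb (mul_mem hvM hg) (by
      rw [← oneAdd_conj _ hb.sq]
      obtain ⟨B, eB⟩ := slotGL_tv hb
      exact mul_mem (mul_mem hs (eB ▸ slotGL_mem j B)) (inv_mem hs))
    obtain ⟨va, φa, -, -, -, ea⟩ := id ha
    obtain ⟨vb, φb, -, -, -, eb⟩ := id hb
    obtain ⟨a', ha'⟩ := hπ i (Matrix.vecMulVec va φa)
    obtain ⟨b', hb'⟩ := hπ j (Matrix.vecMulVec vb φb)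
    have e1 := hk.slot_eq a' (by rw [← ha', ← ea])
    have e2 := hl.slot_eq b' (by rw [← hb', ← eb])
    refine pair_unique (fun e => hij (π.injective (by rw [← e1, ← e2, e]))) hk hl ha hb ?_
    have := (hvz.mul_left h).eq
    have h3 : (v * g) * (oneAdd a ha.sq * oneAdd b hb.sq) * (v * g)⁻¹ = oneAdd a ha.sq * oneAdd b hb.sq := by
      rw [this, mul_inv_cancel_right]
    have h4 := congrArg Units.val h3
    rw [← cj_val, Units.val_mul, map_mul] at h4
    rw [show (1 : TMat F m (s + 1)) + cj (v * g) a = cj (v * g) (1 + a) by rw [cj_oneAdd],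
      show (1 : TMat F m (s + 1)) + cj (v * g) b = cj (v * g) (1 + b) by rw [cj_oneAdd]]
    exact h4
  rcases hcase with e | ⟨k, hk, hs, hR, hcomm⟩
  · have hs : v * g ∈ Std F m (s + 1) := hL.std_of_conj ha (mul_mem hvM hg) (by
      obtain ⟨B, eB⟩ := slotGL_tv hX
      rw [show oneAdd (cj (v * g) a) (cj_sq _ ha.sq) = oneAdd X hX.sq from Units.ext (by
        show 1 + cj (v * g) a = 1 + X; rw [e]), eB]
      exact slotGL_mem i B)
    rcases himg hs (e ▸ hX : IsRoot i (cj (v * g) a)) with e' | e'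
    · exact hXa (e.symm.trans e')
    · exact hXb (e.symm.trans e')
  · rcases himg hs hR with e' | e'
    · obtain ⟨va, φa, -, -, -, ea⟩ := id ha
      exact hk (hR.slot_eq _ (e'.trans ea))
    · -- the element commutes with a single-slot involution
      have hRb : oneAdd (cj (v * g) a) hR.sq = oneAdd b hb.sq := Units.ext (by show 1 + _ = 1 + b; rw [e'])
      rw [hRb] at hcomm
      have hXA : Commute v (oneAdd X hX.sq * oneAdd a ha.sq) := by
        have := hcomm.mul_right hvz.inv_right
        rwa [_root_.mul_inv_rev, mul_assoc, mul_inv_cancel_left,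
          inv_eq_of_mul_eq_one_right (oneAdd_sq_one h2 ha.sq)] at this
      have hval : ((oneAdd X hX.sq * oneAdd a ha.sq : GL (Fin (s + 1) → Fin m) F) : TMat F m (s + 1)) = 1 + (X + a) := by
        show (1 + X) * (1 + a) = 1 + (X + a)
        simp only [mul_add, add_mul, one_mul, mul_one, hXaz.1]; abel
      have hv' : cj v (X + a) = X + a := (cj_eq_self_iff _ _).2 (by
        have := congrArg Units.val hXA.eq
        rw [Units.val_mul v, Units.val_mul _ v, hval] at this
        rw [mul_add, mul_one, add_mul, one_mul] at this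
        exact add_left_cancel this)
      rw [hXdef, e1, ← slot_add] at hv'
      have hsing := hL.cent_slot i (N := e2 + cj A⁻¹ (Matrix.single o c 1)) (by
        rw [he2, ← map_add, ← map_mul, show (Matrix.single o n (1 : F) + Matrix.single o c 1) *
          (Matrix.single o n 1 + Matrix.single o c 1) = 0 by
            simp [add_mul, mul_add, Matrix.single_mul_single_of_ne, hon.symm, hoc.symm], map_zero]) (fun e => by
        rw [he2, ← map_add] at e
        have := congrFun (congrFun ((cj A⁻¹).injective (e.trans (map_zero _).symm)) o) c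
        simp [Matrix.single_apply, hcn.symm] at this) hvM hv'
      exact hgs (by rw [show g = v⁻¹ * (v * g) by group]; exact mul_mem (inv_mem hsing) hs)

/-- A conjugate of a root outside is conjugate to every root. -/
theorem Lev.conj_two (hL : Lev M) (h2 : (2 : F) = 0) {i ia : Fin (s + 1)} {X a : TMat F m (s + 1)} (hX : IsRoot i X)
    (ha : IsRoot ia a) {g : GL (Fin (s + 1) → Fin m) F} (hg : g ∈ M) (hgs : g ∉ Std F m (s + 1)) :
    ∃ v ∈ Subgroup.closure ({oneAdd X hX.sq, oneAdd (cj g a) (cj_sq g ha.sq)} : Set (GL (Fin (s + 1) → Fin m) F)),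
      cj (v * g) a = X := by
  obtain ⟨v, hv, hcase⟩ := hL.alt h2 hX ha hg hgs
  rcases hcase with e | ⟨k, hk, hs, hR, hcomm⟩
  · exact ⟨v, hv, e⟩
  · exfalso
    have hvM : v ∈ M := (Subgroup.closure_le _).2 (Set.pair_subset_iff.2
      ⟨hL.ctx.root_mem hX, oneAdd_mem_of_root hL ha hg⟩) hv
    exact hgs (by
      rw [show g = v⁻¹ * (v * g) by group]
      exact mul_mem (inv_mem (hL.cent_pair h2 hk.symm hX hR hvM hcomm)) hs)

end CfsgLib.TensorWreathSL
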