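import Cfsg.Agent.Lib.TensorWreathSL.Odd
import Cfsg.Agent.Lib.TensorWreath.Grow
import Cfsg.Agent.Lib.Maximal.Transvec

/-!
A group containing the special linear group of each slot, closed under three-cycles of the slots, and containing one
root element twisted by a non-scalar coefficient contains the whole special linear group.
-/

set_option autoImplicit false
set_option linter.unusedSectionVars false

namespace CfsgLib.TensorWreathSL

open Cfsg Cfsg.Geo CfsgLib.Aschbacher CfsgLib.AschbacherForm CfsgLib.TensorWreath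
open scoped Matrix MatrixGroups

variable {F : Type*} [Field F] [Finite F] {m s : ℕ} [NeZero m]

/-- Square-zero products in order give their product. -/
theorem comm_one_add {E : Type*} [Ring E] {P Q : E} (hP : P * P = 0) (hQ : Q * Q = 0) (hQP : Q * P = 0) :
    (1 + P) * (1 + Q) * (1 - P) * (1 - Q) = 1 + P * Q := by
  have e : P * Q * P = 0 := by rw [mul_assoc, hQP, mul_zero]
  have e2 : P * Q * Q = 0 := by rw [mul_assoc, hQ, mul_zero]
  simp only [add_mul, mul_add, one_mul, mul_one, mul_sub, sub_mul, hP, hQ, hQP, zero_mul, mul_zero, e, e2]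
  abel

/-- The isolation of one entry by three difference operators. -/
theorem triple_diff {E : Type*} [Ring E] {N N' L Y : E} (h1 : N' * N = 0) (h2 : N * N' = 0) (h3 : L * N' = 0)
    (h4 : L * N = 0) (h5 : N * L = 0) (h6 : N' * L = N) (D : E → E → E)
    (hD : ∀ A B, D A B = (1 + A) * B * (1 - A) - B) : D L (D N' (D N Y)) = N * Y * N := by
  have hD' : ∀ A B, D A B = A * B - B * A - A * B * A := fun A B => by
    rw [hD]; simp only [add_mul, one_mul, mul_sub, mul_one]; abel
  have q1 : ∀ Z, N' * (N * Z) = 0 := fun Z => by rw [← mul_assoc, h1, zero_mul]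
  have q3 : ∀ Z, L * (N' * Z) = 0 := fun Z => by rw [← mul_assoc, h3, zero_mul]
  have q4 : ∀ Z, L * (N * Z) = 0 := fun Z => by rw [← mul_assoc, h4, zero_mul]
  simp only [hD', mul_sub, sub_mul, mul_assoc, q1, q3, q4, h1, h2, h3, h4, h5, h6, mul_zero, zero_mul, sub_zero, zero_sub,
    mul_neg, neg_mul, neg_neg]
  abel

theorem pure'_zero_of {a : Fin s → Matrix (Fin m) (Fin m) F} (j : Fin s) (h : a j = 0) : pure' a = 0 := by
  ext x y
  exact Finset.prod_eq_zero (Finset.mem_univ j) (by simp [h])

theorem pure'_single (x y : Fin s → Fin m) :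
    (pure' fun j => Matrix.single (x j) (y j) (1 : F)) = Matrix.single x y 1 := by
  ext a b
  simp only [pure', Matrix.of_apply, Matrix.single_apply]
  by_cases h : x = a ∧ y = b
  · rw [if_pos h]; obtain ⟨rfl, rfl⟩ := h; simp
  · rw [if_neg h]
    obtain ⟨j, hj⟩ : ∃ j, ¬(x j = a j ∧ y j = b j) := by
      by_contra hc
      push Not at hc
      exact h ⟨funext fun j => (hc j).1, funext fun j => (hc j).2⟩
    exact Finset.prod_eq_zero (Finset.mem_univ j) (if_neg hj)

theorem cj_pure (A : Fin s → GL (Fin m) F) (B : Fin s → Matrix (Fin m) (Fin m) F) :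
    cj (pureGL A) (pure' B) = pure' fun j => cj (A j) (B j) := by
  rw [cj_apply]
  show pure' _ * pure' B * pure' _ = _
  rw [pure'_mul, pure'_mul]
  exact congrArg pure' (funext fun j => (cj_apply _ _).symm)

theorem cent_pure {j : Fin s} {B : Fin s → Matrix (Fin m) (Fin m) F} (h : B j = 1) : Cent j (pure' B) := fun A => by
  rw [slot_eq_pure, pure'_mul, pure'_mul]
  congr 1
  funext l
  rcases eq_or_ne l j with rfl | hl <;> simp [*]

theorem smul_pure' (j : Fin s) (x : F) (B : Fin s → Matrix (Fin m) (Fin m) F) :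
    x • pure' B = pure' (Function.update B j (x • B j)) := by
  rw [show x • pure' B = slot j (x • (1 : Matrix (Fin m) (Fin m) F)) * pure' B by
    rw [slot_smul, slot_one, Matrix.smul_mul, one_mul], slot_eq_pure, pure'_mul]
  congr 1
  funext l
  rcases eq_or_ne l j with rfl | hl <;> simp [*]

/-- A tensor supported on some slots. -/
def supp (T : Finset (Fin s)) (B : Fin s → Matrix (Fin m) (Fin m) F) : TMat F m s :=
  pure' fun j => if j ∈ T then B j else 1

theorem supp_insert {j : Fin s} {T : Finset (Fin s)} (hj : j ∉ T) (B : Fin s → Matrix (Fin m) (Fin m) F) :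
    supp (insert j T) B = supp T B * slot j (B j) := by
  rw [supp, supp, slot_eq_pure, pure'_mul]
  congr 1
  funext l
  rcases eq_or_ne l j with rfl | hl <;> simp [*]

theorem supp_comm {T : Finset (Fin s)} (B : Fin s → Matrix (Fin m) (Fin m) F) {Q : TMat F m s}
    (h : ∀ j ∈ T, Cent j Q) : supp T B * Q = Q * supp T B := by
  induction T using Finset.induction_on with
  | empty => simp [supp, pure'_one]
  | insert j T hj ih =>
    rw [supp_insert hj, mul_assoc, h j (Finset.mem_insert_self _ _) (B j), ← mul_assoc,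
      ih fun l hl => h l (Finset.mem_insert_of_mem hl), mul_assoc]

variable {M : Subgroup (GL (Fin s → Fin m) F)}

theorem pureGL_memM (hsl : ∀ i (A : GL (Fin m) F), (A : Matrix (Fin m) (Fin m) F).det = 1 → slotGL i A ∈ M)
    (A : Fin s → GL (Fin m) F) (hA : ∀ j, (A j : Matrix (Fin m) (Fin m) F).det = 1) : pureGL A ∈ M := by
  classical
  suffices ∀ T : Finset (Fin s), pureGL (fun j => if j ∈ T then A j else 1) ∈ M by simpa using this Finset.univ
  intro T
  induction T using Finset.induction_on with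
  | empty =>
    convert one_mem M
    exact Units.ext (by show pure' _ = _; simpa using pure'_one)
  | insert j T hj ih =>
    convert mul_mem (hsl j (A j) (hA j)) ih
    refine Units.ext ?_
    rw [Units.val_mul, slotGL_val]
    show pure' _ = slot j _ * pure' _
    rw [slot_eq_pure, pure'_mul]
    congr 1
    funext l
    rcases eq_or_ne l j with rfl | hl <;> simp [*]

/-- All root patterns on a set of slots give elements of the group. -/
def Good (M : Subgroup (GL (Fin s → Fin m) F)) (T : Finset (Fin s)) : Prop :=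
  ∀ v φ : Fin s → Fin m → F, (∀ j ∈ T, v j ≠ 0 ∧ φ j ≠ 0 ∧ φ j ⬝ᵥ v j = 0) →
    InM M (1 + supp T fun j => Matrix.vecMulVec (v j) (φ j))

theorem inM_sub {E : Type*} [Ring E] {M : Subgroup Eˣ} {N : E} (h : InM M (1 + N)) (hN : N * N = 0) :
    InM M (1 - N) := by
  obtain ⟨g, hg, e⟩ := h
  refine ⟨g⁻¹, inv_mem hg, left_inv_eq_right_inv (Units.inv_mul g) ?_⟩
  rw [e, add_mul, one_mul, mul_sub, mul_one, hN, sub_zero, sub_add_cancel]

theorem InM.cj' {M : Subgroup (GL (Fin s → Fin m) F)} {g : GL (Fin s → Fin m) F} (hg : g ∈ M) {N : TMat F m s}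
    (h : InM M (1 + N)) : InM M (1 + cj g N) := by
  have := InM.conj hg h
  rwa [← cj_apply, cj_oneAdd] at this

theorem good_of_pat (hm : 3 ≤ m)
    (hsl : ∀ i (A : GL (Fin m) F), (A : Matrix (Fin m) (Fin m) F).det = 1 → slotGL i A ∈ M)
    {T : Finset (Fin s)} (hT : T.Nonempty) {o c : Fin m} (hoc : o ≠ c) {x : F} (hx : x ≠ 0)
    (h : InM M (1 + x • supp T fun _ => Matrix.single o c (1 : F))) : Good M T := by
  classical
  intro v φ hv
  obtain ⟨j0, hj0⟩ := hT
  set v' := Function.update v j0 (x⁻¹ • v j0) with hv'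
  have hA : ∀ j, ∃ A : GL (Fin m) F, (A : Matrix (Fin m) (Fin m) F).det = 1 ∧
      (j ∈ T → cj A (Matrix.vecMulVec (v' j) (φ j)) = Matrix.single o c 1) := by
    intro j
    by_cases hj : j ∈ T
    · obtain ⟨h1, h2, h3⟩ := hv j hj
      have hne : v' j ≠ 0 ∧ φ j ⬝ᵥ v' j = 0 := by
        rcases eq_or_ne j j0 with rfl | hne
        · simp [hv', hx, h1, h3]
        · simp [hv', hne, h1, h3]
      obtain ⟨A, hA, e⟩ := exists_move hm hne.1 h2 hne.2 hoc
      exact ⟨A, hA, fun _ => e⟩
    · exact ⟨1, by simp, fun h' => absurd h' hj⟩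
  choose A hdet hA using hA
  have key := InM.cj' (pureGL_memM hsl (fun j => (A j)⁻¹) fun j => by
    rw [Matrix.coe_units_inv, Matrix.det_nonsing_inv, hdet, Ring.inverse_one]) h
  convert key using 2
  rw [map_smul, supp, supp, cj_pure, smul_pure' j0]
  congr 1
  funext j
  by_cases hj : j ∈ T
  · have e := congrArg (cj (A j)⁻¹) (hA j hj)
    rw [cj_inv_cj] at e
    rcases eq_or_ne j j0 with rfl | hne
    · rw [Function.update_self, if_pos hj, if_pos hj, ← e, hv', Function.update_self, Matrix.smul_vecMulVec,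
        smul_smul, mul_inv_cancel₀ hx, one_smul]
    · rw [Function.update_of_ne hne, if_pos hj, if_pos hj, ← e, hv', Function.update_of_ne hne]
  · rw [Function.update_of_ne (show j ≠ j0 from fun e => hj (e ▸ hj0)), if_neg hj, if_neg hj, map_one]

/-- Two intersecting patterns give their union. -/
theorem Good.union (hm : 3 ≤ m)
    (hsl : ∀ i (A : GL (Fin m) F), (A : Matrix (Fin m) (Fin m) F).det = 1 → slotGL i A ∈ M)
    {T U : Finset (Fin s)} (hT : Good M T) (hU : Good M U) (h : (T ∩ U).Nonempty) : Good M (T ∪ U) := by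
  classical
  obtain ⟨w, hw⟩ := h
  rw [Finset.mem_inter] at hw
  set o : Fin m := 0
  obtain ⟨c, hco⟩ : ∃ c, c ≠ o := ⟨⟨1, by omega⟩, fun e => by simp [o, Fin.ext_iff] at e⟩
  obtain ⟨n, hno, hnc⟩ := Fin.exists_ne_and_ne_of_two_lt o c hm
  let v1 : Fin s → Fin m → F := fun _ => Pi.single o 1
  let φ1 : Fin s → Fin m → F := fun j => Pi.single (if j ∈ U then n else c) 1
  let v2 : Fin s → Fin m → F := fun j => Pi.single (if j ∈ T then n else o) 1
  let φ2 : Fin s → Fin m → F := fun _ => Pi.single c 1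
  have h1 := hT v1 φ1 fun j _ => by
    simp only [v1, φ1]
    split_ifs <;> simp [hno, hno.symm, hco, hco.symm]
  have h2 := hU v2 φ2 fun j _ => by
    simp only [v2, φ2]
    split_ifs <;> simp [hnc, hnc.symm, hco, hco.symm]
  set P := supp T fun j => Matrix.vecMulVec (v1 j) (φ1 j) with hP
  set Q := supp U fun j => Matrix.vecMulVec (v2 j) (φ2 j) with hQ
  have hPP : P * P = 0 := by
    rw [hP, supp, pure'_mul]
    refine pure'_zero_of w ?_
    simp [hw.1, hw.2, v1, φ1, vmv_smul_mul, hno]
  have hQQ : Q * Q = 0 := by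
    rw [hQ, supp, pure'_mul]
    refine pure'_zero_of w ?_
    simp [hw.1, hw.2, v2, φ2, vmv_smul_mul, hnc.symm]
  have hQP : Q * P = 0 := by
    rw [hP, hQ, supp, supp, pure'_mul]
    refine pure'_zero_of w ?_
    simp [hw.1, hw.2, v1, φ1, v2, φ2, vmv_smul_mul, hco]
  have e : P * Q = supp (T ∪ U) fun _ => Matrix.single o c (1 : F) := by
    rw [hP, hQ, supp, supp, supp, pure'_mul]
    congr 1
    funext j
    by_cases hjT : j ∈ T <;> by_cases hjU : j ∈ U <;>
      simp [hjT, hjU, v1, φ1, v2, φ2, vmv_smul_mul, Matrix.single_eq_single_vecMulVec_single]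
  have key := ((InM.mul (InM.mul (InM.mul h1 h2) (inM_sub h1 hPP)) (inM_sub h2 hQQ)))
  rw [comm_one_add hPP hQQ hQP, e, ← one_smul F (supp (T ∪ U) _)] at key
  exact good_of_pat hm hsl ⟨w, Finset.mem_union_left _ hw.1⟩ hco.symm one_ne_zero key

theorem smul_single_one (x y : Fin s → Fin m) (a : F) :
    a • Matrix.single x y (1 : F) = Matrix.single x y a := by rw [Matrix.smul_single, smul_eq_mul, mul_one]

/-- A pattern on all slots gives all elementary transvections. -/
theorem Good.sl_le (hm : 3 ≤ m) (hs : 0 < s) (h : Good M (Finset.univ : Finset (Fin s))) :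
    specialLinear (Fin s → Fin m) F ≤ M := by
  classical
  have hfar : ∀ (x y : Fin s → Fin m) (a : F), (∀ j, x j ≠ y j) → InM M (1 + Matrix.single x y a) := by
    intro x y a hxy
    rcases eq_or_ne a 0 with rfl | ha
    · rw [Matrix.single_zero, add_zero]; exact InM.one
    let j0 : Fin s := ⟨0, hs⟩
    have := h (Function.update (fun j => Pi.single (x j) 1) j0 (a • Pi.single (x j0) 1)) (fun j => Pi.single (y j) 1)
      fun j _ => by
        rcases eq_or_ne j j0 with rfl | hj
        · simp [ha, (hxy j0).symm]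
        · simp [hj, (hxy j).symm]
    convert this using 2
    rw [← smul_single_one, ← pure'_single, smul_pure' j0, supp]
    congr 1
    funext j
    rcases eq_or_ne j j0 with rfl | hj
    · simp [Matrix.smul_vecMulVec, Matrix.single_eq_single_vecMulVec_single]
    · simp [hj, Matrix.single_eq_single_vecMulVec_single]
  refine Maximal.specialLinear_le_of_elem M fun x y hxy a hh => ?_
  obtain ⟨z, hz⟩ : ∃ z : Fin s → Fin m, ∀ j, z j ≠ x j ∧ z j ≠ y j :=
    ⟨fun j => (Fin.exists_ne_and_ne_of_two_lt (x j) (y j) hm).choose,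
      fun j => (Fin.exists_ne_and_ne_of_two_lt (x j) (y j) hm).choose_spec⟩
  have hxz : x ≠ z := fun e => (hz ⟨0, hs⟩).1 (by rw [e])
  have hzy : z ≠ y := fun e => (hz ⟨0, hs⟩).2 (by rw [e])
  set P := Matrix.single x z a
  set Q := Matrix.single z y (1 : F)
  have hPP : P * P = 0 := Matrix.single_mul_single_of_ne _ _ _ _ hxz.symm _
  have hQQ : Q * Q = 0 := Matrix.single_mul_single_of_ne _ _ _ _ hzy.symm _
  have hQP : Q * P = 0 := Matrix.single_mul_single_of_ne _ _ _ _ hxy.symm _
  have hPi := hfar x z a fun j => (hz j).1.symm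
  have hQi := hfar z y 1 fun j => (hz j).2
  have key := InM.mul (InM.mul (InM.mul hPi hQi) (inM_sub hPi hPP)) (inM_sub hQi hQQ)
  rw [comm_one_add hPP hQQ hQP, Matrix.single_mul_single_same, mul_one] at key
  obtain ⟨g, hg, e⟩ := key
  convert hg
  refine Units.ext ?_
  rw [e, Maximal.tv_val]
  congr 1
  ext p q
  rw [Matrix.vecMulVec_apply]
  by_cases hp : x = p
  · subst hp
    by_cases hq : y = q
    · subst hq; rw [Matrix.single_apply_same, Pi.single_eq_same, Pi.single_eq_same, one_mul]
    · rw [Matrix.single_apply_of_col_ne _ _ hq, Pi.single_eq_of_ne (Ne.symm hq), mul_zero]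
  · rw [Matrix.single_apply_of_row_ne hp, Pi.single_eq_of_ne (Ne.symm hp), zero_mul]

/-- A coefficient commuting with all slots is a scalar. -/
theorem eq_scalar_of_cent : ∀ {n : ℕ} {Q : TMat F m n}, (∀ j, Cent j Q) → ∃ a : F, Q = a • 1
  | 0, Q, _ => ⟨Q default default, Matrix.ext fun x y => by
      obtain rfl := Subsingleton.elim x default
      obtain rfl := Subsingleton.elim y default
      rw [Matrix.smul_apply, Matrix.one_apply_eq, smul_eq_mul, mul_one]⟩
  | n + 1, Q, h => by
    obtain ⟨Q', rfl⟩ := (cent_iff 0 Q).1 (h 0)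
    obtain ⟨a, rfl⟩ := eq_scalar_of_cent (n := n) (Q := Q') fun j A => embM_injective 0 (by
      rw [map_mul, map_mul, embM_slot]; exact h _ A)
    exact ⟨a, by rw [map_smul, map_one]⟩

section

variable {M : Subgroup (GL (Fin (s + 1) → Fin m) F)}

/-- The state of the descent: a pattern with a coefficient. -/
def Twist (M : Subgroup (GL (Fin (s + 1) → Fin m) F)) (o c : Fin m) (T : Finset (Fin (s + 1)))
    (Q : TMat F m (s + 1)) : Prop :=
  (∀ j ∈ T, Cent j Q) ∧ InM M (1 + supp T (fun _ => Matrix.single o c (1 : F)) * Q)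

theorem blk_slot_sandwich (j : Fin (s + 1)) (a b : Fin m) (Y : TMat F m (s + 1)) :
    slot j (Matrix.single a b (1 : F)) * Y * slot j (Matrix.single a b 1) =
      slot j (Matrix.single a b 1) * embM j (blk j Y b a) := by
  refine (blk j).injective ?_
  rw [map_mul, map_mul, map_mul, blk_slot_self, blk_embM, up_single, one_smul, Matrix.single_mul_mul_single,
    one_mul, mul_one]
  ext k l : 2
  rw [mul_dg_apply, Matrix.single_apply, Matrix.single_apply]
  split_ifs <;> simp

theorem slot_tvS_cj (j : Fin (s + 1)) {a b : Fin m} (h : a ≠ b) (Y : TMat F m (s + 1)) :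
    cj (slotGL j (tvS a b h)) Y =
      (1 + slot j (Matrix.single a b 1)) * Y * (1 - slot j (Matrix.single a b 1)) := by
  rw [cj_apply, ← map_inv, slotGL_val, slotGL_val, tvS_val, tvS_inv_val, slot_add, slot_one, sub_eq_add_neg,
    slot_add, slot_one, slot_neg, ← sub_eq_add_neg]

/-- One step of the descent. -/
theorem Twist.step (hm : 3 ≤ m)
    (hsl : ∀ i (A : GL (Fin m) F), (A : Matrix (Fin m) (Fin m) F).det = 1 → slotGL i A ∈ M)
    {o c : Fin m} (hoc : o ≠ c) {T : Finset (Fin (s + 1))} (hT : T.Nonempty) {Q : TMat F m (s + 1)}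
    (h : Twist M o c T Q) {j : Fin (s + 1)} (hj : j ∉ T) (hQ : ¬ Cent j Q) :
    ∃ Q', Q' ≠ 0 ∧ Twist M o c (insert j T) Q' := by
  classical
  set P := supp T (fun _ => Matrix.single o c (1 : F)) with hP
  have hPP : P * P = 0 := by
    obtain ⟨w, hw⟩ := hT
    rw [hP, supp, pure'_mul]
    exact pure'_zero_of w (by simp [hw, hoc.symm])
  have hcentP : Cent j P := cent_pure (by simp [hj])
  have hsq : ∀ {A B : TMat F m (s + 1)}, (∀ t ∈ T, Cent t A) → P * A * (P * B) = 0 := fun {A B} hA => by
    rw [mul_assoc, ← mul_assoc A P, ← supp_comm _ hA, mul_assoc, ← mul_assoc, hPP, zero_mul]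
  have hadd : ∀ {A B}, Twist M o c T A → Twist M o c T B → Twist M o c T (A - B) := fun {A B} hA hB => by
    refine ⟨fun t ht S => by rw [mul_sub, sub_mul, hA.1 t ht S, hB.1 t ht S], ?_⟩
    convert InM.mul hA.2 (inM_sub hB.2 (hsq hB.1)) using 1
    rw [add_mul, one_mul, mul_sub (P * A), mul_one, hsq hA.1, mul_sub]
    abel
  have hconj : ∀ {A} (B : GL (Fin m) F), (B : Matrix (Fin m) (Fin m) F).det = 1 → Twist M o c T A →
      Twist M o c T (cj (slotGL j B) A) := fun {A} B hB hA => by
    refine ⟨fun t ht S => ?_, ?_⟩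
    · have htj : t ≠ j := fun e => hj (e ▸ ht)
      rw [← slot_conj_ne htj.symm B S, ← map_mul, hA.1 t ht S, map_mul]
    · have hfix : cj (slotGL j B) P = P := (cj_eq_self_iff _ _).2 (hcentP _)
      have := InM.cj' (hsl j B hB) hA.2
      rwa [map_mul, ← hP, hfix] at this
  have hD : ∀ {A} {a b : Fin m} (hab : a ≠ b), Twist M o c T A → Twist M o c T
      ((1 + slot j (Matrix.single a b 1)) * A * (1 - slot j (Matrix.single a b 1)) - A) := fun {A a b} hab hA => by
    rw [← slot_tvS_cj j hab]
    exact hadd (hconj _ (tvS_det a b hab) hA) hA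
  -- an off-diagonal block
  obtain ⟨Y, hY, a, b, hab, hne⟩ : ∃ Y, Twist M o c T Y ∧ ∃ a b, a ≠ b ∧ blk j Y b a ≠ 0 := by
    by_cases hoff : ∃ a b, a ≠ b ∧ blk j Q b a ≠ 0
    · exact ⟨Q, h, hoff⟩
    push Not at hoff
    obtain ⟨a, ha⟩ : ∃ a, blk j Q a a ≠ blk j Q o o := by
      by_contra hcon
      push Not at hcon
      refine hQ ((cent_iff j Q).2 ⟨blk j Q o o, (blk j).injective ?_⟩)
      rw [blk_embM]
      refine Matrix.ext fun k l => ?_
      rw [dg_apply]
      split_ifs with hkl
      · subst hkl; exact hcon k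
      · exact hoff l k (Ne.symm hkl)
    have hao : a ≠ o := fun e => ha (by rw [e])
    refine ⟨_, hconj _ (tvS_det o a hao.symm) h, a, o, hao, ?_⟩
    rw [slot_tvS_cj, map_mul, map_mul, map_add, map_sub, map_one, blk_slot_self, up_single, one_smul]
    simp only [add_mul, one_mul, mul_sub, mul_one, Matrix.sub_apply, Matrix.add_apply,
      Matrix.single_mul_apply_same, Matrix.mul_single_apply_same, Matrix.single_mul_mul_single, Matrix.single_apply_same,
      hoff o a hao.symm, hoff a o hao, zero_add, add_zero, one_mul, mul_one, sub_zero]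
    exact sub_ne_zero.2 ha
  obtain ⟨d, hda, hdb⟩ := Fin.exists_ne_and_ne_of_two_lt a b hm
  set N := slot j (Matrix.single a b (1 : F)) with hN
  have hmul : ∀ (p q u w : Fin m), slot j (Matrix.single p q (1 : F)) * slot j (Matrix.single u w 1) =
      slot j (Matrix.single p q 1 * Matrix.single u w 1) := fun p q u w => (slot_mul _ _ _).symm
  have hR := hD (a := d) (b := b) hdb (hD (a := a) (b := d) hda.symm (hD hab hY))
  rw [triple_diff (N := N) (N' := slot j (Matrix.single a d 1)) (L := slot j (Matrix.single d b 1))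
    (by rw [hN, hmul, Matrix.single_mul_single_of_ne _ _ _ _ hda, slot_zero])
    (by rw [hN, hmul, Matrix.single_mul_single_of_ne _ _ _ _ hab.symm, slot_zero])
    (by rw [hmul, Matrix.single_mul_single_of_ne _ _ _ _ hab.symm, slot_zero])
    (by rw [hN, hmul, Matrix.single_mul_single_of_ne _ _ _ _ hab.symm, slot_zero])
    (by rw [hN, hmul, Matrix.single_mul_single_of_ne _ _ _ _ hdb.symm, slot_zero])
    (by rw [hN, hmul, Matrix.single_mul_single_same, mul_one])
    (fun A B => (1 + A) * B * (1 - A) - B) (fun _ _ => rfl), hN, blk_slot_sandwich] at hR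
  refine ⟨embM j (blk j Y b a), ?_, ?_, ?_⟩
  · rw [← map_zero (embM (F := F) (m := m) j)]
    exact fun e => hne (embM_injective j e)
  · intro t ht
    rcases Finset.mem_insert.1 ht with rfl | ht
    · exact (cent_iff _ _).2 ⟨_, rfl⟩
    · obtain ⟨t', rfl⟩ := Fin.exists_succAbove_eq (show t ≠ j from fun e => hj (e ▸ ht))
      intro S
      rw [← embM_slot, ← map_mul, ← map_mul]
      congr 1
      have e := congrFun (congrFun (congrArg (blk j) (hY.1 _ ht S)) b) a
      rwa [map_mul, map_mul, blk_slot_succ, dg_mul_apply, mul_dg_apply] at e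
  · obtain ⟨A, hA, e⟩ := (isRoot_single (F := F) j hab).move hm hoc
    have := InM.cj' (hsl j A hA) hR.2
    have hfix : cj (slotGL j A) (embM j (blk j Y b a)) = embM j (blk j Y b a) :=
      (cj_eq_self_iff _ _).2 (slot_embM_comm j _ _)
    rw [map_mul, map_mul, ← hP, (cj_eq_self_iff (slotGL j A) P).2 (hcentP _), e, hfix, ← mul_assoc] at this
    rwa [supp_insert hj]

/-- The descent. -/
theorem Twist.exists_good (hm : 3 ≤ m)
    (hsl : ∀ i (A : GL (Fin m) F), (A : Matrix (Fin m) (Fin m) F).det = 1 → slotGL i A ∈ M)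
    {o c : Fin m} (hoc : o ≠ c) : ∀ (k : ℕ) {T : Finset (Fin (s + 1))} {Q : TMat F m (s + 1)},
      s + 1 - T.card ≤ k → T.Nonempty → Q ≠ 0 → Twist M o c T Q → ∃ U, T ⊆ U ∧ Good M U := by
  intro k
  induction k with
  | zero =>
    intro T Q hk hT hQ h
    have hu : T = Finset.univ := Finset.eq_univ_of_card T (by
      have := T.card_le_univ; simp only [Fintype.card_fin] at this ⊢; omega)
    obtain ⟨x, rfl⟩ := eq_scalar_of_cent fun j => h.1 j (hu ▸ Finset.mem_univ j)
    have := h.2
    rw [Matrix.mul_smul, mul_one] at this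
    exact ⟨T, subset_rfl, good_of_pat hm hsl hT hoc (fun e => hQ (by rw [e, zero_smul])) this⟩
  | succ k ih =>
    intro T Q hk hT hQ h
    by_cases hall : ∀ j, Cent j Q
    · obtain ⟨x, rfl⟩ := eq_scalar_of_cent hall
      have := h.2
      rw [Matrix.mul_smul, mul_one] at this
      exact ⟨T, subset_rfl, good_of_pat hm hsl hT hoc (fun e => hQ (by rw [e, zero_smul])) this⟩
    push Not at hall
    obtain ⟨j, hj⟩ := hall
    have hjT : j ∉ T := fun hm' => hj (h.1 j hm')
    obtain ⟨Q', hQ', h'⟩ := h.step hm hsl hoc hT hjT hj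
    obtain ⟨U, hU, hg⟩ := ih (T := insert j T) (by rw [Finset.card_insert_of_notMem hjT]; omega)
      (Finset.insert_nonempty _ _) hQ' h'
    exact ⟨U, (Finset.subset_insert _ _).trans hU, hg⟩

/-- The three-cycle used to move patterns. -/
def cyc {n : ℕ} (a b c : Fin n) : Equiv.Perm (Fin n) :=
  Equiv.swap a b * Equiv.swap b c * (Equiv.swap a b * Equiv.swap b c)

theorem cyc_apply {n : ℕ} {a b c : Fin n} (hab : a ≠ b) (hac : a ≠ c) (hbc : b ≠ c) :
    cyc a b c a = c ∧ cyc a b c c = b := by
  constructor <;> simp [cyc, Equiv.swap_apply_def, hab, hab.symm, hac, hac.symm, hbc, hbc.symm]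

/-- A non-scalar coefficient spreads to all of the special linear group. -/
theorem sl_le_of_twist (hm : 3 ≤ m)
    (hsl : ∀ i (A : GL (Fin m) F), (A : Matrix (Fin m) (Fin m) F).det = 1 → slotGL i A ∈ M)
    (hperm : ∀ a b c : Fin (s + 1), a ≠ b → a ≠ c → b ≠ c → permGL (cyc a b c) ∈ M)
    {i : Fin (s + 1)} {k l : Fin m} (hkl : k ≠ l) {C : TMat F m (s + 1)} (hC : Cent i C)
    (hn : ∀ a : F, C ≠ a • 1) (h : InM M (1 + slot i (Matrix.single k l 1) * C)) :
    specialLinear (Fin (s + 1) → Fin m) F ≤ M := by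
  classical
  have := Fintype.ofFinite F
  have h0 : Twist M k l {i} C := by
    refine ⟨fun j hj => Finset.mem_singleton.1 hj ▸ hC, ?_⟩
    have e : supp ({i} : Finset (Fin (s + 1))) (fun _ => Matrix.single k l (1 : F)) = slot i (Matrix.single k l 1) := by
      rw [supp, slot_eq_pure]
      congr 1
      funext j
      rcases eq_or_ne j i with rfl | hj <;> simp [*]
    rwa [e]
  obtain ⟨j, hj⟩ : ∃ j, ¬ Cent j C := by
    by_contra hcon
    push Not at hcon
    obtain ⟨a, ha⟩ := eq_scalar_of_cent hcon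
    exact hn a ha
  have hji : j ∉ ({i} : Finset (Fin (s + 1))) := fun e => hj (Finset.mem_singleton.1 e ▸ hC)
  obtain ⟨Q, hQ, h1⟩ := h0.step hm hsl hkl (Finset.singleton_nonempty i) hji hj
  obtain ⟨U, hU, hg⟩ := h1.exists_good hm hsl hkl (s + 1) (by omega) (Finset.insert_nonempty _ _) hQ
  have hcard : 2 ≤ U.card := by
    refine le_trans ?_ (Finset.card_le_card hU)
    rw [Finset.card_insert_of_notMem hji, Finset.card_singleton]
  -- grow to all slots
  obtain ⟨W, hW, hWmax⟩ := Finset.exists_max_image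
    ((Finset.univ : Finset (Finset (Fin (s + 1)))).filter fun W => 2 ≤ W.card ∧ Good M W) Finset.card
      ⟨U, Finset.mem_filter.2 ⟨Finset.mem_univ _, hcard, hg⟩⟩
  obtain ⟨hW2, hWg⟩ := (Finset.mem_filter.1 hW).2
  by_cases hWu : W = Finset.univ
  · exact Good.sl_le hm s.succ_pos (hWu ▸ hWg)
  obtain ⟨b, hb⟩ : ∃ b, b ∉ W := by
    by_contra hcon
    push Not at hcon
    exact hWu (Finset.eq_univ_of_forall hcon)
  obtain ⟨a, ha, c, hc, hac⟩ := Finset.one_lt_card.1 hW2
  have hab : a ≠ b := fun e => hb (e ▸ ha)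
  have hcb : c ≠ b := fun e => hb (e ▸ hc)
  obtain ⟨ea, ec⟩ := cyc_apply hab hac hcb.symm
  set σ := cyc a b c
  have hmoved : Good M (W.map σ.toEmbedding) := by
    intro v φ hv
    have h' := hWg (fun j => v (σ j)) (fun j => φ (σ j)) fun j hjW => hv _ (Finset.mem_map_of_mem _ hjW)
    have h'' := InM.cj' (hperm a b c hab hac hcb.symm) h'
    rw [supp, permGL_conj_pure] at h''
    convert h'' using 3
    rw [supp]
    congr 1
    funext j
    simp [Finset.mem_map_equiv, σ]
  have hint : (W ∩ W.map σ.toEmbedding).Nonempty :=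
    ⟨c, Finset.mem_inter.2 ⟨hc, Finset.mem_map.2 ⟨a, ha, ea⟩⟩⟩
  have hb' : b ∈ W ∪ W.map σ.toEmbedding := Finset.mem_union_right _ (Finset.mem_map.2 ⟨c, hc, ec⟩)
  have hgt : W.card < (W ∪ W.map σ.toEmbedding).card :=
    Finset.card_lt_card ⟨Finset.subset_union_left, fun hsub => hb (hsub hb')⟩
  have := hWmax _ (Finset.mem_filter.2 ⟨Finset.mem_univ _, by omega, hWg.union hm hsl hmoved hint⟩)
  omega

end

end CfsgLib.TensorWreathSL
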