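import Cfsg.Agent.Lib.TensorWreathSL.Main
import Cfsg.Agent.Lib.TensorWreathSL.Spread

/-!
The tensor wreath group meets the special linear group in a maximal subgroup.
-/

set_option autoImplicit false
set_option linter.unusedSectionVars false

namespace CfsgLib.TensorWreathSL

open Cfsg Cfsg.Geo CfsgLib.Aschbacher CfsgLib.AschbacherForm CfsgLib.TensorWreath
open scoped Matrix MatrixGroups Kronecker

variable {F : Type*} [Field F] [Finite F] {m s : ℕ} [NeZero m]

theorem det_slot (i : Fin (s + 1)) (A : Matrix (Fin m) (Fin m) F) :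
    (slot i A).det = A.det ^ Fintype.card (Fin s → Fin m) := by
  have e : Matrix.reindex (spl i) (spl i) (slot i A) = A ⊗ₖ (1 : TMat F m s) := by
    refine Matrix.ext fun ⟨k, u⟩ ⟨l, v⟩ => ?_
    have h := congrFun (congrFun (congrFun (congrFun (blk_slot_self i A) k) l) u) v
    rw [blk_apply, up_apply] at h
    exact h
  rw [← Matrix.det_reindex_self (spl i), e, Matrix.det_kronecker, Matrix.det_one, one_pow, mul_one]

theorem slotGL_mem_sl (i : Fin (s + 1)) {A : GL (Fin m) F} (h : (A : Matrix (Fin m) (Fin m) F).det = 1) :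
    slotGL i A ∈ specialLinear (Fin (s + 1) → Fin m) F := by
  rw [Maximal.mem_specialLinear_iff, slotGL_val, det_slot, h, one_pow]

theorem permGL_mul {n : ℕ} (p q : Equiv.Perm (Fin n)) :
    (permGL (p * q) : GL (Fin n → Fin m) F) = permGL p * permGL q := by
  refine Units.ext (Matrix.ext fun x z => ?_)
  rw [Units.val_mul, Matrix.mul_apply, Finset.sum_eq_single (x ∘ p)]
  · show (if z = x ∘ ⇑(p * q) then (1 : F) else 0) = (if x ∘ p = x ∘ p then 1 else 0) * if z = (x ∘ p) ∘ q then 1 else 0
    rw [if_pos rfl, one_mul]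
    rfl
  · intro b _ hb
    show (if b = x ∘ p then (1 : F) else 0) * _ = 0
    rw [if_neg hb, zero_mul]
  · simp

theorem permGL_one {n : ℕ} : (permGL (1 : Equiv.Perm (Fin n)) : GL (Fin n → Fin m) F) = 1 := by
  have h := permGL_mul (F := F) (m := m) (1 : Equiv.Perm (Fin n)) 1
  rw [mul_one] at h
  exact mul_left_cancel (h.symm.trans (mul_one _).symm)

theorem permGL_cyc_mem_sl {n : ℕ} (a b c : Fin n) :
    (permGL (cyc a b c) : GL (Fin n → Fin m) F) ∈ specialLinear (Fin n → Fin m) F := by
  have h : ∀ x y : Fin n, Matrix.GeneralLinearGroup.det (permGL (Equiv.swap x y) : GL (Fin n → Fin m) F) *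
      Matrix.GeneralLinearGroup.det (permGL (Equiv.swap x y) : GL (Fin n → Fin m) F) = 1 := fun x y => by
    rw [← map_mul, ← permGL_mul, Equiv.swap_mul_self, permGL_one, map_one]
  rw [specialLinear, MonoidHom.mem_ker, cyc, permGL_mul, permGL_mul, map_mul, map_mul, mul_mul_mul_comm, h, h, one_mul]

/-- A transvection outside the tensor wreath group. -/
theorem exists_notMem_std (hm : 3 ≤ m) (hs : 0 < s) :
    ∃ g ∈ specialLinear (Fin (s + 1) → Fin m) F, g ∉ Std F m (s + 1) := by
  classical
  set o : Fin m := 0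
  obtain ⟨c, hco⟩ : ∃ c, c ≠ o := ⟨⟨1, by omega⟩, fun e => by simp [o, Fin.ext_iff] at e⟩
  obtain ⟨n, hno, hnc⟩ := Fin.exists_ne_and_ne_of_two_lt o c hm
  let X : Fin (s + 1) → Fin m := fun _ => o
  let Y : Fin (s + 1) → Fin m := fun _ => c
  have hXY : X ≠ Y := fun e => hco (congrFun e 0).symm
  set g := Maximal.tv (Pi.single X (1 : F)) (Pi.single Y 1) (by simp [hXY])
  refine ⟨g, Maximal.tv_mem_specialLinear _ _ _, fun hg => ?_⟩
  obtain ⟨π, A, -, hrep⟩ := exists_rep_of_std hg
  obtain ⟨a', ha'⟩ := hrep 0 (Matrix.single c n 1)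
  set S : TMat F m (s + 1) := slot 0 (Matrix.single c n 1) with hS
  set N : TMat F m (s + 1) := Matrix.single X Y 1 with hN
  have hNp : N = pure' fun _ => Matrix.single o c (1 : F) := (pure'_single X Y).symm
  have hSN : S * N = 0 := by
    rw [hS, hNp, slot_eq_pure, pure'_mul]
    refine pure'_zero_of 0 ?_
    rw [Function.update_self, Matrix.single_mul_single_of_ne _ _ _ _ hno]
  have hNS : N * S = Matrix.single X (Function.update Y 0 n) 1 := by
    rw [hS, hNp, slot_eq_pure, pure'_mul, ← pure'_single]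
    congr 1
    funext j
    rcases eq_or_ne j 0 with rfl | hj
    · simp [X, Y]
    · simp [X, Y, hj]
  have hval : (g : TMat F m (s + 1)) = 1 + N := by
    rw [hN, Maximal.tv_val, Matrix.single_eq_single_vecMulVec_single]
  have hinv : (↑g⁻¹ : TMat F m (s + 1)) = 1 - N := by
    refine left_inv_eq_right_inv (Units.inv_mul g) ?_
    rw [hval, add_mul, one_mul, mul_sub, mul_one, hN, Matrix.single_mul_single_of_ne _ _ _ _ hXY.symm, sub_zero,
      sub_add_cancel]
  have e : cj g S = S + N * S := by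
    rw [cj_apply, hval, hinv, add_mul, one_mul, add_mul, mul_sub, mul_sub, mul_one, mul_one, mul_assoc N S N, hSN,
      mul_zero, sub_zero, sub_zero]
  rw [e, hNS] at ha'
  have h0 := congrFun (congrFun ha' X) (Function.update Y 0 n)
  rw [Matrix.add_apply, Matrix.single_apply_same] at h0
  have hSX : S X (Function.update Y 0 n) = 0 := by
    rw [hS]
    simp [slot, X, Y, hco.symm, hno.symm, hco]
  have hR : slot (π 0) a' X (Function.update Y 0 n) = 0 := by
    obtain ⟨j, hj⟩ : ∃ j : Fin (s + 1), j ≠ π 0 := by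
      obtain ⟨k, rfl⟩ := Nat.exists_eq_succ_of_ne_zero hs.ne'
      exact exists_ne _
    simp only [slot, Matrix.of_apply]
    refine if_neg fun h => ?_
    have := h j hj
    rcases eq_or_ne j 0 with rfl | h0'
    · simp [X, hno.symm] at this
    · simp [X, Y, h0', hco.symm] at this
  rw [hSX, hR, zero_add] at h0
  exact one_ne_zero h0

/-- The maximality in coordinates. -/
theorem std_maximal (hm : 3 ≤ m) (hs : 0 < s) :
    IsMaximalIn (specialLinear (Fin (s + 1) → Fin m) F) (Std F m (s + 1) ⊓ specialLinear (Fin (s + 1) → Fin m) F) := by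
  classical
  refine ⟨lt_of_le_of_ne inf_le_right fun heq => ?_, fun M hHM hMG => ?_⟩
  · obtain ⟨g, hg, hgn⟩ := exists_notMem_std (F := F) hm hs
    exact hgn (heq.symm ▸ hg : g ∈ Std F m (s + 1) ⊓ specialLinear (Fin (s + 1) → Fin m) F).1
  have hsl : ∀ i (A : GL (Fin m) F), (A : Matrix (Fin m) (Fin m) F).det = 1 → slotGL i A ∈ M := fun i A h =>
    hHM ⟨slotGL_mem i A, slotGL_mem_sl i h⟩
  by_cases hnr : ∀ i (k l : Fin m), k ≠ l → ∀ C : TMat F m (s + 1), Cent i C →
      InM M (1 + slot i (Matrix.single k l 1) * C) → ∃ c : F, C = c • 1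
  · exact Or.inl (le_antisymm (le_inf (le_std hm s M ⟨hsl, hnr⟩) hMG) hHM)
  push Not at hnr
  obtain ⟨i, k, l, hkl, C, hC, hCM, hn⟩ := hnr
  exact Or.inr (le_antisymm hMG (sl_le_of_twist hm hsl
    (fun a b c _ _ _ => hHM ⟨permGL_mem _, permGL_cyc_mem_sl a b c⟩) hkl hC hn hCM))

/-- Maximality is transported by isomorphisms. -/
theorem isMaximalIn_map {G H : Type*} [Group G] [Group H] (φ : G ≃* H) {K L : Subgroup G} (h : IsMaximalIn K L) :
    IsMaximalIn (K.map φ.toMonoidHom) (L.map φ.toMonoidHom) := by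
  obtain ⟨hlt, hmax⟩ := h
  refine ⟨(Subgroup.map_lt_map_iff_of_injective φ.injective).2 hlt, fun M h1 h2 => ?_⟩
  have e : (M.comap φ.toMonoidHom).map φ.toMonoidHom = M := Subgroup.map_comap_eq_self_of_surjective φ.surjective M
  rcases hmax (M.comap φ.toMonoidHom) (Subgroup.map_le_iff_le_comap.1 h1)
    (by rw [← Subgroup.comap_map_eq_self_of_injective (f := φ.toMonoidHom) φ.injective K]; exact Subgroup.comap_mono h2) with hh | hh
  · exact Or.inl (by rw [← e, hh])
  · exact Or.inr (by rw [← e, hh])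

/-- The stabiliser of a tensor decomposition is maximal in the special linear group. -/
theorem maximal_of_equiv {n t : ℕ} (hm : 3 ≤ m) (ht : 2 ≤ t) (e : Fin n ≃ (Fin t → Fin m))
    (P : GL (Fin n) F) :
    IsMaximalIn (specialLinear (Fin n) F) (tensorWreathSubgroup m t e P ⊓ specialLinear (Fin n) F) := by
  obtain ⟨s, rfl⟩ : ∃ s, t = s + 1 := ⟨t - 1, by omega⟩
  let φ : GL (Fin (s + 1) → Fin m) F ≃* GL (Fin n) F := (glReindex e.symm).trans (MulAut.conj P)
  have hH : tensorWreathSubgroup m (s + 1) e P = (Std F m (s + 1)).map φ.toMonoidHom := by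
    rw [tensorWreathSubgroup, Subgroup.map_map]; rfl
  have hdet : ∀ g, φ g ∈ specialLinear (Fin n) F ↔ g ∈ specialLinear (Fin (s + 1) → Fin m) F := fun g => by
    simp only [specialLinear, MonoidHom.mem_ker, φ, MulEquiv.trans_apply, MulAut.conj_apply, map_mul, map_inv]
    rw [mul_inv_cancel_comm]
    have e' : Matrix.GeneralLinearGroup.det (glReindex e.symm g) = Matrix.GeneralLinearGroup.det g :=
      Units.ext (by simp [glReindex])
    rw [e']
  have hS : specialLinear (Fin n) F = (specialLinear (Fin (s + 1) → Fin m) F).map φ.toMonoidHom := by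
    ext x
    obtain ⟨g, rfl⟩ := φ.surjective x
    rw [hdet]
    exact (Subgroup.mem_map_iff_mem φ.injective).symm
  rw [hH, hS, ← Subgroup.map_inf_eq _ _ _ φ.injective]
  exact isMaximalIn_map φ (std_maximal hm (by omega))

end CfsgLib.TensorWreathSL
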