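import Cfsg.Agent.Lib.TensorWreath.Coord
import Cfsg.Agent.Lib.TensorWreath.Rep

/-!
A tensor power as two-by-two blocks: one slot against all the others. Matrices over the tensor power become square
matrices of size `m` with entries matrices over the remaining slots.
-/

set_option autoImplicit false
set_option linter.unusedSectionVars false

namespace CfsgLib.TensorWreathSL

open CfsgLib.Aschbacher CfsgLib.AschbacherForm CfsgLib.TensorWreath
open scoped Matrix MatrixGroups

variable {F : Type*} [Field F] {m s : ℕ}

/-- Matrices over a tensor power. -/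
abbrev TMat (F : Type*) (m s : ℕ) := Matrix (Fin s → Fin m) (Fin s → Fin m) F

/-- Block matrices. -/
abbrev BMat (F : Type*) (m s : ℕ) := Matrix (Fin m) (Fin m) (TMat F m s)

/-- Splitting off one slot. -/
def spl (i : Fin (s + 1)) : (Fin (s + 1) → Fin m) ≃ Fin m × (Fin s → Fin m) :=
  (Fin.insertNthEquiv (fun _ => Fin m) i).symm

/-- The blocks of a matrix with respect to one slot. -/
def blk (i : Fin (s + 1)) : TMat F m (s + 1) ≃ₐ[F] BMat F m s :=
  (Matrix.reindexAlgEquiv F F (spl i)).trans (Matrix.compAlgEquiv (Fin m) (Fin s → Fin m) F F).symm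

theorem blk_apply (i : Fin (s + 1)) (G : TMat F m (s + 1)) (k l : Fin m) (u v : Fin s → Fin m) :
    blk i G k l u v = G (i.insertNth k u) (i.insertNth l v) := rfl

/-- A matrix of the split slot as a block matrix. -/
def up : Matrix (Fin m) (Fin m) F →ₐ[F] BMat F m s := (Algebra.ofId F (TMat F m s)).mapMatrix

/-- A matrix of the other slots as a block matrix. -/
def dg : TMat F m s →ₐ[F] BMat F m s := Matrix.scalarAlgHom (Fin m) F

theorem up_apply (A : Matrix (Fin m) (Fin m) F) (k l : Fin m) : (up A : BMat F m s) k l = A k l • 1 := by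
  simp [up, Algebra.ofId_apply, Algebra.algebraMap_eq_smul_one]

theorem dg_apply (B : TMat F m s) (k l : Fin m) : dg B k l = if k = l then B else 0 := by
  simp [dg, Matrix.scalarAlgHom, Matrix.diagonal_apply]

theorem mul_dg_apply (G : BMat F m s) (B : TMat F m s) (k l : Fin m) : (G * dg B) k l = G k l * B := by
  simp [Matrix.mul_apply, dg_apply]

theorem dg_mul_apply (G : BMat F m s) (B : TMat F m s) (k l : Fin m) : (dg B * G) k l = B * G k l := by
  simp [Matrix.mul_apply, dg_apply]

theorem up_mul_apply (A : Matrix (Fin m) (Fin m) F) (G : BMat F m s) (k l : Fin m) :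
    ((up A : BMat F m s) * G) k l = ∑ c, A k c • G c l := by
  simp [Matrix.mul_apply, up_apply]

theorem mul_up_apply (A : Matrix (Fin m) (Fin m) F) (G : BMat F m s) (k l : Fin m) :
    (G * (up A : BMat F m s)) k l = ∑ c, A c l • G k c := by
  simp [Matrix.mul_apply, up_apply]

theorem up_dg_apply (A : Matrix (Fin m) (Fin m) F) (B : TMat F m s) (k l : Fin m) :
    ((up A : BMat F m s) * dg B) k l = A k l • B := by
  rw [mul_dg_apply, up_apply, Matrix.smul_mul, one_mul]

theorem dg_up_comm (A : Matrix (Fin m) (Fin m) F) (B : TMat F m s) : dg B * (up A : BMat F m s) = up A * dg B := by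
  ext k l : 2
  rw [up_dg_apply, dg_mul_apply, up_apply, Matrix.mul_smul, mul_one]

theorem up_dg_mul (A A' : Matrix (Fin m) (Fin m) F) (B B' : TMat F m s) :
    (up A * dg B) * (up A' * dg B') = up (A * A') * dg (B * B') := by
  rw [map_mul, map_mul, mul_assoc, ← mul_assoc (dg B), dg_up_comm, mul_assoc, ← mul_assoc, ← mul_assoc]

theorem up_single (k l : Fin m) (c : F) : (up (Matrix.single k l c) : BMat F m s) = Matrix.single k l (c • 1) := by
  ext a b : 2
  rw [up_apply, Matrix.single_apply, Matrix.single_apply]
  split_ifs <;> simp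

variable [NeZero m]

theorem up_injective : Function.Injective (up (F := F) (m := m) (s := s)) := fun A A' h => by
  ext k l
  have := congrFun (congrFun (congrFun (congrFun h k) l) fun _ => 0) fun _ => 0
  simpa [up_apply] using this

theorem dg_injective : Function.Injective (dg (F := F) (m := m) (s := s)) := fun B B' h => by
  have := congrFun (congrFun h 0) 0
  simpa [dg_apply] using this

theorem blk_pure' (i : Fin (s + 1)) (a : Fin (s + 1) → Matrix (Fin m) (Fin m) F) :
    blk i (pure' a) = (up (a i) : BMat F m s) * dg (pure' fun j => a (i.succAbove j)) := by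
  ext k l u v
  rw [blk_apply, up_dg_apply, Matrix.smul_apply, smul_eq_mul]
  simp only [pure', Matrix.of_apply]
  rw [Fin.prod_univ_succAbove _ i]
  simp

theorem blk_slot_self (i : Fin (s + 1)) (A : Matrix (Fin m) (Fin m) F) : blk i (slot i A) = up A := by
  rw [slot_eq_pure, blk_pure', Function.update_self]
  have : (fun j => Function.update (fun _ => (1 : Matrix (Fin m) (Fin m) F)) i A (i.succAbove j)) = fun _ => 1 :=
    funext fun j => Function.update_of_ne (Fin.succAbove_ne i j) _ _
  rw [this, pure'_one, map_one, mul_one]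

theorem blk_slot_succ (i : Fin (s + 1)) (j : Fin s) (A : Matrix (Fin m) (Fin m) F) :
    blk i (slot (i.succAbove j) A) = dg (slot j A) := by
  rw [slot_eq_pure, blk_pure', Function.update_of_ne (Fin.succAbove_ne i j).symm, map_one, one_mul, slot_eq_pure]
  congr 2
  funext l
  rcases eq_or_ne l j with rfl | hl
  · simp
  · rw [Function.update_of_ne hl, Function.update_of_ne (fun e => hl (Fin.succAbove_right_injective e))]

/-- A matrix of the other slots. -/
def embM (i : Fin (s + 1)) : TMat F m s →ₐ[F] TMat F m (s + 1) := (blk i).symm.toAlgHom.comp dg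

theorem blk_embM (i : Fin (s + 1)) (B : TMat F m s) : blk i (embM i B) = dg B := (blk i).apply_symm_apply _

theorem embM_slot (i : Fin (s + 1)) (j : Fin s) (A : Matrix (Fin m) (Fin m) F) :
    embM i (slot j A) = slot (i.succAbove j) A :=
  (blk i).injective (by rw [blk_embM, blk_slot_succ])

theorem embM_injective (i : Fin (s + 1)) : Function.Injective (embM (F := F) (m := m) i) :=
  (blk i).symm.injective.comp dg_injective

theorem slot_embM_comm (i : Fin (s + 1)) (A : Matrix (Fin m) (Fin m) F) (B : TMat F m s) :
    slot i A * embM i B = embM i B * slot i A :=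
  (blk i).injective (by rw [map_mul, map_mul, blk_embM, blk_slot_self, dg_up_comm])

theorem cent_iff (i : Fin (s + 1)) (C : TMat F m (s + 1)) : Cent i C ↔ ∃ C', C = embM i C' := by
  constructor
  · intro h
    refine ⟨blk i C 0 0, (blk i).injective ?_⟩
    rw [blk_embM]
    ext k l : 2
    have key : ∀ p q, (up (Matrix.single p q (1 : F)) : BMat F m s) * blk i C = blk i C * up (Matrix.single p q 1) := fun p q => by
      rw [← blk_slot_self i, ← map_mul, ← map_mul, h]
    have e := congrFun (congrFun (key 0 k) 0) l
    rw [up_mul_apply, mul_up_apply] at e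
    simp only [Matrix.single_apply, true_and, ite_smul, one_smul, zero_smul, Finset.sum_ite_eq, Finset.mem_univ,
      if_true] at e
    rw [e, dg_apply]
    by_cases hkl : k = l
    · subst hkl; simp
    · simp [hkl]
  · rintro ⟨C', rfl⟩ A
    exact slot_embM_comm i A C'

/-- An invertible matrix of one slot. -/
def slotGL (i : Fin s) : GL (Fin m) F →* GL (Fin s → Fin m) F :=
  Units.map
    { toFun := slot i
      map_one' := slot_one i
      map_mul' := slot_mul i }

theorem slotGL_val (i : Fin s) (A : GL (Fin m) F) :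
    (slotGL i A : TMat F m s) = slot i (A : Matrix (Fin m) (Fin m) F) := rfl

/-- An invertible matrix of the other slots. -/
def emb (i : Fin (s + 1)) : GL (Fin s → Fin m) F →* GL (Fin (s + 1) → Fin m) F :=
  Units.map (embM i : TMat F m s →ₐ[F] TMat F m (s + 1)).toRingHom.toMonoidHom

theorem emb_val (i : Fin (s + 1)) (B : GL (Fin s → Fin m) F) :
    (emb i B : TMat F m (s + 1)) = embM i (B : TMat F m s) := rfl

theorem emb_slotGL (i : Fin (s + 1)) (j : Fin s) (A : GL (Fin m) F) :
    emb i (slotGL j A) = slotGL (i.succAbove j) A :=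
  Units.ext (embM_slot i j _)

theorem slotGL_emb_comm (i : Fin (s + 1)) (A : GL (Fin m) F) (B : GL (Fin s → Fin m) F) :
    slotGL i A * emb i B = emb i B * slotGL i A :=
  Units.ext (slot_embM_comm i _ _)

theorem blk_slot_emb (i : Fin (s + 1)) (A : GL (Fin m) F) (B : GL (Fin s → Fin m) F) :
    blk i (slotGL i A * emb i B : GL (Fin (s + 1) → Fin m) F).1 =
      up (A : Matrix (Fin m) (Fin m) F) * dg (B : TMat F m s) := by
  rw [Units.val_mul, map_mul, slotGL_val, emb_val, blk_slot_self, blk_embM]

/-- An element whose blocks are a Kronecker product. -/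
theorem eq_slot_emb (i : Fin (s + 1)) {g : GL (Fin (s + 1) → Fin m) F} {A A' : Matrix (Fin m) (Fin m) F}
    {B B' : TMat F m s} (hg : blk i g.1 = up A * dg B) (hg' : blk i g⁻¹.1 = up A' * dg B') (hB : B * B' = 1) :
    ∃ (A₁ : GL (Fin m) F) (B₁ : GL (Fin s → Fin m) F), (A₁ : Matrix (Fin m) (Fin m) F) = A ∧
      (B₁ : TMat F m s) = B ∧ g = slotGL i A₁ * emb i B₁ := by
  have h : up (A * A') * dg (B * B') = (1 : BMat F m s) := by
    rw [← up_dg_mul, ← hg, ← hg', ← map_mul, Units.mul_inv, map_one]
  rw [hB, map_one, mul_one, ← map_one (up (F := F) (m := m) (s := s))] at h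
  have hA := up_injective h
  refine ⟨⟨A, A', hA, mul_eq_one_comm.1 hA⟩, ⟨B, B', hB, mul_eq_one_comm.1 hB⟩, rfl, rfl, Units.ext ((blk i).injective ?_)⟩
  rw [blk_slot_emb]
  exact hg

end CfsgLib.TensorWreathSL
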