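import Cfsg.Agent.Lib.TensorWreathSL.Std

/-!
An element of the group stabilising a subspace `line ⊗ (other slots)` is a product of an element of the slot and an
element of the other slots; the elements of the other slots form a group satisfying the same hypotheses.
-/

set_option autoImplicit false
set_option linter.unusedSectionVars false

namespace CfsgLib.TensorWreathSL

open Cfsg Cfsg.Geo CfsgLib.Aschbacher CfsgLib.AschbacherForm CfsgLib.TensorWreath
open scoped Matrix MatrixGroups

variable {F : Type*} [Field F] [Finite F] {m s : ℕ} [NeZero m]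

/-- The group generated by two elements in one group: inverses inside. -/
theorem inM_inv {E : Type*} [Monoid E] {M : Subgroup Eˣ} {g : Eˣ} {x y : E} (hg : g ∈ M) (hx : (g : E) = x)
    (h : x * y = 1) : ∃ g' ∈ M, (g' : E) = y :=
  ⟨g⁻¹, inv_mem hg, by
    calc (↑g⁻¹ : E) = ↑g⁻¹ * (x * y) := by rw [h, mul_one]
      _ = y := by rw [← mul_assoc, ← hx, Units.inv_mul, one_mul]⟩

/-- The element stabilises the block column `o`. -/
def Fix (i : Fin (s + 1)) (o : Fin m) (g : GL (Fin (s + 1) → Fin m) F) : Prop :=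
  ∀ l, l ≠ o → blk i g.1 l o = 0

theorem Fix.mul {i : Fin (s + 1)} {o : Fin m} {g h : GL (Fin (s + 1) → Fin m) F} (hg : Fix i o g) (hh : Fix i o h) :
    Fix i o (g * h) := fun l hl => by
  rw [Units.val_mul, map_mul, Matrix.mul_apply, Finset.sum_eq_single o]
  · rw [hg l hl, zero_mul]
  · intro c _ hc; rw [hh c hc, mul_zero]
  · simp

theorem Fix.pow {i : Fin (s + 1)} {o : Fin m} {g : GL (Fin (s + 1) → Fin m) F} (hg : Fix i o g) :
    ∀ n : ℕ, Fix i o (g ^ n)
  | 0 => fun l hl => by rw [pow_zero, Units.val_one, map_one, Matrix.one_apply_ne hl]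
  | n + 1 => by rw [pow_succ]; exact (Fix.pow hg n).mul hg

theorem Fix.inv {i : Fin (s + 1)} {o : Fin m} {g : GL (Fin (s + 1) → Fin m) F} (hg : Fix i o g) : Fix i o g⁻¹ := by
  classical
  obtain ⟨n, -, hn⟩ := (mem_zpowers_iff_mem_range_orderOf.1 (inv_mem (Subgroup.mem_zpowers g)) |> fun h =>
    (Finset.mem_image.1 h))
  rw [← hn]
  exact hg.pow n

/-- Commuting with the standard root forces stabilising. -/
theorem fix_of_mul_single {i : Fin (s + 1)} {o c : Fin m} {g : GL (Fin (s + 1) → Fin m) F} {R : TMat F m (s + 1)}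
    (h : g.1 * slot i (Matrix.single o c 1) = slot i (Matrix.single o c 1) * R) : Fix i o g := fun l hl => by
  have e := congrFun (congrFun (congrArg (blk i) h) l) c
  rw [map_mul, map_mul, blk_slot_self, mul_up_apply, up_mul_apply, Finset.sum_eq_single o, Finset.sum_eq_zero,
    Matrix.single_apply_same, one_smul] at e
  · exact e
  · intro f _; rw [Matrix.single_apply_of_row_ne hl.symm, zero_smul]
  · intro f _ hf; rw [Matrix.single_apply_of_row_ne hf.symm, zero_smul]
  · simp

variable {M : Subgroup (GL (Fin (s + 1) → Fin m) F)}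

/-- A block matrix giving an element of the group. -/
def InB (M : Subgroup (GL (Fin (s + 1) → Fin m) F)) (i : Fin (s + 1)) (X : BMat F m s) : Prop :=
  ∃ g ∈ M, blk i g.1 = X

theorem InB.mul {i : Fin (s + 1)} {X Y : BMat F m s} (hX : InB M i X) (hY : InB M i Y) : InB M i (X * Y) := by
  obtain ⟨g, hg, rfl⟩ := hX
  obtain ⟨h, hh, rfl⟩ := hY
  exact ⟨g * h, mul_mem hg hh, by rw [Units.val_mul, map_mul]⟩

theorem InB.inv {i : Fin (s + 1)} {X Y : BMat F m s} (hX : InB M i X) (h : X * Y = 1) : InB M i Y := by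
  obtain ⟨g, hg, rfl⟩ := hX
  obtain ⟨g', hg', e⟩ := inM_inv hg rfl (y := (blk i).symm Y) ((blk i).injective (by
    rw [map_mul, AlgEquiv.apply_symm_apply, h, map_one]))
  exact ⟨g', hg', by rw [e, AlgEquiv.apply_symm_apply]⟩

theorem SLCtx.tv_mem (hM : SLCtx M) (i : Fin (s + 1)) {v φ : Fin m → F} (h : φ ⬝ᵥ v = 0) :
    InB M i (1 + up (Matrix.vecMulVec v φ)) :=
  ⟨_, hM.sl i _ (Maximal.tv_det v φ h), by rw [slotGL_val, blk_slot_self, Maximal.tv_val, map_add, map_one]⟩

/-- Group elements of the row radical have scalar coefficients. -/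
theorem row_scalar (hm : 3 ≤ m) (hM : SLCtx M) {i : Fin (s + 1)} {o : Fin m} {X : BMat F m s}
    (hX : ∀ l c, l ≠ o → X l c = 0) (hoo : X o o = 0) (h : InB M i (1 + X)) (c : Fin m) :
    ∃ x : F, X o c = x • 1 := by
  classical
  rcases eq_or_ne c o with rfl | hc
  · exact ⟨0, by rw [hoo, zero_smul]⟩
  obtain ⟨l, hlo, hlc⟩ := Fin.exists_ne_and_ne_of_two_lt o c hm
  set N : BMat F m s := up (Matrix.single c l (1 : F)) with hN
  have hNN : N * N = 0 := by rw [hN, ← map_mul, Matrix.single_mul_single_of_ne _ _ _ _ hlc, map_zero]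
  have hXX : X * X = 0 := by
    refine Matrix.ext fun a b => ?_
    rw [Matrix.mul_apply, Matrix.zero_apply]
    refine Finset.sum_eq_zero fun f _ => ?_
    rcases eq_or_ne a o with rfl | ha
    · rcases eq_or_ne f a with rfl | hf
      · rw [hoo, zero_mul]
      · rw [hX f b hf, mul_zero]
    · rw [hX a f ha, zero_mul]
  have hNX : N * X = 0 := by
    refine Matrix.ext fun a b => ?_
    rw [hN, up_mul_apply, Matrix.zero_apply]
    refine Finset.sum_eq_zero fun f _ => ?_
    rcases eq_or_ne f o with rfl | hf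
    · rw [Matrix.single_apply_of_col_ne _ _ hlo, zero_smul]
    · rw [hX f b hf, smul_zero]
  have hadd : InB M i (1 + N) := by
    have := hM.tv_mem i (v := Pi.single c 1) (φ := Pi.single l 1) (by simp [hlc])
    rwa [← Matrix.single_eq_single_vecMulVec_single, ← hN] at this
  have hsub : InB M i (1 - N) := hadd.inv (by
    rw [add_mul, one_mul, mul_sub, mul_one, hNN, sub_zero, sub_add_cancel])
  have hXsub : InB M i (1 - X) := h.inv (by
    rw [add_mul, one_mul, mul_sub, mul_one, hXX, sub_zero, sub_add_cancel])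
  have key := ((hadd.mul h).mul hsub).mul hXsub
  have e : (1 + N) * (1 + X) * (1 - N) * (1 - X) = 1 - X * N := by
    have e1 : X * N * X = 0 := by rw [mul_assoc, hNX, mul_zero]
    simp only [add_mul, mul_add, one_mul, mul_one, mul_sub, sub_mul, hNN, hXX, hNX, zero_mul, mul_zero, e1]
    abel
  rw [e] at key
  have e2 : -(X * N) = (up (Matrix.single o l (1 : F)) : BMat F m s) * dg (-X o c) := by
    refine Matrix.ext fun a b => ?_
    rw [Matrix.neg_apply, hN, mul_up_apply, up_dg_apply, Finset.sum_eq_single c]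
    · rcases eq_or_ne a o with rfl | ha
      · rcases eq_or_ne b l with rfl | hb
        · rw [Matrix.single_apply_same, Matrix.single_apply_same, one_smul, one_smul]
        · rw [Matrix.single_apply_of_col_ne _ _ hb.symm, Matrix.single_apply_of_col_ne _ _ hb.symm, zero_smul,
            zero_smul, neg_zero]
      · rw [hX a c ha, smul_zero, Matrix.single_apply_of_row_ne ha.symm, zero_smul, neg_zero]
    · intro f _ hf
      rw [Matrix.single_apply_of_row_ne hf.symm, zero_smul]
    · simp
  rw [sub_eq_add_neg, e2] at key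
  obtain ⟨g, hg, hge⟩ := key
  obtain ⟨x, hx⟩ := hM.nr i o l hlo.symm (embM i (-X o c)) ((cent_iff i _).2 ⟨_, rfl⟩) ⟨g, hg, (blk i).injective (by
    rw [hge, map_add, map_one, map_mul, blk_slot_self, blk_embM])⟩
  refine ⟨-x, ?_⟩
  have : -X o c = x • (1 : TMat F m s) := embM_injective i (by rw [hx, map_smul, map_one])
  rw [neg_smul, ← this, neg_neg]

/-- The middle of an element stabilising a column. -/
theorem Fix.rows (hm : 3 ≤ m) (hM : SLCtx M) {i : Fin (s + 1)} {o : Fin m} {g : GL (Fin (s + 1) → Fin m) F}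
    (hg : g ∈ M) (hf : Fix i o g) :
    (blk i g.1 o o * blk i g⁻¹.1 o o = 1) ∧
      ∀ d, d ≠ o → ∀ e, ∃ φ : F, blk i g.1 d e = φ • blk i g.1 o o := by
  classical
  have hmul : ∀ h : GL (Fin (s + 1) → Fin m) F, blk i h.1 * blk i h⁻¹.1 = 1 := fun h => by
    rw [← map_mul, Units.mul_inv, map_one]
  have hone : ∀ h : GL (Fin (s + 1) → Fin m) F, Fix i o h → blk i h.1 o o * blk i h⁻¹.1 o o = 1 := fun h hh => by
    have := congrFun (congrFun (hmul h) o) o
    rw [Matrix.mul_apply, Finset.sum_eq_single o, Matrix.one_apply_eq] at this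
    · exact this
    · intro f _ hne; rw [hh.inv f hne, mul_zero]
    · simp
  have key : ∀ h ∈ M, Fix i o h → ∀ c, c ≠ o → ∀ e, ∃ y : F, blk i h.1 o o * blk i h⁻¹.1 c e = y • 1 := by
    intro h hh hfh c hc e
    set Y : BMat F m s := blk i h.1 * up (Matrix.single o c (1 : F)) * blk i h⁻¹.1 with hY
    have hval : ∀ a b, Y a b = blk i h.1 a o * blk i h⁻¹.1 c b := fun a b => by
      rw [hY, mul_assoc, Matrix.mul_apply, Finset.sum_eq_single o]
      · rw [up_mul_apply, Finset.sum_eq_single c, Matrix.single_apply_same, one_smul]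
        · intro f _ hne; rw [Matrix.single_apply_of_col_ne _ _ hne.symm, zero_smul]
        · simp
      · intro f _ hne
        rw [up_mul_apply, Finset.sum_eq_zero, mul_zero]
        intro b' _; rw [Matrix.single_apply_of_row_ne hne.symm, zero_smul]
      · simp
    have hin : InB M i (1 + Y) := by
      obtain ⟨u, hu, hue⟩ := hM.tv_mem i (v := Pi.single o 1) (φ := Pi.single c 1) (by simp [hc])
      refine ⟨h * u * h⁻¹, mul_mem (mul_mem hh hu) (inv_mem hh), ?_⟩
      rw [Units.val_mul, Units.val_mul, map_mul, map_mul, hue, ← Matrix.single_eq_single_vecMulVec_single, mul_add,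
        mul_one, add_mul, hmul]
    obtain ⟨y, hy⟩ := row_scalar hm hM (fun a b ha => by rw [hval, hfh a ha, zero_mul])
      (by rw [hval, hfh.inv c hc, mul_zero]) hin e
    exact ⟨y, by rw [← hval, hy]⟩
  refine ⟨hone g hf, fun d hd e => ?_⟩
  obtain ⟨y, hy⟩ := key g⁻¹ (inv_mem hg) hf.inv d hd e
  rw [inv_inv] at hy
  exact ⟨y, by rw [← one_mul (blk i g.1 d e), ← hone g hf, mul_assoc, hy, Matrix.mul_smul, mul_one]⟩

/-- An element stabilising a column splits. -/
theorem Fix.split (hm : 3 ≤ m) (hM : SLCtx M) {i : Fin (s + 1)} {o : Fin m} {g : GL (Fin (s + 1) → Fin m) F}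
    (hg : g ∈ M) (hf : Fix i o g) :
    ∃ (A : GL (Fin m) F) (B : GL (Fin s → Fin m) F), g = slotGL i A * emb i B := by
  classical
  have main : ∀ h ∈ M, Fix i o h → ∃ A : Matrix (Fin m) (Fin m) F, blk i h.1 = up A * dg (blk i h.1 o o) := by
    intro h hh hfh
    obtain ⟨hB, hrow⟩ := hfh.rows hm hM hh
    obtain ⟨hB', hrow'⟩ := hfh.inv.rows hm hM (inv_mem hh)
    rw [inv_inv] at hB'
    have hrow0 : ∀ c, c ≠ o → ∃ x : F, blk i h.1 o c = x • blk i h.1 o o := by
      intro c hc
      obtain ⟨l, hlo, hlc⟩ := Fin.exists_ne_and_ne_of_two_lt o c hm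
      choose! φ hφ using hrow
      choose! φ' hφ' using hrow'
      set v : Fin m → F := fun d => if d = o then 0 else φ d c with hv
      set w : Fin m → F := fun e => if e = o then 0 else φ' l e with hw
      have hinv : blk i h⁻¹.1 * blk i h.1 = 1 := by rw [← map_mul, Units.inv_mul, map_one]
      have hsum : ∀ b, b ≠ o → (blk i h⁻¹.1 * blk i h.1) l b = (∑ d, w d * if d = o then 0 else φ d b) • 1 := by
        intro b _
        rw [Matrix.mul_apply, Finset.sum_smul]
        refine Finset.sum_congr rfl fun d _ => ?_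
        rcases eq_or_ne d o with rfl | hd
        · rw [hfh.inv l hlo, zero_mul]; simp [hw]
        · rw [hφ' l hlo, hφ d hd, smul_mul_smul_comm, hB', hw]; simp [hd]
      have hwv : w ⬝ᵥ v = 0 := by
        have e := hsum c hc
        rw [hinv, Matrix.one_apply_ne hlc] at e
        exact (smul_eq_zero.1 e.symm).resolve_right one_ne_zero
      obtain ⟨e, he⟩ : ∃ e, w e ≠ 0 := by
        by_contra hcon
        push Not at hcon
        have e' := hsum l hlo
        rw [hinv, Matrix.one_apply_eq, Finset.sum_eq_zero (fun d _ => by rw [hcon d, zero_mul]), zero_smul] at e'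
        exact one_ne_zero e'
      have heo : e ≠ o := fun e' => he (by simp [hw, e'])
      set Q : BMat F m s := up (Matrix.vecMulVec v w) with hQ
      set W : BMat F m s := blk i h.1 * up (Matrix.single c l (1 : F)) * blk i h⁻¹.1 with hW
      have hval : ∀ a b, W a b = blk i h.1 a c * blk i h⁻¹.1 l b := fun a b => by
        rw [hW, mul_assoc, Matrix.mul_apply, Finset.sum_eq_single c]
        · rw [up_mul_apply, Finset.sum_eq_single l, Matrix.single_apply_same, one_smul]
          · intro f _ hne; rw [Matrix.single_apply_of_col_ne _ _ hne.symm, zero_smul]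
          · simp
        · intro f _ hne
          rw [up_mul_apply, Finset.sum_eq_zero, mul_zero]
          intro b' _; rw [Matrix.single_apply_of_row_ne hne.symm, zero_smul]
        · simp
      set Z : BMat F m s := fun a b => if a = o then W a b else 0 with hZ
      have hsplit : W = Q + Z := by
        refine Matrix.ext fun a b => ?_
        rw [Matrix.add_apply, hQ, up_apply]
        rcases eq_or_ne a o with rfl | ha
        · simp [hv, hZ, Matrix.vecMulVec_apply]
        · simp only [hZ, if_neg ha, add_zero, hval, Matrix.vecMulVec_apply, hv, hw]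
          rcases eq_or_ne b o with rfl | hb
          · rw [hfh.inv l hlo, mul_zero]; simp
          · rw [hφ a ha, hφ' l hlo, smul_mul_smul_comm, hB, if_neg hb]
      have hQZ : Q * Z = 0 := by
        refine Matrix.ext fun a b => ?_
        rw [hQ, up_mul_apply, Matrix.zero_apply]
        refine Finset.sum_eq_zero fun f _ => ?_
        rcases eq_or_ne f o with rfl | hfo
        · simp [Matrix.vecMulVec_apply, hw]
        · simp [hZ, hfo]
      have hQQ : Q * Q = 0 := by rw [hQ, ← map_mul, vmv_smul_mul, hwv, zero_smul, map_zero]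
      have hin : InB M i (1 + W) := by
        obtain ⟨u, hu, hue⟩ := hM.tv_mem i (v := Pi.single c 1) (φ := Pi.single l 1) (by simp [hlc])
        refine ⟨h * u * h⁻¹, mul_mem (mul_mem hh hu) (inv_mem hh), ?_⟩
        rw [Units.val_mul, Units.val_mul, map_mul, map_mul, hue, ← Matrix.single_eq_single_vecMulVec_single, mul_add,
          mul_one, add_mul, ← map_mul, Units.mul_inv, map_one]
      have hqin : InB M i (1 - Q) := (hM.tv_mem i hwv).inv (by
        rw [add_mul, one_mul, mul_sub, mul_one, hQQ, sub_zero, sub_add_cancel])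
      have hzin : InB M i (1 + Z) := by
        have := hqin.mul hin
        rwa [hsplit, show (1 - Q) * (1 + (Q + Z)) = 1 + Z by
          rw [sub_mul, one_mul, mul_add, mul_one, mul_add, hQQ, hQZ]; abel] at this
      obtain ⟨x, hx⟩ := row_scalar (o := o) hm hM (fun a b ha => by simp [hZ, ha])
        (by simp only [hZ, if_true, hval]; rw [hfh.inv l hlo, mul_zero]) hzin e
      simp only [hZ, if_true, hval] at hx
      rw [hφ' l hlo, Matrix.mul_smul] at hx
      refine ⟨(φ' l e)⁻¹ * x, ?_⟩
      have hne : φ' l e ≠ 0 := by simpa [hw, heo] using he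
      calc blk i h.1 o c = blk i h.1 o c * (blk i h⁻¹.1 o o * blk i h.1 o o) := by rw [hB', mul_one]
        _ = (φ' l e)⁻¹ • ((φ' l e • (blk i h.1 o c * blk i h⁻¹.1 o o)) * blk i h.1 o o) := by
          rw [Matrix.smul_mul, inv_smul_smul₀ hne, mul_assoc]
        _ = _ := by rw [hx, Matrix.smul_mul, one_mul, smul_smul]
    have hall : ∀ a b, ∃ x : F, blk i h.1 a b = x • blk i h.1 o o := fun a b => by
      rcases eq_or_ne a o with rfl | ha
      · rcases eq_or_ne b a with rfl | hb
        · exact ⟨1, (one_smul _ _).symm⟩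
        · exact hrow0 b hb
      · exact hrow a ha b
    choose A hA using hall
    exact ⟨Matrix.of A, Matrix.ext fun a b => by rw [up_dg_apply, hA]; rfl⟩
  obtain ⟨A, hA⟩ := main g hg hf
  obtain ⟨A', hA'⟩ := main g⁻¹ (inv_mem hg) hf.inv
  obtain ⟨A₁, B₁, -, -, e⟩ := eq_slot_emb i hA hA' (hf.rows hm hM hg).1
  exact ⟨A₁, B₁, e⟩

/-- The elements of the other slots. -/
def coef (M : Subgroup (GL (Fin (s + 1) → Fin m) F)) (i : Fin (s + 1)) : Subgroup (GL (Fin s → Fin m) F) where
  carrier := {B | ∃ A, slotGL i A * emb i B ∈ M}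
  one_mem' := ⟨1, by rw [map_one, map_one, one_mul]; exact one_mem _⟩
  mul_mem' := by
    rintro B B' ⟨A, h⟩ ⟨A', h'⟩
    refine ⟨A * A', ?_⟩
    have := mul_mem h h'
    rwa [mul_assoc, ← mul_assoc (emb i B), ← slotGL_emb_comm, mul_assoc, ← mul_assoc, ← map_mul, ← map_mul] at this
  inv_mem' := by
    rintro B ⟨A, h⟩
    refine ⟨A⁻¹, ?_⟩
    have := inv_mem h
    rwa [slotGL_emb_comm, _root_.mul_inv_rev, ← map_inv, ← map_inv] at this

theorem SLCtx.coef (hm : 3 ≤ m) (hM : SLCtx M) (i : Fin (s + 1)) : SLCtx (coef M i) := by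
  refine ⟨fun j A hA => ⟨1, by rw [map_one, one_mul, emb_slotGL]; exact hM.sl _ A hA⟩, ?_⟩
  intro j k l hkl C hC hin
  obtain ⟨B, ⟨A, hB⟩, hBe⟩ := hin
  obtain ⟨n, hnk, hnl⟩ := Fin.exists_ne_and_ne_of_two_lt k l hm
  set a : TMat F m s := slot j (Matrix.single k l (1 : F)) * C with ha
  set b : TMat F m s := slot j (Matrix.single l n (1 : F)) with hb
  have haa : a * a = 0 := by
    rw [ha, mul_assoc, ← mul_assoc C, ← hC, mul_assoc, ← mul_assoc, ← slot_mul,
      Matrix.single_mul_single_of_ne _ _ _ _ hkl.symm, slot_zero, zero_mul]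
  have hbb : b * b = 0 := by rw [hb, ← slot_mul, Matrix.single_mul_single_of_ne _ _ _ _ hnl, slot_zero]
  have hba : b * a = 0 := by
    rw [ha, hb, ← mul_assoc, ← slot_mul, Matrix.single_mul_single_of_ne _ _ _ _ hnk, slot_zero, zero_mul]
  have hab : a * b = slot j (Matrix.single k n (1 : F)) * C := by
    rw [ha, hb, mul_assoc, ← hC, ← mul_assoc, ← slot_mul, Matrix.single_mul_single_same, mul_one]
  set B₁ : GL (Fin s → Fin m) F := oneAdd b hbb with hB₁
  have hh : emb i B₁ ∈ M := by
    have hr : IsRoot (i.succAbove j) (slot (F := F) (i.succAbove j) (Matrix.single l n (1 : F))) :=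
      isRoot_single _ hnl.symm
    have : emb i B₁ = oneAdd _ hr.sq := Units.ext (by
      rw [emb_val, hB₁]
      show embM i (1 + b) = 1 + _
      rw [map_add, map_one, hb, embM_slot])
    rw [this]
    exact hM.root_mem hr
  have hBinv : ((B⁻¹ : GL (Fin s → Fin m) F) : TMat F m s) = 1 - a := by
    refine left_inv_eq_right_inv (Units.inv_mul B) ?_
    rw [hBe, add_mul, one_mul, mul_sub, mul_one, haa, sub_zero, sub_add_cancel]
  have hcomm : emb i (B * B₁ * B⁻¹ * B₁⁻¹) ∈ M := by
    have := mul_mem (mul_mem (mul_mem hB hh) (inv_mem hB)) (inv_mem hh)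
    convert this using 1
    rw [map_mul, map_mul, map_mul, _root_.mul_inv_rev, map_inv, map_inv]
    simp only [← mul_assoc]
    rw [mul_assoc (slotGL i A) (emb i B) (emb i B₁), ← map_mul (emb i) B B₁, mul_assoc (slotGL i A) _ (emb i B)⁻¹,
      ← map_inv (emb i) B, ← map_mul (emb i) (B * B₁) B⁻¹, slotGL_emb_comm i A, mul_inv_cancel_right]
  obtain ⟨c, hc⟩ := hM.nr (i.succAbove j) k n hnk.symm (embM i C)
    (fun A' => by rw [← embM_slot, ← map_mul, ← map_mul, hC A'])
    ⟨_, hcomm, by
      rw [emb_val, Units.val_mul, Units.val_mul, Units.val_mul, hBe, hBinv, ← embM_slot, ← map_mul, ← hab,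
        ← map_one (embM (F := F) (m := m) i), ← map_add]
      congr 1
      show (1 + a) * (1 + b) * (1 - a) * (1 - b) = 1 + a * b
      simp only [add_mul, mul_add, one_mul, mul_one, mul_sub, sub_mul, haa, hbb, hba, zero_mul, mul_zero,
        mul_assoc]
      abel⟩
  exact ⟨c, embM_injective i (by rw [hc, map_smul, map_one])⟩

/-- An element stabilising a column lies in the tensor wreath group, if the statement holds with one slot fewer. -/
theorem Fix.mem_std (hm : 3 ≤ m) (hM : SLCtx M)
    (ih : ∀ K : Subgroup (GL (Fin s → Fin m) F), SLCtx K → K ≤ Std F m s) {i : Fin (s + 1)} {o : Fin m}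
    {g : GL (Fin (s + 1) → Fin m) F} (hg : g ∈ M) (hf : Fix i o g) :
    g ∈ Std F m (s + 1) ∧ ∃ (A : GL (Fin m) F) (B : GL (Fin s → Fin m) F),
      B ∈ Std F m s ∧ g = slotGL i A * emb i B := by
  obtain ⟨A, B, rfl⟩ := hf.split hm hM hg
  have hB : B ∈ Std F m s := ih _ (hM.coef hm i) ⟨A, hg⟩
  exact ⟨mul_mem (slotGL_mem i A) (emb_mem i hB), A, B, hB, rfl⟩

end CfsgLib.TensorWreathSL
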