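import Cfsg.Agent.Lib.TensorWreathSL.Fix

/-!
The inductive situation: the statement holds with one slot fewer. Centralisers of one-slot roots lie in the tensor
wreath group; elements fixing a slot split.
-/

set_option autoImplicit false
set_option linter.unusedSectionVars false

namespace CfsgLib.TensorWreathSL

open Cfsg Cfsg.Geo CfsgLib.Aschbacher CfsgLib.AschbacherForm CfsgLib.TensorWreath
open scoped Matrix MatrixGroups

variable {F : Type*} [Field F] [Finite F] {m s : ℕ} [NeZero m]

/-- The hypotheses of the inductive step. -/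
structure Lev (M : Subgroup (GL (Fin (s + 1) → Fin m) F)) : Prop where
  hm : 3 ≤ m
  hs : 0 < s
  ctx : SLCtx M
  ih : ∀ K : Subgroup (GL (Fin s → Fin m) F), SLCtx K → K ≤ Std F m s

variable {M : Subgroup (GL (Fin (s + 1) → Fin m) F)}

/-- An element mapping the image of a root into itself lies in the tensor wreath group and fixes the slot. -/
theorem Lev.std_of_mul (hL : Lev M) {i : Fin (s + 1)} {N R : TMat F m (s + 1)} (hN : IsRoot i N)
    {g : GL (Fin (s + 1) → Fin m) F} (hg : g ∈ M) (h : g.1 * N = N * R) :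
    g ∈ Std F m (s + 1) ∧ ∃ (A : GL (Fin m) F) (B : GL (Fin s → Fin m) F),
      B ∈ Std F m s ∧ g = slotGL i A * emb i B := by
  obtain ⟨o, c, hoc⟩ : ∃ o c : Fin m, o ≠ c :=
    ⟨0, ⟨1, by have := hL.hm; omega⟩, fun e => by simp [Fin.ext_iff] at e⟩
  obtain ⟨A₀, hA₀, e₀⟩ := hN.move hL.hm hoc
  set h₀ := slotGL i A₀
  have hf : Fix i o (h₀ * g * h₀⁻¹) := fix_of_mul_single (R := cj h₀ R) (c := c) (by
    rw [← cj_val, ← e₀, ← map_mul, h, map_mul])
  obtain ⟨hs, A, B, hB, e⟩ := hf.mem_std hL.hm hL.ctx hL.ih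
    (mul_mem (mul_mem (hL.ctx.sl i A₀ hA₀) hg) (inv_mem (hL.ctx.sl i A₀ hA₀)))
  refine ⟨?_, A₀⁻¹ * A * A₀, B, hB, ?_⟩
  · rw [show g = h₀⁻¹ * (h₀ * g * h₀⁻¹) * h₀ by group]
    exact mul_mem (mul_mem (inv_mem (slotGL_mem i A₀)) hs) (slotGL_mem i A₀)
  · rw [show g = h₀⁻¹ * (h₀ * g * h₀⁻¹) * h₀ by group, e, map_mul, map_mul, map_inv]
    simp only [h₀, mul_assoc]
    rw [slotGL_emb_comm i A₀ B]

/-- Centralisers of roots. -/
theorem Lev.cent_root (hL : Lev M) {i : Fin (s + 1)} {N : TMat F m (s + 1)} (hN : IsRoot i N)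
    {g : GL (Fin (s + 1) → Fin m) F} (hg : g ∈ M) (h : cj g N = N) :
    g ∈ Std F m (s + 1) ∧ ∃ (A : GL (Fin m) F) (B : GL (Fin s → Fin m) F),
      B ∈ Std F m s ∧ g = slotGL i A * emb i B :=
  hL.std_of_mul hN hg ((cj_eq_self_iff g N).1 h)

theorem slot_emb_conj (i : Fin (s + 1)) (A : GL (Fin m) F) (B : GL (Fin s → Fin m) F)
    (a : Matrix (Fin m) (Fin m) F) : cj (slotGL i A * emb i B) (slot i a) = slot i (cj A a) := by
  rw [← cj_cj, show cj (emb i B) (slot i a) = slot i a from (cj_eq_self_iff _ _).2 (slot_embM_comm i a _).symm,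
    slot_conj]

/-- An element of the tensor wreath group fixing a slot splits. -/
theorem std_split (hm : 2 ≤ m) (hs : 0 < s) {i : Fin (s + 1)} {g : GL (Fin (s + 1) → Fin m) F}
    {π : Equiv.Perm (Fin (s + 1))} (hg : g ∈ Std F m (s + 1)) (hπ : Rep g π) (hi : π i = i) :
    ∃ (A : GL (Fin m) F) (B : GL (Fin s → Fin m) F), B ∈ Std F m s ∧ g = slotGL i A * emb i B := by
  obtain ⟨π', A, rfl, hrep⟩ := exists_rep_of_std hg
  obtain rfl := hπ.unique hm hrep
  set w := (slotGL i (A i))⁻¹ * (permGL π * pureGL A) with hw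
  have hfix : ∀ a, cj w (slot i a) = slot i a := fun a => by
    have e : cj (pureGL A) (slot i a) = slot i (cj (A i) a) := by rw [cj_apply]; exact pure'_conj_slot A i a
    rw [hw, ← cj_cj, ← cj_cj, e, permGL_conj_slot, hi, ← slot_conj, cj_inv_cj]
  have hc : Cent i w.1 := fun a => ((cj_eq_self_iff w _).1 (hfix a)).symm
  have hfix' : ∀ a, cj w⁻¹ (slot i a) = slot i a := fun a => by
    conv_lhs => rw [← hfix a, cj_inv_cj]
  have hc' : Cent i w⁻¹.1 := fun a => ((cj_eq_self_iff w⁻¹ _).1 (hfix' a)).symm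
  obtain ⟨C, hC⟩ := (cent_iff i _).1 hc
  obtain ⟨C', hC'⟩ := (cent_iff i _).1 hc'
  let B : GL (Fin s → Fin m) F := ⟨C, C',
    embM_injective i (by rw [map_mul, map_one, ← hC, ← hC', Units.mul_inv]),
    embM_injective i (by rw [map_mul, map_one, ← hC, ← hC', Units.inv_mul])⟩
  have hBw : emb i B = w := Units.ext hC.symm
  refine ⟨A i, B, ?_, by rw [hBw, hw, mul_inv_cancel_left]⟩
  have hex : ∀ j, ∃ j', i.succAbove j' = π (i.succAbove j) := fun j =>
    Fin.exists_succAbove_eq fun e => Fin.succAbove_ne i j (π.injective (e.trans hi.symm))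
  choose τ hτ using hex
  have hτi : Function.Injective τ := fun a b e =>
    Fin.succAbove_right_injective (π.injective (by rw [← hτ, ← hτ, e]))
  refine std_of_rep (π := Equiv.ofBijective τ (Finite.injective_iff_bijective.1 hτi)) hs fun j a => ?_
  obtain ⟨a', ha'⟩ := hrep (i.succAbove j) a
  refine ⟨a', embM_injective i ?_⟩
  rw [cj_apply, map_mul, map_mul, embM_slot, embM_slot]
  show (emb i B : GL (Fin (s + 1) → Fin m) F).1 * slot (i.succAbove j) a * (emb i B⁻¹).1 = _
  rw [map_inv, hBw, ← cj_apply, hw, ← cj_cj, ha', ← map_inv, Equiv.ofBijective_apply, hτ]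
  exact slot_conj_ne (fun e => Fin.succAbove_ne i j (π.injective (e.symm.trans hi.symm))) _ _

/-- Conjugation does not increase the rank. -/
theorem rank_cj_le {n : ℕ} (g : GL (Fin n → Fin m) F) (N : TMat F m n) : (cj g N).rank ≤ N.rank := by
  rw [cj_apply]
  exact (Matrix.rank_mul_le_left _ _).trans (Matrix.rank_mul_le_right _ _)

/-- An invertible compression bounds the rank from below. -/
theorem card_le_rank {X κ : Type*} [Fintype X] [Fintype κ] [DecidableEq κ] (N : Matrix X X F) (L : Matrix κ X F)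
    (R : Matrix X κ F) (h : IsUnit (L * N * R)) : Fintype.card κ ≤ N.rank := by
  rw [← Matrix.rank_of_isUnit _ h]
  exact (Matrix.rank_mul_le_left _ _).trans (Matrix.rank_mul_le_right _ _)

/-- The columns attached to a vector of one slot. -/
def colM (i : Fin (s + 1)) (v : Fin m → F) : Matrix (Fin (s + 1) → Fin m) (Fin s → Fin m) F :=
  Matrix.of fun x u => if i.removeNth x = u then v (x i) else 0

/-- The rows attached to a functional of one slot. -/
def rowM (i : Fin (s + 1)) (ψ : Fin m → F) : Matrix (Fin s → Fin m) (Fin (s + 1) → Fin m) F :=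
  Matrix.of fun u x => if i.removeNth x = u then ψ (x i) else 0

theorem spl_symm (i : Fin (s + 1)) (k : Fin m) (u : Fin s → Fin m) : (spl i).symm (k, u) = i.insertNth k u := rfl

theorem rowM_mul_colM (i : Fin (s + 1)) (ψ v : Fin m → F) (G : TMat F m (s + 1)) :
    rowM i ψ * G * colM i v = ∑ k, ∑ l, (ψ k * v l) • blk i G k l := by
  ext u u'
  simp only [Matrix.mul_apply, rowM, colM, Matrix.of_apply, Matrix.sum_apply, Matrix.smul_apply, blk_apply,
    smul_eq_mul, Finset.sum_mul]
  rw [← (spl i).symm.sum_comp, Fintype.sum_prod_type]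
  simp only [spl_symm, Fin.insertNth_apply_same, Fin.removeNth_insertNth]
  conv_lhs => arg 2; ext l; arg 2; ext w; rw [← (spl i).symm.sum_comp, Fintype.sum_prod_type]
  simp only [spl_symm, Fin.insertNth_apply_same, Fin.removeNth_insertNth]
  rw [Finset.sum_comm (f := fun k l => ψ k * v l * G _ _)]
  refine Finset.sum_congr rfl fun l _ => ?_
  rw [Finset.sum_eq_single u']
  · refine Finset.sum_congr rfl fun k _ => ?_
    rw [if_pos rfl, Finset.sum_eq_single u]
    · rw [if_pos rfl]; ring
    · intro w _ hw; rw [if_neg hw, zero_mul, zero_mul]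
    · simp
  · intro w _ hw
    refine Finset.sum_eq_zero fun k _ => Finset.sum_eq_zero fun w' _ => ?_
    rw [if_neg hw, mul_zero]
  · simp

theorem rowM_slot_emb_colM (i : Fin (s + 1)) (ψ v : Fin m → F) (A : Matrix (Fin m) (Fin m) F) (B : TMat F m s) :
    rowM i ψ * (slot i A * embM i B) * colM i v = (ψ ⬝ᵥ (A *ᵥ v)) • B := by
  rw [rowM_mul_colM, map_mul, blk_slot_self, blk_embM]
  simp only [up_dg_apply, smul_smul, ← Finset.sum_smul]
  congr 1
  simp only [dotProduct, Matrix.mulVec, Finset.mul_sum]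
  exact Finset.sum_congr rfl fun k _ => Finset.sum_congr rfl fun l _ => by ring

/-- The rank of a root. -/
theorem IsRoot.rank_le {i : Fin (s + 1)} {N : TMat F m (s + 1)} (h : IsRoot i N) : N.rank ≤ m ^ s := by
  obtain ⟨v, φ, -, -, -, rfl⟩ := h
  have e : slot i (Matrix.vecMulVec v φ) = colM i v * rowM i φ := by
    ext x y
    simp only [Matrix.mul_apply, colM, rowM, Matrix.of_apply, slot, Matrix.vecMulVec_apply]
    rw [Finset.sum_eq_single (i.removeNth x)]
    · rw [if_pos rfl]
      by_cases hxy : ∀ j, j ≠ i → x j = y j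
      · rw [if_pos hxy, if_pos (show i.removeNth y = i.removeNth x from funext fun j => (hxy _ (Fin.succAbove_ne i j)).symm)]
      · rw [if_neg hxy, if_neg, mul_zero]
        intro e
        refine hxy fun j hj => ?_
        obtain ⟨j', rfl⟩ := Fin.exists_succAbove_eq hj
        exact (congrFun e j').symm
    · intro u _ hu; rw [if_neg (Ne.symm hu), zero_mul]
    · simp
  rw [e]
  refine (Matrix.rank_mul_le_left _ _).trans ((Matrix.rank_le_card_width _).trans ?_)
  simp

end CfsgLib.TensorWreathSL
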