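import Cfsg.Agent.Lib.TensorWreathSL.Odd

/-!
A group containing the special linear group of each slot with no root element twisted by a non-scalar coefficient
lies in the tensor wreath group.
-/

set_option autoImplicit false
set_option linter.unusedSectionVars false

namespace CfsgLib.TensorWreathSL

open Cfsg Cfsg.Geo CfsgLib.Aschbacher CfsgLib.AschbacherForm CfsgLib.TensorWreath
open scoped Matrix MatrixGroups

variable {F : Type*} [Field F] [Finite F] {m s : ℕ} [NeZero m]
variable {M : Subgroup (GL (Fin (s + 1) → Fin m) F)}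

/-- An endomorphism with a quadratic relation of an odd dimensional space gives a root of the quadratic. -/
theorem exists_root_of_odd {K : Type*} [Field K] : ∀ (n : ℕ) {V : Type*} [AddCommGroup V] [Module K V]
    [FiniteDimensional K V], Module.finrank K V = n → Odd n → ∀ (f : V →ₗ[K] V) (a b : K),
      (∀ v, f (f v) = a • f v + b • v) → ∃ l : K, l * l = a * l + b := by
  intro n
  induction n using Nat.strong_induction_on with
  | _ n ih =>
  intro V _ _ _ hn hodd f a b hf
  have hpos : 0 < Module.finrank K V := hn ▸ hodd.pos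
  obtain ⟨v, hv⟩ := (Module.finrank_pos_iff_exists_ne_zero (R := K)).1 hpos
  by_cases hdep : ∃ l : K, f v = l • v
  · obtain ⟨l, hl⟩ := hdep
    refine ⟨l, ?_⟩
    have h := hf v
    rw [hl, map_smul, hl, smul_smul, smul_smul, ← add_smul] at h
    exact sub_eq_zero.1 ((smul_eq_zero.1 (by rw [sub_smul, h, sub_self])).resolve_right hv)
  push Not at hdep
  have hli : LinearIndependent K ![v, f v] :=
    (LinearIndependent.pair_iff' hv).2 fun l e => hdep l e.symm
  set S := Submodule.span K (Set.range ![v, f v]) with hS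
  have hSr : Module.finrank K S = 2 := by
    rw [hS, finrank_span_eq_card hli, Fintype.card_fin]
  have hinv : S ≤ S.comap f := by
    rw [hS, Submodule.span_le]
    rintro _ ⟨j, rfl⟩
    fin_cases j
    · exact Submodule.subset_span ⟨1, rfl⟩
    · show f (f v) ∈ S
      rw [hf]
      exact add_mem (S.smul_mem _ (Submodule.subset_span ⟨1, rfl⟩)) (S.smul_mem _ (Submodule.subset_span ⟨0, rfl⟩))
  have hq := S.finrank_quotient_add_finrank
  rw [hSr, hn] at hq
  refine ih (Module.finrank K (V ⧸ S)) (by omega) rfl ?_ (S.mapQ S f hinv) a b ?_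
  · rcases hodd with ⟨k, rfl⟩
    exact ⟨k - 1, by omega⟩
  · intro x
    obtain ⟨y, rfl⟩ := Submodule.Quotient.mk_surjective S x
    simp [hf]

/-- Columns move like vectors of the slot. -/
theorem slot_emb_mul_colM (i : Fin (s + 1)) (A : Matrix (Fin m) (Fin m) F) (B : TMat F m s) (v : Fin m → F) :
    slot i A * embM i B * colM i v = colM i (A *ᵥ v) * B := by
  ext x u
  obtain ⟨⟨k, w⟩, rfl⟩ := (spl i).symm.surjective x
  rw [Matrix.mul_apply, Matrix.mul_apply]
  simp only [colM, Matrix.of_apply, spl_symm, Fin.insertNth_apply_same, Fin.removeNth_insertNth]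
  rw [Finset.sum_eq_single (f := fun j => (if w = j then (A *ᵥ v) k else 0) * B j u) w
      (fun b _ hb => by rw [if_neg (Ne.symm hb), zero_mul]) (by simp), if_pos rfl,
    ← (spl i).symm.sum_comp, Fintype.sum_prod_type]
  simp only [spl_symm, Fin.insertNth_apply_same, Fin.removeNth_insertNth, Matrix.mulVec, dotProduct, Finset.sum_mul]
  refine Finset.sum_congr rfl fun l _ => ?_
  rw [Finset.sum_eq_single u (fun b _ hb => by rw [if_neg hb, mul_zero]) (by simp), if_pos rfl]
  have : (slot i A * embM i B) (i.insertNth k w) (i.insertNth l u) = A k l * B w u := by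
    show (blk i) (slot i A * embM i B) k l w u = _
    rw [map_mul, blk_slot_self, blk_embM, up_dg_apply]; rfl
  rw [this]; ring

theorem colM_add (i : Fin (s + 1)) (v w : Fin m → F) : colM i (v + w) = colM i v + colM i w := by
  ext x u; simp only [colM, Matrix.of_apply, Matrix.add_apply]; split_ifs <;> simp

theorem colM_smul (i : Fin (s + 1)) (c : F) (v : Fin m → F) : colM i (c • v) = c • colM i v := by
  ext x u; simp only [colM, Matrix.of_apply, Matrix.smul_apply]; split_ifs <;> simp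

/-- The statement of the step. -/
theorem Lev.le_std (hL : Lev M) : M ≤ Std F m (s + 1) := by
  classical
  intro g hg
  by_contra hgs
  have hm := hL.hm
  let i : Fin (s + 1) := 0
  set o : Fin m := 0
  obtain ⟨c, hco⟩ : ∃ c, c ≠ o := ⟨⟨1, by omega⟩, fun e => by simp [o, Fin.ext_iff] at e⟩
  set a : TMat F m (s + 1) := slot i (Matrix.single o c 1)
  have ha : IsRoot i a := isRoot_single i hco.symm
  set C := cj g a with hC
  set E : TMat F m (s + 1) := slot i (Matrix.single o o 1) with hE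
  set 𝒯 := LinearMap.ker ((E.vecMulLinear).prod C.vecMulLinear) with h𝒯
  have hmem : ∀ {T}, T ∈ 𝒯 → T ᵥ* E = 0 ∧ T ᵥ* C = 0 := fun {T} h => by
    rw [h𝒯, LinearMap.mem_ker, LinearMap.prod_apply] at h
    exact ⟨congrArg Prod.fst h, congrArg Prod.snd h⟩
  -- the moving elements
  have hw : ∀ φ φ' : Fin m → F, φ o = 0 → φ ≠ 0 → φ' o = 0 → φ' ≠ 0 → ∃ (A : GL (Fin m) F)
      (B : GL (Fin s → Fin m) F) (r : F), r ≠ 0 ∧
        cj A (Matrix.vecMulVec (Pi.single o 1) φ) = r • Matrix.vecMulVec (Pi.single o 1) φ' ∧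
        ∀ T ∈ 𝒯, ∀ v, (T ᵥ* colM i ((A : Matrix (Fin m) (Fin m) F) *ᵥ v)) ᵥ* (B : TMat F m s) = T ᵥ* colM i v := by
    intro φ φ' hφ hφ0 hφ' hφ'0
    have hR : ∀ {φ : Fin m → F}, φ o = 0 → φ ≠ 0 → IsRoot i (slot i (Matrix.vecMulVec (Pi.single o (1 : F)) φ)) :=
      fun h h' => ⟨_, _, by simp, h', by simp [h], rfl⟩
    obtain ⟨v₁, hv₁, k₁, hk₁, e₁, f₁⟩ := hL.conj_root (hR hφ hφ0) ha hg hgs
    obtain ⟨v₂, hv₂, k₂, hk₂, e₂, f₂⟩ := hL.conj_root (hR hφ' hφ'0) ha hg hgs
    set w := v₂ * v₁⁻¹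
    set X₁ := slot (F := F) i (Matrix.vecMulVec (Pi.single o (1 : F)) φ) with hX₁
    set X₂ := slot (F := F) i (Matrix.vecMulVec (Pi.single o (1 : F)) φ') with hX₂
    have hcj : cj w X₁ = (k₂ / k₁) • X₂ := by
      have h1 : cj (w * (v₁ * g)) a = k₂ • X₂ := by
        rw [show w * (v₁ * g) = v₂ * g by simp [w, mul_assoc], e₂]
      rw [← cj_cj, e₁, map_smul] at h1
      rw [← inv_smul_smul₀ hk₁ (cj w X₁), h1, smul_smul, div_eq_inv_mul]
    obtain ⟨x, hx⟩ : ∃ x : Fin m → F, φ ⬝ᵥ x = 1 := by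
      obtain ⟨k, hk⟩ := Function.ne_iff.1 hφ0
      exact ⟨Pi.single k (φ k)⁻¹, by simpa using mul_inv_cancel₀ hk⟩
    have hfac : X₂ = X₁ * slot i (Matrix.vecMulVec x φ') := by
      rw [hX₁, ← slot_mul, vmv_smul_mul, hx, one_smul]
    have hmul : w.1 * X₁ = X₁ * ((k₂ / k₁) • slot i (Matrix.vecMulVec x φ') * w.1) := by
      rw [← mul_assoc, Matrix.mul_smul, ← hfac, ← hcj, cj_apply, mul_assoc, Units.inv_mul, mul_one]
    obtain ⟨-, A, B, -, eAB⟩ := hL.std_of_mul (hR hφ hφ0) (mul_mem hv₂ (inv_mem hv₁)) hmul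
    refine ⟨A, B, k₂ / k₁, div_ne_zero hk₂ hk₁, ?_, fun T hT v => ?_⟩
    · refine slot_injective i ?_
      rw [← slot_emb_conj i A B, ← eAB, slot_smul]
      exact hcj
    · obtain ⟨hTE, hTC⟩ := hmem hT
      have hTX : ∀ ψ : Fin m → F, T ᵥ* slot i (Matrix.vecMulVec (Pi.single o (1 : F)) ψ) = 0 := fun ψ => by
        rw [show Matrix.vecMulVec (Pi.single o (1 : F)) ψ =
            Matrix.single o o 1 * Matrix.vecMulVec (Pi.single o 1) ψ by
          rw [Matrix.single_eq_single_vecMulVec_single, vmv_smul_mul]; simp]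
        rw [slot_mul, ← Matrix.vecMul_vecMul, hTE, Matrix.zero_vecMul]
      have hTw : T ᵥ* w.1 = T := by
        have h1 := f₁ T (hTX φ) hTC
        have h2 : T ᵥ* v₁⁻¹.1 = T := by conv_lhs => rw [← h1, Matrix.vecMul_vecMul, Units.mul_inv, Matrix.vecMul_one]
        show T ᵥ* (v₂ * v₁⁻¹).1 = T
        rw [Units.val_mul, ← Matrix.vecMul_vecMul, f₂ T (hTX φ') hTC, h2]
      have hwv : w.1 = slot i A.1 * embM i B.1 := by
        have := congrArg Units.val eAB
        exact this
      rw [Matrix.vecMul_vecMul, ← slot_emb_mul_colM, ← hwv, ← Matrix.vecMul_vecMul, hTw]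
  -- the map of a functional is injective off the line
  have hLo : ∀ T ∈ 𝒯, T ᵥ* colM i (Pi.single o (1 : F)) = 0 := fun T hT => by
    have e := slot_emb_mul_colM i (Matrix.single o o (1 : F)) (1 : TMat F m s) (Pi.single o 1)
    rw [map_one, mul_one, Matrix.mul_one, Matrix.single_mulVec_eq] at e
    simp only [Pi.single_eq_same, mul_one, one_smul] at e
    rw [← e, ← Matrix.vecMul_vecMul, (hmem hT).1, Matrix.zero_vecMul]
  have hinj : ∀ T ∈ 𝒯, ∀ x : Fin m → F, x ∉ F ∙ (Pi.single o (1 : F) : Fin m → F) → T ᵥ* colM i x = 0 → T = 0 := by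
    intro T hT x hx hTx
    by_contra hT0
    let K0 : Submodule F (Fin m → F) :=
      { carrier := {v | T ᵥ* colM i v = 0}
        zero_mem' := by
          show T ᵥ* colM i (0 : Fin m → F) = 0
          rw [show (0 : Fin m → F) = (0 : F) • x by simp, colM_smul, Matrix.vecMul_smul, zero_smul]
        add_mem' := fun {a b} ha hb => by
          show T ᵥ* colM i (a + b) = 0
          rw [colM_add, Matrix.vecMul_add, show T ᵥ* colM i a = 0 from ha, show T ᵥ* colM i b = 0 from hb, add_zero]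
        smul_mem' := fun r {a} ha => by
          show T ᵥ* colM i (r • a) = 0
          rw [colM_smul, Matrix.vecMul_smul, show T ᵥ* colM i a = 0 from ha, smul_zero] }
    obtain ⟨k, hk⟩ : ∃ k, (Pi.single k (1 : F) : Fin m → F) ∉ K0 := by
      by_contra hcon
      push Not at hcon
      refine hT0 (funext fun y => ?_)
      obtain ⟨⟨k, u⟩, rfl⟩ := (spl i).symm.surjective y
      have := congrFun (show T ᵥ* colM i (Pi.single k (1 : F)) = 0 from hcon k) u
      simp only [Matrix.vecMul, dotProduct, colM, Matrix.of_apply, Pi.zero_apply] at this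
      rw [← (spl i).symm.sum_comp, Fintype.sum_prod_type, Finset.sum_eq_single k, Finset.sum_eq_single u] at this
      · simpa [spl_symm] using this
      · intro b _ hb; simp [spl_symm, hb]
      · simp
      · intro b _ hb; exact Finset.sum_eq_zero fun b' _ => by simp [spl_symm, hb]
      · simp
    obtain ⟨φ', hφ'k, hφ'K⟩ := exists_dual hk
    have hoK : (Pi.single o (1 : F) : Fin m → F) ∈ K0 := hLo T hT
    obtain ⟨φ, hφx, hφS⟩ := exists_dual hx
    have hφo : φ o = 0 := by simpa using hφS _ (Submodule.mem_span_singleton_self _)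
    have hφ'o : φ' o = 0 := by simpa using hφ'K _ hoK
    obtain ⟨A, B, r, hr, eA, hT'⟩ := hw φ φ' hφo (fun e => by simp [e] at hφx) hφ'o (fun e => by simp [e] at hφ'k)
    have hAx : (A : Matrix (Fin m) (Fin m) F) *ᵥ x ∈ K0 := by
      have e := hT' T hT x
      rw [hTx] at e
      exact Matrix.vecMul_injective_of_isUnit B.isUnit (e.trans (Matrix.zero_vecMul _).symm)
    have e := congrArg (fun N : Matrix (Fin m) (Fin m) F => N *ᵥ ((A : Matrix (Fin m) (Fin m) F) *ᵥ x)) eA
    rw [cj_vmv] at e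
    simp only [Matrix.smul_mulVec, Matrix.vecMulVec_mulVec, op_smul_eq_smul] at e
    simp only [hφ'K _ hAx, zero_smul, smul_zero,
      ← Matrix.dotProduct_mulVec, Matrix.mulVec_mulVec, Units.inv_mul, Matrix.one_mulVec, hφx, one_smul] at e
    simpa using congrFun (Matrix.mulVec_injective_of_isUnit A.isUnit (e.trans (Matrix.mulVec_zero _).symm)) o
  -- dimensions
  have hnotline : ∀ {k : Fin m}, k ≠ o → (Pi.single k (1 : F) : Fin m → F) ∉ F ∙ (Pi.single o (1 : F) : Fin m → F) := by
    intro k hk h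
    obtain ⟨r, hr⟩ := Submodule.mem_span_singleton.1 h
    have := congrFun hr k
    simp [hk] at this
  let Lc : 𝒯 →ₗ[F] (Fin s → Fin m) → F := (colM i (Pi.single c (1 : F))).vecMulLinear.comp 𝒯.subtype
  have hLcinj : Function.Injective Lc := (injective_iff_map_eq_zero Lc).2 fun T h =>
    Subtype.ext (hinj T.1 T.2 _ (hnotline hco) h)
  have hd : ∀ N : TMat F m (s + 1), Module.finrank F (LinearMap.range N.vecMulLinear) = N.rank := fun N => by
    rw [range_vecMulLinear, Matrix.rank_eq_finrank_span_row]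
  have hrkE : E.rank ≤ m ^ s := by
    rw [hE, show Matrix.single o o (1 : F) = Matrix.single o c 1 * Matrix.single c o 1 by
      rw [Matrix.single_mul_single_same, mul_one], slot_mul]
    exact (Matrix.rank_mul_le_left _ _).trans ha.rank_le
  have hrkC : C.rank ≤ m ^ s := (rank_cj_le g a).trans ha.rank_le
  have hdim := LinearMap.finrank_range_add_finrank_ker ((E.vecMulLinear).prod C.vecMulLinear)
  have hle : Module.finrank F (LinearMap.range ((E.vecMulLinear).prod C.vecMulLinear)) ≤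
      Module.finrank F (LinearMap.range E.vecMulLinear) + Module.finrank F (LinearMap.range C.vecMulLinear) := by
    rw [← Module.finrank_prod, ← LinearMap.finrank_range_of_inj (f :=
      (LinearMap.range E.vecMulLinear).subtype.prodMap (LinearMap.range C.vecMulLinear).subtype)
      (fun p q h => Prod.ext (Subtype.ext (congrArg Prod.fst h)) (Subtype.ext (congrArg Prod.snd h)))]
    refine Submodule.finrank_mono ?_
    rintro _ ⟨T, rfl⟩
    exact ⟨(⟨_, T, rfl⟩, ⟨_, T, rfl⟩), rfl⟩
  rw [hd, hd] at hle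
  rw [Module.finrank_fintype_fun_eq_card, Fintype.card_fun, Fintype.card_fin, Fintype.card_fin] at hdim
  have hbound := LinearMap.finrank_le_finrank_of_injective hLcinj
  rw [Module.finrank_fintype_fun_eq_card, Fintype.card_fun, Fintype.card_fin, Fintype.card_fin] at hbound
  have hpos : 0 < m ^ s := pow_pos (by omega) _
  rw [pow_succ] at hdim
  change Module.finrank F (LinearMap.range ((E.vecMulLinear).prod C.vecMulLinear)) + Module.finrank F 𝒯 = _ at hdim
  obtain rfl : m = 3 := by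
    by_contra hne
    have : m ^ s * 4 ≤ m ^ s * m := Nat.mul_le_mul_left _ (by omega)
    omega
  have hdimT : Module.finrank F 𝒯 = Module.finrank F ((Fin s → Fin 3) → F) := by
    rw [Module.finrank_fintype_fun_eq_card, Fintype.card_fun, Fintype.card_fin, Fintype.card_fin]
    have : 3 ^ s * 3 = 3 * 3 ^ s := mul_comm _ _
    omega
  let e := LinearEquiv.ofInjectiveOfFinrankEq Lc hLcinj hdimT
  obtain ⟨n, hno, hnc⟩ : ∃ n : Fin 3, n ≠ o ∧ n ≠ c := by
    obtain ⟨n, h1, h2⟩ := Fin.exists_ne_and_ne_of_two_lt o c (by omega : 2 < 3); exact ⟨n, h1, h2⟩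
  let σ : ((Fin s → Fin 3) → F) →ₗ[F] ((Fin s → Fin 3) → F) :=
    ((colM i (Pi.single n (1 : F))).vecMulLinear.comp 𝒯.subtype).comp e.symm.toLinearMap
  have hσ : ∀ T : 𝒯, σ (T.1 ᵥ* colM i (Pi.single c (1 : F))) = T.1 ᵥ* colM i (Pi.single n (1 : F)) := fun T => by
    show (e.symm (e T)).1 ᵥ* _ = _
    rw [LinearEquiv.symm_apply_apply]
  obtain ⟨A, B, r, hr, eA, hT'⟩ := hw (Pi.single c 1) (Pi.single n 1) (by simp [hco.symm])
    (by simp) (by simp [hno.symm]) (by simp)
  rw [cj_vmv] at eA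
  have hAx : ∀ x : Fin 3 → F, (x c) • ((A : Matrix (Fin 3) (Fin 3) F) *ᵥ Pi.single o 1) =
      (r * ((A : Matrix (Fin 3) (Fin 3) F) *ᵥ x) n) • (Pi.single o 1 : Fin 3 → F) := fun x => by
    have e1 := congrArg (fun N : Matrix (Fin 3) (Fin 3) F => N *ᵥ ((A : Matrix (Fin 3) (Fin 3) F) *ᵥ x)) eA
    simp only [Matrix.smul_mulVec, Matrix.vecMulVec_mulVec, op_smul_eq_smul] at e1
    simpa only [← Matrix.dotProduct_mulVec,
      Matrix.mulVec_mulVec, Units.inv_mul, Matrix.one_mulVec, single_dotProduct, one_mul, smul_smul] using e1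
  have hnn : ((A : Matrix (Fin 3) (Fin 3) F) *ᵥ Pi.single n 1) n = 0 := by
    have h := congrFun (hAx (Pi.single n 1)) o
    rw [Pi.single_eq_of_ne hnc.symm, zero_smul, Pi.smul_apply, Pi.single_eq_same, smul_eq_mul, mul_one, Pi.zero_apply] at h
    exact (mul_eq_zero.1 h.symm).resolve_left hr
  have hnc' : ((A : Matrix (Fin 3) (Fin 3) F) *ᵥ Pi.single c 1) n ≠ 0 := fun h0 => by
    have h := hAx (Pi.single c 1)
    rw [Pi.single_eq_same, one_smul, h0, mul_zero, zero_smul] at h
    simpa using congrFun (Matrix.mulVec_injective_of_isUnit A.isUnit (h.trans (Matrix.mulVec_zero _).symm)) o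
  set q := ((A : Matrix (Fin 3) (Fin 3) F) *ᵥ Pi.single c 1) n
  set p := ((A : Matrix (Fin 3) (Fin 3) F) *ᵥ Pi.single c 1) c
  set l := ((A : Matrix (Fin 3) (Fin 3) F) *ᵥ Pi.single n 1) c
  have hdec : ∀ x : Fin 3 → F, x = x o • Pi.single o 1 + x c • Pi.single c 1 + x n • Pi.single n 1 := fun x => by
    funext k
    have hk : k = o ∨ k = c ∨ k = n :=
      (by decide : ∀ a b d k : Fin 3, b ≠ a → d ≠ a → d ≠ b → k = a ∨ k = b ∨ k = d) o c n k hco hno hnc
    rcases hk with rfl | rfl | rfl <;> simp [hco, hno, hnc, hco.symm, hno.symm, hnc.symm]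
  have hLdec : ∀ (T : 𝒯) (x : Fin 3 → F), T.1 ᵥ* colM i x =
      x c • (T.1 ᵥ* colM i (Pi.single c (1 : F))) + x n • σ (T.1 ᵥ* colM i (Pi.single c (1 : F))) := fun T x => by
    conv_lhs => rw [hdec x]
    rw [colM_add, colM_add, colM_smul, colM_smul, colM_smul, Matrix.vecMul_add, Matrix.vecMul_add,
      Matrix.vecMul_smul, Matrix.vecMul_smul, Matrix.vecMul_smul, hLo T.1 T.2, smul_zero, zero_add, hσ]
  have rel : ∀ X : (Fin s → Fin 3) → F, σ X = l • (X ᵥ* (B : TMat F 3 s)) ∧
      X = p • (X ᵥ* (B : TMat F 3 s)) + q • (σ X ᵥ* (B : TMat F 3 s)) := fun X => by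
    obtain ⟨T, hT⟩ := e.surjective X
    have hX : T.1 ᵥ* colM i (Pi.single c (1 : F)) = X := hT
    have h1 := hT' T.1 T.2 (Pi.single n 1)
    rw [hLdec T ((A : Matrix (Fin 3) (Fin 3) F) *ᵥ Pi.single n 1), ← hσ, hX, hnn, zero_smul, add_zero,
      Matrix.smul_vecMul] at h1
    have h2 := hT' T.1 T.2 (Pi.single c 1)
    rw [hLdec T ((A : Matrix (Fin 3) (Fin 3) F) *ᵥ Pi.single c 1), hX, Matrix.add_vecMul, Matrix.smul_vecMul,
      Matrix.smul_vecMul] at h2
    exact ⟨h1.symm, h2.symm⟩
  have heig : ∀ (X : (Fin s → Fin 3) → F) (lam : F), X ≠ 0 → σ X ≠ lam • X := by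
    intro X lam hX h
    obtain ⟨T, hT⟩ := e.surjective X
    have hX' : T.1 ᵥ* colM i (Pi.single c (1 : F)) = X := hT
    refine hX ?_
    have h0 := hinj T.1 T.2 (Pi.single n 1 + (-lam) • Pi.single c 1) (fun hm' => by
      obtain ⟨k, hk⟩ := Submodule.mem_span_singleton.1 hm'
      have := congrFun hk n
      simp [hno, hnc] at this) (by
      rw [colM_add, colM_smul, Matrix.vecMul_add, Matrix.vecMul_smul, ← hσ, hX', h, neg_smul, add_neg_cancel])
    rw [← hX', h0, Matrix.zero_vecMul]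
  have hnt : ∃ X : (Fin s → Fin 3) → F, X ≠ 0 := ⟨1, one_ne_zero⟩
  obtain ⟨X₀, hX₀⟩ := hnt
  have hl0 : l ≠ 0 := fun h => heig X₀ 0 hX₀ (by rw [(rel X₀).1, h, zero_smul, zero_smul])
  have hcomm : ∀ X, σ (X ᵥ* (B : TMat F 3 s)) = σ X ᵥ* (B : TMat F 3 s) := fun X => by
    rw [(rel (X ᵥ* (B : TMat F 3 s))).1, (rel X).1, Matrix.smul_vecMul]
  have hquad : ∀ X, σ (σ X) = (-(p / q)) • σ X + (l / q) • X := fun X => by
    have h1 := (rel X).1
    have h2 := (rel X).2
    have h3 : σ (σ X) = l • (σ X ᵥ* (B : TMat F 3 s)) := (rel (σ X)).1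
    conv_rhs => arg 2; arg 2; rw [h2]
    rw [h3, smul_add, smul_smul, smul_smul, h1, smul_smul, ← add_assoc, ← add_smul]
    rw [show -(p / q) * l + l / q * p = 0 by ring, zero_smul, zero_add, div_mul_cancel₀ _ hnc']
  obtain ⟨lam, hlam⟩ := exists_root_of_odd _ (rfl : Module.finrank F ((Fin s → Fin 3) → F) = _) (by
    rw [Module.finrank_fintype_fun_eq_card, Fintype.card_fun, Fintype.card_fin, Fintype.card_fin]
    exact Odd.pow (by decide)) σ _ _ hquad
  -- one of the two roots is an eigenvalue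
  set Z := σ X₀ - (-(p / q) - lam) • X₀ with hZ
  rcases eq_or_ne Z 0 with h0 | h0
  · exact heig X₀ _ hX₀ (sub_eq_zero.1 h0)
  · refine heig Z lam h0 ?_
    rw [hZ, map_sub, map_smul, hquad, smul_sub, smul_smul]
    have : lam * (-(p / q) - lam) = -(l / q) := by linear_combination -hlam
    rw [this, sub_smul, neg_smul]
    module

/-- The main induction. -/
theorem le_std (hm : 3 ≤ m) : ∀ (s : ℕ) (M : Subgroup (GL (Fin (s + 1) → Fin m) F)), SLCtx M → M ≤ Std F m (s + 1) := by
  intro s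
  induction s with
  | zero =>
    intro M _ g _
    refine std_of_rep (π := 1) Nat.one_pos fun i a =>
      ⟨Matrix.of fun p q => cj g (slot i a) (fun _ => p) (fun _ => q), Matrix.ext fun x y => ?_⟩
    have hx : ∀ x : Fin 1 → Fin m, (fun _ => x i) = x := fun x => funext fun j => by rw [Subsingleton.elim (α := Fin 1) j i]
    show _ = slot i _ x y
    conv_rhs => rw [slot, Matrix.of_apply, Matrix.of_apply, if_pos (fun j hj => absurd (Subsingleton.elim (α := Fin 1) j i) hj)]
    rw [hx, hx]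
  | succ s ih =>
    intro M hM
    exact Lev.le_std ⟨hm, s.succ_pos, hM, ih⟩

end CfsgLib.TensorWreathSL
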