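import Cfsg.Agent.Lib.TensorWreathSL.Two
import Cfsg.Agent.Lib.TensorWreath.RepThree

/-!
Every characteristic: a conjugate of a root outside the tensor wreath group is conjugate, up to a scalar, to every
root inside the group generated by the two root subgroups.
-/

set_option autoImplicit false
set_option linter.unusedSectionVars false

namespace CfsgLib.TensorWreathSL

open Cfsg Cfsg.Geo CfsgLib.Aschbacher CfsgLib.AschbacherForm CfsgLib.TensorWreath
open scoped Matrix MatrixGroups
open Polynomial (aeval)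

variable {F : Type*} [Field F] [Finite F] {m s : ℕ} [NeZero m]
variable {M : Subgroup (GL (Fin (s + 1) → Fin m) F)}

theorem InM.conj {E : Type*} [Ring E] {M : Subgroup Eˣ} {h : Eˣ} (hh : h ∈ M) {x : E} (hx : InM M x) :
    InM M ((h : E) * x * (↑h⁻¹ : E)) :=
  (TensorWreath.InM.mul (TensorWreath.InM.mul ⟨h, hh, rfl⟩ hx) ⟨h⁻¹, inv_mem hh, rfl⟩)

/-- A matrix compressed between two copies of the standard root. -/
theorem sandwich_single (i : Fin (s + 1)) (o c : Fin m) (W : TMat F m (s + 1)) :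
    slot i (Matrix.single o c (1 : F)) * W * slot i (Matrix.single o c (1 : F)) =
      slot i (Matrix.single o c (1 : F)) * embM i (blk i W c o) := by
  refine (blk i).injective (Matrix.ext fun k l => ?_)
  rw [map_mul, map_mul, map_mul, blk_slot_self, blk_embM, up_dg_apply, mul_up_apply, Finset.sum_eq_single o,
    up_mul_apply, Finset.sum_eq_single c]
  · rw [smul_smul]
    by_cases hk : o = k <;> by_cases hl : c = l <;> simp [Matrix.single_apply, hk, hl]
  · intro b _ hb; rw [Matrix.single_apply_of_col_ne _ _ hb.symm, zero_smul]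
  · simp
  · intro b _ hb; rw [Matrix.single_apply_of_row_ne hb.symm, zero_smul]
  · simp

/-- An element `1 + P X` with `P` commuting with the root `X` is in the root group. -/
theorem Lev.rad_scalar (hL : Lev M) {i : Fin (s + 1)} {X P : TMat F m (s + 1)} (hX : IsRoot i X)
    (hP : Commute P X) (h : InM M (1 + P * X)) : ∃ k : F, P * X = k • X := by
  obtain ⟨o, c, hoc⟩ : ∃ o c : Fin m, o ≠ c :=
    ⟨0, ⟨1, by have := hL.hm; omega⟩, fun e => by simp [Fin.ext_iff] at e⟩
  obtain ⟨A, hA, eA⟩ := hX.move hL.hm hoc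
  set h₀ := slotGL i A
  set e : TMat F m (s + 1) := slot i (Matrix.single o c 1) with he
  set P' := cj h₀ P
  have hP' : P' * e = e * P' := by rw [← eA, ← map_mul, ← map_mul, hP.eq]
  have hin : InM M (1 + P' * e) := by
    have := InM.conj (hL.ctx.sl i A hA) h
    rw [← cj_apply, map_add, map_one, map_mul, eA] at this
    exact this
  set b : TMat F m (s + 1) := slot i (Matrix.single c o 1)
  have hebe : e * b * e = e := by
    rw [← slot_mul, ← slot_mul, Matrix.single_mul_single_same, mul_one, Matrix.single_mul_single_same, mul_one]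
  have hform : P' * e = e * embM i (blk i (b * P') c o) := by
    rw [← sandwich_single, ← he]
    calc P' * e = e * P' := hP'
      _ = (e * b * e) * P' := by rw [hebe]
      _ = e * (b * P') * e := by simp only [mul_assoc, hP']
  obtain ⟨k, hk⟩ := hL.ctx.nr i o c hoc _ ((cent_iff i _).2 ⟨_, rfl⟩) (hform ▸ hin)
  refine ⟨k, (cj h₀).injective ?_⟩
  rw [map_mul, map_smul, eA, hform, hk, Matrix.mul_smul, mul_one]

/-- In odd characteristic a root sandwiches a conjugate of a root into its line. -/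
theorem Lev.scal (hL : Lev M) (h2 : (2 : F) ≠ 0) {i : Fin (s + 1)} {X C : TMat F m (s + 1)} (hX : IsRoot i X)
    (hC : Unip F M C) : ∃ k : F, X * C * X = k • X := by
  by_contra hcon
  push Not at hcon
  haveI : Finite (TMat F m (s + 1)) := inferInstance
  have hXu : Unip F M X := hL.ctx.unip hX
  have key : ¬ ∃ p : Polynomial F, InM M (1 + aeval (zEl X C) p * X) ∧ ∀ c : F, aeval (zEl X C) p * X ≠ c • X := by
    rintro ⟨p, hp, hn⟩
    obtain ⟨k, hk⟩ := hL.rad_scalar hX (aeval_comm (commute_left hXu.sq) p).symm hp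
    exact hn k hk
  by_cases h5 : 5 ≤ Nat.card F
  · exact key (pair_rad h2 h5 hXu hC hcon)
  have hk3 : Nat.card F = 3 := by
    obtain ⟨p, hp⟩ := CharP.exists F
    have : Fintype F := Fintype.ofFinite F
    have hodd : Odd (Fintype.card F) := Nat.odd_iff.2 (FiniteField.odd_card_of_char_ne_two fun e =>
      h2 (by rw [← Nat.cast_two, ← e]; exact ringChar.Nat.cast_ringChar))
    have := Fintype.one_lt_card (α := F)
    rw [Nat.card_eq_fintype_card] at h5 ⊢
    obtain ⟨k, hk⟩ := hodd
    omega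
  rcases pair_three hk3 (fun _ => True) hXu (fun _ _ => trivial) hC trivial hcon with h | ⟨b, hb, -, hlev⟩
  · exact key h
  obtain ⟨r, u, v, ⟨g, hg, hge⟩, -, -, hu⟩ := hlev
  set z := zEl X b with hz
  have cz : ∀ p : Polynomial F, Commute (aeval z p) X := fun p => (aeval_comm (commute_left hXu.sq) p).symm
  have hXX := hXu.sq
  have hgX : g.1 * X = X * (1 + aeval z u * (b * X)) := by
    rw [hge]
    simp only [add_mul, one_mul, mul_assoc, hXX, mul_zero, add_zero, mul_add, mul_one]
    rw [← mul_assoc X (aeval z u), ← (cz u).eq, mul_assoc]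
  obtain ⟨-, A₁, B, -, eg⟩ := hL.std_of_mul hX hg hgX
  obtain ⟨o, c, n, hoc, hno, hnc⟩ : ∃ o c n : Fin m, o ≠ c ∧ n ≠ o ∧ n ≠ c := by
    have := hL.hm
    exact ⟨⟨0, by omega⟩, ⟨1, by omega⟩, ⟨2, by omega⟩, by simp, by simp, by simp⟩
  obtain ⟨A, hA, eA⟩ := hX.move hL.hm hoc
  set h₀ := slotGL i A
  set e : TMat F m (s + 1) := slot i (Matrix.single o c 1) with he
  set A' := A * A₁ * A⁻¹ with hA'
  have hg' : (h₀ * g * h₀⁻¹).1 = slot i A'.1 * embM i B.1 := by
    have : h₀ * g * h₀⁻¹ = slotGL i A' * emb i B := by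
      rw [eg, hA', map_mul, map_mul, map_inv]
      simp only [h₀, mul_assoc]
      rw [← map_inv (slotGL i) A, slotGL_emb_comm i A⁻¹ B]
    rw [this]; rfl
  have hform : (h₀ * g * h₀⁻¹).1 = 1 + cj h₀ (aeval z r) * e + cj h₀ (aeval z u) * (e * cj h₀ b) +
      cj h₀ (aeval z v) * (cj h₀ b * e) := by
    rw [← cj_val, hge]
    simp only [map_add, map_one, map_mul, eA, ← he]
  have hcu : ∀ p : Polynomial F, cj h₀ (aeval z p) * e = e * cj h₀ (aeval z p) := fun p => by
    rw [← eA, ← map_mul, ← map_mul, (cz p).eq]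
  have hrow : rowM i (Pi.single n (1 : F)) * e = 0 := by
    ext u x
    simp only [Matrix.mul_apply, rowM, Matrix.of_apply, Matrix.zero_apply, he, slot]
    refine Finset.sum_eq_zero fun y _ => ?_
    by_cases hy : y i = n
    · simp [hy, Matrix.single_apply, hno.symm]
    · simp [Pi.single_apply, hy]
  have hcol : e * colM i (Pi.single n (1 : F)) = 0 := by
    ext x u
    simp only [Matrix.mul_apply, colM, Matrix.of_apply, Matrix.zero_apply, he, slot]
    refine Finset.sum_eq_zero fun y _ => ?_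
    by_cases hy : y i = n
    · simp [hy, Matrix.single_apply, hnc.symm]
    · simp [Pi.single_apply, hy]
  have hmid := congrArg (fun Y => rowM i (Pi.single n (1 : F)) * Y * colM i (Pi.single n (1 : F))) (hg'.symm.trans hform)
  simp only [rowM_slot_emb_colM, Matrix.mul_add, Matrix.add_mul] at hmid
  have e1 := rowM_slot_emb_colM i (Pi.single n (1 : F)) (Pi.single n 1) (1 : Matrix (Fin m) (Fin m) F) (1 : TMat F m s)
  rw [slot_one, map_one, one_mul, Matrix.one_mulVec] at e1
  rw [e1, show rowM i (Pi.single n (1 : F)) * (cj h₀ (aeval z r) * e) * colM i (Pi.single n (1 : F)) = 0 by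
      rw [hcu, ← Matrix.mul_assoc, hrow, Matrix.zero_mul, Matrix.zero_mul],
    show rowM i (Pi.single n (1 : F)) * (cj h₀ (aeval z u) * (e * cj h₀ b)) * colM i (Pi.single n (1 : F)) = 0 by
      rw [← mul_assoc (cj h₀ (aeval z u)), hcu, mul_assoc e, ← Matrix.mul_assoc, hrow, Matrix.zero_mul, Matrix.zero_mul],
    show rowM i (Pi.single n (1 : F)) * (cj h₀ (aeval z v) * (cj h₀ b * e)) * colM i (Pi.single n (1 : F)) = 0 by
      rw [← mul_assoc (cj h₀ (aeval z v)), Matrix.mul_assoc, Matrix.mul_assoc, hcol, Matrix.mul_zero, Matrix.mul_zero]]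
    at hmid
  simp only [single_dotProduct, one_mul, Pi.single_eq_same, one_smul, add_zero] at hmid
  set kk : F := (A'.1 *ᵥ Pi.single n 1) n
  have hkk : kk ≠ 0 := fun e0 => by rw [e0, zero_smul] at hmid; exact zero_ne_one hmid
  have hB : (B : TMat F m s) = kk⁻¹ • 1 := by rw [← hmid, inv_smul_smul₀ hkk]
  -- the coefficient is then scalar
  have hge2 : slot i (kk⁻¹ • A'.1) * e = e + cj h₀ (aeval z u) * (e * cj h₀ b) * e := by
    have : slot i (kk⁻¹ • A'.1) = slot i A'.1 * embM i B.1 := by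
      rw [hB, map_smul, map_one, Matrix.mul_smul, mul_one, slot_smul]
    rw [this, ← hg', hform]
    simp only [add_mul, one_mul, mul_assoc]
    rw [show e * e = 0 from (isRoot_single i hoc).sq]
    simp only [mul_zero, add_zero]
  have hzu : cj h₀ (aeval z (Polynomial.X * u) * X) = cj h₀ (aeval z u) * (e * cj h₀ b) * e := by
    rw [mul_comm Polynomial.X u, map_mul (aeval z), Polynomial.aeval_X, mul_assoc (aeval z u), hz,
      zEl_mul_left hXX, map_mul, map_mul, map_mul, eA]
    simp only [mul_assoc, ← he]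
  obtain ⟨Q, hQ⟩ : ∃ Q, cj h₀ (aeval z (Polynomial.X * u) * X) = e * embM i Q := by
    refine ⟨blk i (cj h₀ (aeval z u) * cj h₀ b) c o, ?_⟩
    rw [← sandwich_single, ← he, hzu]
    simp only [← mul_assoc, hcu u]
  have hslot : cj h₀ (aeval z (Polynomial.X * u) * X) =
      slot i ((kk⁻¹ • A'.1) * Matrix.single o c 1 - Matrix.single o c 1) := by
    rw [hzu, sub_eq_add_neg, slot_add, slot_neg, slot_mul, ← he, hge2, add_neg_cancel_comm]
  set w : F := ((kk⁻¹ • A'.1) * Matrix.single o c 1 - Matrix.single o c 1 : Matrix (Fin m) (Fin m) F) o c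
  have hQs : Q = w • 1 := by
    have := congrFun (congrFun (congrArg (blk i) (hQ.symm.trans hslot)) o) c
    rw [map_mul, blk_slot_self, blk_embM, up_dg_apply, Matrix.single_apply_same, one_smul, blk_slot_self,
      up_apply] at this
    exact this
  refine hu w ((cj h₀).injective ?_)
  rw [hQ, hQs, map_smul, map_one, Matrix.mul_smul, mul_one, map_smul, eA]

/-- The group elements of the algebra of two elements with vanishing sandwiches. -/
def nilGroup (M : Subgroup (GL (Fin (s + 1) → Fin m) F)) (X C : TMat F m (s + 1)) (hX : X * X = 0) (hC : C * C = 0)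
    (hXC : X * C * X = 0) : Subgroup (GL (Fin (s + 1) → Fin m) F) :=
  let S : Submonoid (GL (Fin (s + 1) → Fin m) F) :=
    { carrier := {g | g ∈ M ∧ ∃ a b c d e : F, g.1 = 1 + (a • X + b • C + c • (X * C) + d • (C * X) + e • (C * X * C))}
      one_mem' := ⟨one_mem _, 0, 0, 0, 0, 0, by simp⟩
      mul_mem' := by
        rintro g g' ⟨hg, a, b, c, d, e, he⟩ ⟨hg', a', b', c', d', e', he'⟩
        refine ⟨mul_mem hg hg', a + a', b + b', c + c' + a * b', d + d' + b * a', e + e' + (b * c' + d * b'), ?_⟩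
        have x1 : X * (C * X) = 0 := by rw [← mul_assoc, hXC]
        have x2 : ∀ T, X * (C * (X * T)) = 0 := fun T => by rw [← mul_assoc C, ← mul_assoc X, x1, zero_mul]
        have x3 : ∀ T : TMat F m (s + 1), X * (X * T) = 0 := fun T => by rw [← mul_assoc, hX, zero_mul]
        have x4 : ∀ T : TMat F m (s + 1), C * (C * T) = 0 := fun T => by rw [← mul_assoc, hC, zero_mul]
        rw [Units.val_mul, he, he']
        simp only [mul_add, add_mul, one_mul, mul_one, Matrix.smul_mul, Matrix.mul_smul, smul_smul, mul_assoc, hX, hC,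
          x1, x2, x3, x4, mul_zero, smul_zero, add_zero, zero_add, add_smul]
        module }
  { S with
    inv_mem' := fun {g} hg => by
      classical
      obtain ⟨k, -, hk⟩ := (mem_zpowers_iff_mem_range_orderOf.1 (inv_mem (Subgroup.mem_zpowers g)) |> fun h =>
        (Finset.mem_image.1 h))
      show g⁻¹ ∈ S
      rw [← hk]
      exact pow_mem hg k }

/-- A conjugate of a root is moved to each root by an element fixing what both kill. -/
theorem Lev.conj_root (hL : Lev M) {i ia : Fin (s + 1)} {X a : TMat F m (s + 1)} (hX : IsRoot i X)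
    (ha : IsRoot ia a) {g : GL (Fin (s + 1) → Fin m) F} (hg : g ∈ M) (hgs : g ∉ Std F m (s + 1)) :
    ∃ v ∈ M, ∃ k : F, k ≠ 0 ∧ cj (v * g) a = k • X ∧
      ∀ T : (Fin (s + 1) → Fin m) → F, T ᵥ* X = 0 → T ᵥ* cj g a = 0 → T ᵥ* v.1 = T := by
  set C := cj g a with hCdef
  have hfix1 : ∀ (N : TMat F m (s + 1)) (h : N * N = 0) (T : (Fin (s + 1) → Fin m) → F), T ᵥ* N = 0 →
      T ᵥ* (oneAdd N h).1 = T := fun N h T hT => by
    show T ᵥ* (1 + N) = T
    rw [Matrix.vecMul_add, Matrix.vecMul_one, hT, add_zero]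
  have hfix2 : ∀ (T : (Fin (s + 1) → Fin m) → F) (v : GL (Fin (s + 1) → Fin m) F), T ᵥ* v.1 = T →
      T ᵥ* v⁻¹.1 = T := fun T v h => by
    conv_lhs => rw [← h, Matrix.vecMul_vecMul, Units.mul_inv, Matrix.vecMul_one]
  by_cases h2 : (2 : F) = 0
  · have hfixcl : ∀ y ∈ Subgroup.closure ({oneAdd X hX.sq, oneAdd (cj g a) (cj_sq g ha.sq)} :
        Set (GL (Fin (s + 1) → Fin m) F)), ∀ T : (Fin (s + 1) → Fin m) → F, T ᵥ* X = 0 → T ᵥ* cj g a = 0 →
          T ᵥ* y.1 = T := by
      intro y hy T hTX hTC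
      induction hy using Subgroup.closure_induction with
      | mem y hy =>
        rcases hy with rfl | rfl
        · exact hfix1 _ _ T hTX
        · exact hfix1 _ _ T hTC
      | one => rw [Units.val_one, Matrix.vecMul_one]
      | mul y y' _ _ hy hy' => rw [Units.val_mul, ← Matrix.vecMul_vecMul, hy, hy']
      | inv y _ hy => exact hfix2 T y hy
    obtain ⟨v, hv, e⟩ := hL.conj_two h2 hX ha hg hgs
    exact ⟨v, (Subgroup.closure_le _).2 (Set.pair_subset_iff.2
      ⟨hL.ctx.root_mem hX, oneAdd_mem_of_root hL ha hg⟩) hv, 1, one_ne_zero, by rw [e, one_smul], hfixcl v hv⟩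
  have hCu : Unip F M C := ⟨cj_sq g ha.sq, fun k => by
    rcases eq_or_ne k 0 with rfl | hk
    · exact ⟨1, one_mem _, by simp⟩
    · exact ⟨_, oneAdd_mem_of_root hL (ha.smul hk) hg, by show 1 + cj g (k • a) = 1 + k • C; rw [map_smul]⟩⟩
  obtain ⟨c, hc⟩ := hL.scal h2 hX hCu
  have hXXs := hX.sq
  have hC'u : Unip F M (cj g⁻¹ X) := ⟨cj_sq _ hX.sq, fun k => by
    rcases eq_or_ne k 0 with rfl | hk
    · exact ⟨1, one_mem _, by simp⟩
    · exact ⟨_, oneAdd_mem_of_root hL (hX.smul hk) (inv_mem hg), by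
        show 1 + cj g⁻¹ (k • X) = 1 + k • _; rw [map_smul]⟩⟩
  obtain ⟨c', hc'⟩ := hL.scal h2 ha hC'u
  have hc'2 : C * X * C = c' • C := by
    have := congrArg (cj g) hc'
    rwa [map_mul, map_mul, map_smul, cj_cj, mul_inv_cancel, cj_one] at this
  obtain ⟨p, hp⟩ := CharP.exists F
  have : Fact p.Prime := ⟨CharP.char_is_prime F p⟩
  rcases eq_or_ne c 0 with rfl | hc0
  · exfalso
    rw [zero_smul] at hc
    set P := nilGroup M X C hX.sq hCu.sq hc
    have hPM : P ≤ M := fun x hx => hx.1
    have hP : IsPGroup p P := fun x => ⟨2, Subtype.ext (Units.ext (by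
      obtain ⟨-, q1, q2, q3, q4, q5, e⟩ := x.2
      rw [SubgroupClass.coe_pow, OneMemClass.coe_one, Units.val_pow_eq_pow_val, Units.val_one, e,
        add_pow_char_pow_of_commute p 2 (Commute.one_left _), one_pow]
      set J := q1 • X + q2 • C + q3 • (X * C) + q4 • (C * X) + q5 • (C * X * C)
      have x1 : X * (C * X) = 0 := by rw [← mul_assoc, hc]
      have x2 : ∀ T, X * (C * (X * T)) = 0 := fun T => by rw [← mul_assoc C, ← mul_assoc X, x1, zero_mul]
      have x3 : ∀ T : TMat F m (s + 1), X * (X * T) = 0 := fun T => by rw [← mul_assoc, hX.sq, zero_mul]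
      have x4 : ∀ T : TMat F m (s + 1), C * (C * T) = 0 := fun T => by rw [← mul_assoc, hCu.sq, zero_mul]
      have hJ : J ^ 4 = 0 := by
        rw [show (4 : ℕ) = 2 + 2 from rfl, pow_add, sq]
        simp only [J, mul_add, add_mul, Matrix.smul_mul, Matrix.mul_smul, smul_smul, mul_assoc, hX.sq, hCu.sq, x1, x2,
          x3, x4, mul_zero, smul_zero, add_zero, zero_add]
      rw [show p ^ 2 = 4 + (p ^ 2 - 4) by
        have := Nat.pow_le_pow_left (Fact.out : p.Prime).two_le 2; omega, pow_add, hJ, zero_mul, add_zero]))⟩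
    have h1 : oneAdd X hX.sq ∈ P := ⟨hL.ctx.root_mem hX, 1, 0, 0, 0, 0, by show 1 + X = _; simp⟩
    have h2' : oneAdd C (cj_sq g ha.sq) ∈ P := ⟨oneAdd_mem_of_root hL ha hg, 0, 1, 0, 0, 0, by
      show 1 + C = _; simp⟩
    exact hgs (hL.std_of_conj ha hg ((hL.local_le hP hPM hX h1).1 h2'))
  have hcc : c' = c := by
    have h3 : (c * c) • X = (c * c') • X := by
      calc (c * c) • X = X * C * X * C * X := by
            rw [hc, Matrix.smul_mul, Matrix.smul_mul, hc, smul_smul]
        _ = X * (C * X * C) * X := by simp only [mul_assoc]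
        _ = _ := by rw [hc'2, Matrix.mul_smul, Matrix.smul_mul, hc, smul_smul, mul_comm]
    have h4 : (c * c - c * c') • X = 0 := by rw [sub_smul, h3, sub_self]
    have h5 := (smul_eq_zero.1 h4).resolve_right hX.ne_zero
    exact (mul_left_cancel₀ hc0 (sub_eq_zero.1 h5)).symm
  subst hcc
  set t := -c'⁻¹ with ht
  have htc : t * c' = -1 := by rw [ht, neg_mul, inv_mul_cancel₀ hc0]
  have hX1 : oneAdd X hX.sq ∈ M := hL.ctx.root_mem hX
  have hCsq : (t • C) * (t • C) = 0 := by
    rw [Matrix.smul_mul, Matrix.mul_smul, hCu.sq, smul_zero, smul_zero]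
  have hC1 : oneAdd (t • C) hCsq ∈ M := by
    obtain ⟨y, hy, e⟩ := hCu.mem t
    rwa [show oneAdd (t • C) hCsq = y from Units.ext e.symm]
  set w := oneAdd X hX.sq * oneAdd (t • C) hCsq * oneAdd X hX.sq with hw
  have hwX : cj w X = t • C := by
    have e1 : ∀ (N : TMat F m (s + 1)) (h : N * N = 0) Y,
        cj (oneAdd N h) Y = Y + N * Y - Y * N - N * Y * N := fun N h Y => by
      show (1 + N) * Y * (1 - N) = _
      rw [add_mul, one_mul, mul_sub, mul_one, add_mul]; abel
    have a1 : ∀ T : TMat F m (s + 1), X * (X * T) = 0 := fun T => by rw [← mul_assoc, hX.sq, zero_mul]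
    have b1 : X * (C * X) = c' • X := by rw [← mul_assoc, hc]
    have b2 : C * (X * C) = c' • C := by rw [← mul_assoc, hc'2]
    rw [hw, ← cj_cj, ← cj_cj, show cj (oneAdd X hX.sq) X = X from cj_oneAdd_self hX.sq rfl, e1 (t • C), e1 X]
    simp only [Matrix.smul_mul, Matrix.mul_smul, smul_smul, mul_assoc, mul_add, mul_sub, add_mul, sub_mul, hX.sq, a1,
      b1, b2, mul_zero, smul_zero, add_zero, sub_zero, zero_add, zero_mul, Matrix.mul_smul, Matrix.smul_mul, smul_add,
      smul_sub]
    have k1 : ∀ Y : TMat F m (s + 1), (t * c') • Y = -Y := fun Y => by rw [htc, neg_smul, one_smul]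
    have k2 : ∀ Y : TMat F m (s + 1), (t * t * c') • Y = -(t • Y) := fun Y => by
      rw [mul_assoc, htc, mul_neg_one, neg_smul]
    have k3 : ∀ Y : TMat F m (s + 1), (t * t * c' * c') • Y = Y := fun Y => by
      rw [show t * t * c' * c' = (t * c') * (t * c') by ring, htc, neg_one_mul, neg_neg, one_smul]
    simp only [k1, k2, k3, neg_add_rev, neg_neg, neg_sub, smul_neg, mul_neg, neg_mul]
    match_scalars <;> grind
  have hwmem : w ∈ M := mul_mem (mul_mem hX1 hC1) hX1
  have ht0 : t ≠ 0 := neg_ne_zero.2 (inv_ne_zero hc0)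
  refine ⟨w⁻¹, inv_mem hwmem, t⁻¹, inv_ne_zero ht0, ?_, fun T hTX hTC => hfix2 T w ?_⟩
  · rw [← cj_cj, show cj g a = t⁻¹ • cj w X by rw [hwX, inv_smul_smul₀ ht0], map_smul, cj_inv_cj]
  · rw [hw, Units.val_mul, Units.val_mul, ← Matrix.vecMul_vecMul, ← Matrix.vecMul_vecMul, hfix1 _ _ T hTX,
      hfix1 _ _ T (by rw [Matrix.vecMul_smul, hTC, smul_zero]), hfix1 _ _ T hTX]

end CfsgLib.TensorWreathSL
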