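import Cfsg.Agent.Lib.TensorWreathSL.Swap

/-!
A conjugate of a one-slot root inside the tensor wreath group is a one-slot root, and then the conjugating element
lies in the tensor wreath group. Consequently a `p`-subgroup containing a root, and its normaliser, lie there.
-/

set_option autoImplicit false
set_option linter.unusedSectionVars false

namespace CfsgLib.TensorWreathSL

open Cfsg Cfsg.Geo CfsgLib.Aschbacher CfsgLib.AschbacherForm CfsgLib.TensorWreath
open scoped Matrix MatrixGroups

variable {F : Type*} [Field F] [Finite F] {m s : ℕ} [NeZero m]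
variable {M : Subgroup (GL (Fin (s + 1) → Fin m) F)}

theorem one_add_pow_char {n : ℕ} (p : ℕ) [Fact p.Prime] [CharP F p] {N : TMat F m n} (h : N * N = 0) :
    (1 + N) ^ p = 1 := by
  rw [add_pow_char_of_commute p (Commute.one_left N), one_pow,
    show N ^ p = N ^ 2 * N ^ (p - 2) by rw [← pow_add, Nat.add_sub_cancel' (Fact.out : p.Prime).two_le],
    sq, h, zero_mul, add_zero]

theorem Rep.pow {n : ℕ} {g : GL (Fin n → Fin m) F} {π : Equiv.Perm (Fin n)} (h : Rep g π) :
    ∀ k : ℕ, Rep (g ^ k) (π ^ k)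
  | 0 => fun i a => ⟨a, by rw [pow_zero, pow_zero, cj_one, Equiv.Perm.one_apply]⟩
  | k + 1 => by rw [pow_succ, pow_succ]; exact (Rep.pow h k).mul h

theorem rep_one {n : ℕ} : Rep (1 : GL (Fin n → Fin m) F) 1 := fun _ a => ⟨a, by rw [cj_one, Equiv.Perm.one_apply]⟩

theorem cj_scalar (A : GL (Fin m) F) {c : F} (h : (A : Matrix (Fin m) (Fin m) F) = c • 1)
    (a : Matrix (Fin m) (Fin m) F) : cj A a = a :=
  (cj_eq_self_iff _ _).2 (by rw [h, Matrix.smul_mul, Matrix.mul_smul, one_mul, mul_one])

/-- A conjugate of a root inside the tensor wreath group is a root. -/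
theorem Lev.root_in_std (hL : Lev M) {i0 : Fin (s + 1)} {N : TMat F m (s + 1)} (hN : IsRoot i0 N)
    {g : GL (Fin (s + 1) → Fin m) F} (hg : g ∈ M) (h : oneAdd (cj g N) (cj_sq g hN.sq) ∈ Std F m (s + 1)) :
    ∃ j, IsRoot j (cj g N) := by
  classical
  have := Fintype.ofFinite F
  obtain ⟨π, A, he, hπ⟩ := exists_rep_of_std h
  set u := oneAdd (cj g N) (cj_sq g hN.sq) with hu
  have hu1 : u.1 - 1 = cj g N := by show 1 + cj g N - 1 = _; rw [add_sub_cancel_left]
  have hsq : (u.1 - 1) * (u.1 - 1) = 0 := by rw [hu1]; exact cj_sq g hN.sq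
  have hrk : (u.1 - 1).rank ≤ m ^ s := by rw [hu1]; exact (rank_cj_le g N).trans hN.rank_le
  have hm2 : 2 ≤ m := le_trans (by omega) hL.hm
  by_cases hfix : ∃ l, π l = l ∧ ∃ a, cj u (slot l a) ≠ slot l a
  · obtain ⟨l, hl, a, ha⟩ := hfix
    obtain ⟨A', B, -, e⟩ := std_split hm2 hL.hs h hπ hl
    refine ⟨l, hu1 ▸ pure_root hL.hm e hsq hrk fun c hc => ha ?_⟩
    rw [e, slot_emb_conj, cj_scalar A' hc]
  push Not at hfix
  exfalso
  by_cases hall : ∀ l, π l = l
  · obtain ⟨c, hc⟩ := scalar_of_commutes_slots (u : TMat F m (s + 1)) fun l a =>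
      ((cj_eq_self_iff u _).1 (hfix l (hall l) a)).symm
    have h1 : (u.1 - 1) = (c - 1) • (1 : TMat F m (s + 1)) := by rw [hc, sub_smul, one_smul]
    rw [h1, Matrix.smul_mul, one_mul, smul_smul] at hsq
    have h0 : c - 1 = 0 := by
      rcases smul_eq_zero.1 hsq with e | e
      · exact mul_self_eq_zero.1 e
      · exact absurd e one_ne_zero
    rw [h0, zero_smul, hu1] at h1
    exact hN.ne_zero ((cj g).injective (by rw [h1, map_zero]))
  push Not at hall
  obtain ⟨j, hj⟩ := hall
  obtain ⟨p, hp⟩ := CharP.exists F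
  have : Fact p.Prime := ⟨CharP.char_is_prime F p⟩
  have hup : u ^ p = 1 := Units.ext (by
    rw [Units.val_pow_eq_pow_val, Units.val_one]; exact one_add_pow_char p (cj_sq g hN.sq))
  have hπp : π ^ p = 1 := (hπ.pow p).unique hm2 (hup ▸ rep_one)
  by_cases h2 : (2 : F) = 0
  · obtain rfl : p = 2 := by
      have hdvd : p ∣ 2 := (CharP.cast_eq_zero_iff F p 2).1 (by exact_mod_cast h2)
      exact (Nat.prime_dvd_prime_iff_eq Fact.out Nat.prime_two).1 hdvd
    set i := π j
    have hi : π i = j := by
      have := congrArg (fun σ : Equiv.Perm (Fin (s + 1)) => σ j) hπp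
      simpa [sq] using this
    set T : Fin (s + 1) → GL (Fin m) F := Function.update (fun _ => 1) j (A j) with hT
    set D : GL (Fin (s + 1) → Fin m) F := pureGL T
    set A' : Fin (s + 1) → GL (Fin m) F := fun l => T (π l) * A l * (T l)⁻¹ with hA'
    have he' : D * u * D⁻¹ = permGL π * pureGL A' := by
      rw [he, ← mul_assoc, AschbacherOrth.pureGL_permGL, pureGL_inv, mul_assoc, mul_assoc, ← AschbacherForm.pureGL_mul,
        ← AschbacherForm.pureGL_mul]
      simp only [hA', mul_assoc]
    have hsq' : (D * u * D⁻¹) * (D * u * D⁻¹) = 1 := by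
      rw [show (D * u * D⁻¹) * (D * u * D⁻¹) = D * u ^ 2 * D⁻¹ by rw [sq]; group, hup, mul_one, mul_inv_cancel]
    have hA'j : A' j = 1 := by simp [hA', hT, show π j ≠ j from hj]
    obtain ⟨c, -, hc⟩ : ∃ c : F, c ≠ 0 ∧ (A' i : Matrix (Fin m) (Fin m) F) = c • 1 := by
      have h3 : (pureGL fun l => A' (π l) * A' l : GL (Fin (s + 1) → Fin m) F) = 1 := by
        rw [← hsq', he', AschbacherForm.pureGL_mul, mul_assoc (permGL π), ← mul_assoc (pureGL A'),
          AschbacherOrth.pureGL_permGL, mul_assoc (permGL π) (pureGL fun l => A' (π l)), ← mul_assoc (permGL π)]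
        have : (permGL π : GL (Fin (s + 1) → Fin m) F) * permGL π = 1 := by
          rw [AschbacherOrth.permGL_mul, ← sq, hπp, permGL_one]
        rw [this, one_mul]
      have := pure_proportional (A := fun l => A' (π l) * A' l) (B := fun _ => (1 : GL (Fin m) F)) (c := 1) (by
        rw [one_smul]
        simpa [pureGL, pure'_one] using congrArg Units.val h3) j
      simpa [hA'j] using this
    have hrk' : ((D * u * D⁻¹).1 - 1).rank ≤ m ^ s := by
      rw [← cj_val, ← map_one (cj D), ← map_sub]
      exact (rank_cj_le D _).trans hrk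
    obtain ⟨hm3, hsw⟩ := swap_shape hL.hm (fun e : j = i => hj e.symm) rfl hi hA'j he' hsq' hc hrk'
    subst hm3
    refine hL.no_swap h2 hN hg (T := T) (fun e : j = i => hj e.symm) ?_
    rw [cj_oneAdd, ← hsw, ← cj_val]
    rfl
  · refine no_move_odd hL.hm h2 he hsq hrk hj fun h3 => hj ?_
    obtain ⟨k, hk⟩ : Odd p := (Fact.out : p.Prime).odd_of_ne_two fun e => h2 (by
      subst e; exact_mod_cast CharP.cast_eq_zero F 2)
    have h4 : ∀ k : ℕ, (π ^ (2 * k)) j = j := fun k => by
      induction k with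
      | zero => simp
      | succ k ih =>
        rw [Nat.mul_succ, pow_add, Equiv.Perm.mul_apply, sq, Equiv.Perm.mul_apply, h3, ih]
    have := congrArg (fun σ : Equiv.Perm (Fin (s + 1)) => σ j) hπp
    rw [hk, pow_succ'] at this
    simpa [h4] using this

theorem oneAdd_mem_of_root (hL : Lev M) {i : Fin (s + 1)} {N : TMat F m (s + 1)} (hN : IsRoot i N)
    {g : GL (Fin (s + 1) → Fin m) F} (hg : g ∈ M) : oneAdd (cj g N) (cj_sq g hN.sq) ∈ M := by
  rw [← oneAdd_conj g hN.sq]
  exact mul_mem (mul_mem hg (hL.ctx.root_mem hN)) (inv_mem hg)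

theorem IsRoot.commute_ne {i k : Fin (s + 1)} (h : i ≠ k) {N R : TMat F m (s + 1)} (hN : IsRoot i N)
    (hR : IsRoot k R) : N * R = R * N := by
  obtain ⟨v, φ, -, -, -, rfl⟩ := hN
  obtain ⟨v', φ', -, -, -, rfl⟩ := hR
  exact slot_commute h _ _

/-- The element commutes with a root exactly when it fixes its nilpotent part. -/
theorem cj_oneAdd_self {n : ℕ} {N R : TMat F m n} (hN : N * N = 0) (h : R * N = N * R) :
    cj (oneAdd N hN) R = R :=
  (cj_eq_self_iff _ _).2 (by
    show (1 + N) * R = R * (1 + N)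
    rw [add_mul, mul_add, one_mul, mul_one, h])

/-- An element conjugating a root into the tensor wreath group lies in it. -/
theorem Lev.std_of_conj (hL : Lev M) {i : Fin (s + 1)} {N : TMat F m (s + 1)} (hN : IsRoot i N)
    {g : GL (Fin (s + 1) → Fin m) F} (hg : g ∈ M) (h : oneAdd (cj g N) (cj_sq g hN.sq) ∈ Std F m (s + 1)) :
    g ∈ Std F m (s + 1) := by
  classical
  have := Fintype.ofFinite F
  obtain ⟨j, hj⟩ := hL.root_in_std hN hg h
  have hm := hL.hm
  have transfer : ∀ {a b : Fin (s + 1)} {P R : TMat F m (s + 1)}, (∃ c, IsRoot c (cj g P)) → IsRoot a P → ∀ hR : IsRoot b R,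
      P * R = R * P → ∃ c, IsRoot c (cj g R) := by
    rintro a b P R ⟨c, hc⟩ hP hR hcomm
    refine hL.root_in_std hR hg (hL.cent_root hc (oneAdd_mem_of_root hL hR hg) ?_).1
    refine cj_oneAdd_self _ ?_
    rw [← map_mul, ← map_mul, hcomm]
  have hall : ∀ {b : Fin (s + 1)} {R : TMat F m (s + 1)}, IsRoot b R → ∃ c, IsRoot c (cj g R) := by
    intro b R hR
    obtain ⟨o, n, hon⟩ : ∃ o n : Fin m, o ≠ n := ⟨0, ⟨1, by omega⟩, fun e => by simp [Fin.ext_iff] at e⟩
    rcases eq_or_ne b i with rfl | hb
    · obtain ⟨k, hk⟩ : ∃ k, k ≠ b := by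
        haveI : Nontrivial (Fin (s + 1)) := Fin.nontrivial_iff_two_le.2 (by have := hL.hs; omega)
        exact exists_ne b
      have hr : IsRoot k (slot (F := F) k (Matrix.single o n (1 : F))) := isRoot_single k hon
      exact transfer (transfer ⟨j, hj⟩ hN hr (hN.commute_ne hk.symm hr)) hr hR (hr.commute_ne hk hR)
    · exact transfer ⟨j, hj⟩ hN hR (hN.commute_ne hb.symm hR)
  -- the slot of the image
  have himg : ∀ l a b, a ≠ b → ∃ c, IsRoot c (cj g (slot l (Matrix.single a b (1 : F)))) := fun l a b h =>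
    hall (isRoot_single l h)
  choose! J hJ using himg
  have hsame : ∀ l {a b a' b'}, a ≠ b → a' ≠ b' →
      Matrix.single a b (1 : F) * Matrix.single a' b' 1 ≠ Matrix.single a' b' 1 * Matrix.single a b 1 →
      J l a b = J l a' b' := by
    intro l a b a' b' h h' hne
    by_contra hJne
    refine hne (slot_injective l ((cj g).injective ?_))
    rw [slot_mul, slot_mul, map_mul, map_mul]
    exact (hJ l a b h).commute_ne hJne (hJ l a' b' h')
  have hswap : ∀ l a b, a ≠ b → J l a b = J l b a := fun l a b h => hsame l h h.symm (fun e => by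
    have := congrFun (congrFun e a) a
    simp [Matrix.mul_apply, Matrix.single_apply, h, h.symm] at this)
  have hchain : ∀ l a b c, a ≠ b → b ≠ c → a ≠ c → J l a b = J l b c := fun l a b c h h' h'' => hsame l h h' (fun e => by
    have := congrFun (congrFun e a) c
    simp [Matrix.mul_apply, Matrix.single_apply, h, h.symm, h', h'.symm, h'', h''.symm] at this)
  set o : Fin m := 0
  obtain ⟨o', ho'⟩ : ∃ o', o' ≠ o := ⟨⟨1, by omega⟩, fun e => by simp [o, Fin.ext_iff] at e⟩
  have hconst : ∀ l a b, a ≠ b → J l a b = J l o o' := by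
    intro l
    have h1 : ∀ b, b ≠ o → J l o b = J l o o' := fun b hb => by
      rcases eq_or_ne b o' with rfl | hb'
      · rfl
      · exact (hswap l o b hb.symm).trans ((hchain l b o o' hb ho'.symm hb').trans rfl)
    intro a b hab
    rcases eq_or_ne a o with rfl | ha
    · exact h1 b hab.symm
    rcases eq_or_ne b o with rfl | hb
    · exact (hswap l a o hab).trans (h1 a ha)
    · exact ((hchain l o a b ha.symm hab hb.symm).symm).trans (h1 a ha)
  have hrange : ∀ l (a : Matrix (Fin m) (Fin m) F), ∃ a', cj g (slot l a) = slot (J l o o') a' := by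
    intro l
    have hoff : ∀ a b, a ≠ b → ∃ a', cj g (slot l (Matrix.single a b (1 : F))) = slot (J l o o') a' := fun a b h => by
      have := hJ l a b h
      rw [hconst l a b h] at this
      obtain ⟨v, φ, -, -, -, e⟩ := this
      exact ⟨_, e⟩
    intro a
    induction a using Matrix.induction_on' with
    | h_zero => exact ⟨0, by rw [slot_zero, map_zero, slot_zero]⟩
    | h_add P Q hP hQ =>
      obtain ⟨P', e⟩ := hP; obtain ⟨Q', e'⟩ := hQ
      exact ⟨P' + Q', by rw [slot_add, map_add, e, e', slot_add]⟩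
    | h_std_basis a b x =>
      obtain ⟨a', e⟩ : ∃ a', cj g (slot l (Matrix.single a b (1 : F))) = slot (J l o o') a' := by
        rcases eq_or_ne a b with rfl | h
        · obtain ⟨n, hn⟩ : ∃ n, n ≠ a := by
            haveI : Nontrivial (Fin m) := Fin.nontrivial_iff_two_le.2 (by omega)
            exact exists_ne a
          obtain ⟨P, hP⟩ := hoff a n hn.symm
          obtain ⟨Q, hQ⟩ := hoff n a hn
          exact ⟨P * Q, by rw [slot_mul, ← hP, ← hQ, ← map_mul, ← slot_mul, Matrix.single_mul_single_same, mul_one]⟩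
        · exact hoff a b h
      exact ⟨x • a', by
        rw [show Matrix.single a b x = x • Matrix.single a b (1 : F) by simp [Matrix.smul_single], slot_smul, map_smul,
          e, slot_smul]⟩
  have hinj : Function.Injective fun l => J l o o' := by
    intro l l' hll
    by_contra hne
    choose θ hθ using hrange l
    have hθinj : Function.Injective θ := fun a a' e =>
      slot_injective l ((cj g).injective (by rw [hθ, hθ, e]))
    have hlin : ∀ a a', θ (a + a') = θ a + θ a' := fun a a' => slot_injective (J l o o') (by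
      rw [← hθ, slot_add, slot_add, map_add, hθ, hθ])
    have hsmul : ∀ (c : F) a, θ (c • a) = c • θ a := fun c a => slot_injective (J l o o') (by
      rw [← hθ, slot_smul, slot_smul, map_smul, hθ])
    obtain ⟨b', hb'⟩ := hrange l' (Matrix.single o o' 1)
    simp only at hll
    rw [← hll] at hb'
    obtain ⟨c, hc⟩ : b' ∈ Set.range (Matrix.scalar (Fin m) : F →+* _) := by
      refine Matrix.mem_range_scalar_of_commute_single fun x y _ => ?_
      obtain ⟨a, ha⟩ := (LinearMap.injective_iff_surjective (f := (⟨⟨θ, hlin⟩, hsmul⟩ : Matrix (Fin m) (Fin m) F →ₗ[F]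
        Matrix (Fin m) (Fin m) F))).1 hθinj (Matrix.single x y 1)
      refine slot_injective (J l o o') ?_
      rw [slot_mul, slot_mul, ← hb', ← show θ a = Matrix.single x y 1 from ha, ← hθ, ← map_mul, ← map_mul,
        slot_commute hne]
    have h0 : b' * b' = 0 := slot_injective (J l o o') (by
      rw [slot_mul, ← hb', ← map_mul, (isRoot_single l' ho'.symm).sq, map_zero, slot_zero])
    rw [← hc, ← map_mul, ← map_zero (Matrix.scalar (Fin m) : F →+* _)] at h0
    have hc0 : c = 0 := mul_self_eq_zero.1 (Matrix.scalar_inj.1 h0)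
    rw [← hc, hc0, map_zero, slot_zero] at hb'
    exact (isRoot_single l' ho'.symm).ne_zero ((cj g).injective (hb'.trans (map_zero _).symm))
  exact std_of_rep (π := Equiv.ofBijective _ (Finite.injective_iff_bijective.1 hinj)) s.succ_pos hrange

/-- A `p`-subgroup containing a root lies in the tensor wreath group, and so does its normaliser. -/
theorem Lev.local_le (hL : Lev M) {p : ℕ} [Fact p.Prime] {P : Subgroup (GL (Fin (s + 1) → Fin m) F)}
    (hP : IsPGroup p P) (hPM : P ≤ M) {i : Fin (s + 1)} {N : TMat F m (s + 1)} (hN : IsRoot i N)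
    (hmem : oneAdd N hN.sq ∈ P) :
    P ≤ Std F m (s + 1) ∧
      ∀ g ∈ M, (∀ x ∈ P, g * x * g⁻¹ ∈ P) → g ∈ Std F m (s + 1) := by
  set H := Std F m (s + 1)
  have step : ∀ g ∈ M, oneAdd (cj g N) (cj_sq g hN.sq) ∈ H → g ∈ H := fun g hg h => hL.std_of_conj hN hg h
  have h0 : oneAdd N hN.sq ∈ H := by
    obtain ⟨v, φ, -, -, h, e⟩ := id hN
    rw [show oneAdd N hN.sq = slotGL i (Maximal.tv v φ h) from Units.ext (by rw [root_unit, ← e]; rfl)]
    exact slotGL_mem _ _
  have hle : P ≤ H := by
    haveI : Finite P := inferInstance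
    haveI := hP.isNilpotent
    have hnc : NormalizerCondition P := Group.normalizerCondition_of_isNilpotent
    have htop : H.subgroupOf P = ⊤ := by
      by_contra hne
      obtain ⟨x, hxn, hx⟩ := SetLike.exists_of_lt (hnc _ (lt_top_iff_ne_top.2 hne))
      refine hx (Subgroup.mem_subgroupOf.2 (step x.1 (hPM x.2) ?_))
      have := (Subgroup.mem_normalizer_iff.1 hxn ⟨oneAdd N hN.sq, hmem⟩).1 (Subgroup.mem_subgroupOf.2 h0)
      rw [Subgroup.mem_subgroupOf] at this
      rw [← oneAdd_conj x.1 hN.sq]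
      exact this
    intro x hx
    exact Subgroup.mem_subgroupOf.1 (show (⟨x, hx⟩ : P) ∈ H.subgroupOf P by rw [htop]; trivial)
  refine ⟨hle, fun g hg hn => step g hg ?_⟩
  rw [← oneAdd_conj g hN.sq]
  exact hle (hn _ hmem)

end CfsgLib.TensorWreathSL
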