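import Cfsg.Agent.Lib.TensorWreathSL.RootPure

/-!
A conjugate of a one-slot root that lies in the tensor wreath group does not move slots.
-/

set_option autoImplicit false
set_option linter.unusedSectionVars false

namespace CfsgLib.TensorWreathSL

open Cfsg Cfsg.Geo CfsgLib.Aschbacher CfsgLib.AschbacherForm CfsgLib.TensorWreath
open scoped Matrix MatrixGroups

variable {F : Type*} [Field F] [Finite F] {m s : ℕ} [NeZero m]

theorem pure_conj {n : ℕ} (T : Fin n → GL (Fin m) F) (i : Fin n) (a : Matrix (Fin m) (Fin m) F) :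
    cj (pureGL T) (slot i a) = slot i (cj (T i) a) := by
  rw [cj_apply]; exact pure'_conj_slot T i a

theorem slot_diag {n : ℕ} (l : Fin n) :
    slot (F := F) l (Matrix.single (0 : Fin m) 0 (1 : F)) = Matrix.diagonal fun x => if x l = 0 then 1 else 0 := by
  ext x y
  simp only [slot, Matrix.of_apply, Matrix.diagonal_apply, Matrix.single_apply]
  by_cases hxy : x = y
  · subst hxy
    simp [eq_comm]
  · rw [if_neg hxy]
    by_cases h : ∀ j, j ≠ l → x j = y j
    · rw [if_pos h, if_neg]
      rintro ⟨e1, e2⟩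
      exact hxy (funext fun j => if hj : j = l then by rw [hj, ← e1, ← e2] else h j hj)
    · rw [if_neg h]

/-- Tuples with exactly one of three prescribed coordinates zero. -/
theorem three_count {n : ℕ} (hn : 2 ≤ n) {a b c : Fin (n + 1)} (hab : a ≠ b) (hac : a ≠ c) (hbc : b ≠ c) :
    (Finset.univ.filter fun x : Fin (n + 1) → Fin m => x a = 0 ∧ x b ≠ 0 ∧ x c ≠ 0).card =
      (m - 1) ^ 2 * m ^ (n - 2) := by
  classical
  set f : Fin (n + 1) → Finset (Fin m) := fun l =>
    if l = a then {0} else if l = b ∨ l = c then Finset.univ.erase 0 else Finset.univ with hf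
  have e : (Finset.univ.filter fun x : Fin (n + 1) → Fin m => x a = 0 ∧ x b ≠ 0 ∧ x c ≠ 0) = Fintype.piFinset f := by
    ext x
    simp only [Finset.mem_filter, Finset.mem_univ, true_and, Fintype.mem_piFinset, hf]
    constructor
    · rintro ⟨ha, hb, hc⟩ l
      split_ifs with h1 h2
      · subst h1; simpa using ha
      · rcases h2 with rfl | rfl <;> simpa
      · exact Finset.mem_univ _
    · intro h
      exact ⟨by simpa using h a, by simpa [hab.symm] using h b, by simpa [hac.symm] using h c⟩
  rw [e, Fintype.card_piFinset, ← Finset.mul_prod_erase _ _ (Finset.mem_univ a),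
    ← Finset.mul_prod_erase _ _ (Finset.mem_erase.2 ⟨hab.symm, Finset.mem_univ b⟩),
    ← Finset.mul_prod_erase _ _ (Finset.mem_erase.2 ⟨hbc.symm, Finset.mem_erase.2 ⟨hac.symm, Finset.mem_univ c⟩⟩),
    Finset.prod_congr rfl (g := fun _ => m), Finset.prod_const]
  · simp [hf, hab.symm, hac.symm, hbc.symm, Finset.card_erase_of_mem, sq, mul_assoc, show n - 1 - 1 = n - 2 by omega]
  · intro l hl
    simp only [Finset.mem_erase] at hl
    simp [hf, hl.1, hl.2.1, hl.2.2.1]

/-- In odd characteristic three slots are not moved. -/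
theorem no_move_odd (hm : 3 ≤ m) (h2 : (2 : F) ≠ 0) {u : GL (Fin (s + 1) → Fin m) F}
    {π : Equiv.Perm (Fin (s + 1))} {A : Fin (s + 1) → GL (Fin m) F} (he : u = permGL π * pureGL A)
    (hsq : (u.1 - 1) * (u.1 - 1) = 0) (hrk : (u.1 - 1).rank ≤ m ^ s) {j : Fin (s + 1)} (h1 : π j ≠ j)
    (h1' : π (π j) ≠ j) : False := by
  classical
  set N := u.1 - 1 with hN
  set e : Matrix (Fin m) (Fin m) F := Matrix.single 0 0 1 with hedef
  set X : TMat F m (s + 1) := slot j e with hX
  have hui : u⁻¹.1 = 1 - N := left_inv_eq_right_inv (Units.inv_mul u) (by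
    rw [show u.1 = 1 + N by rw [hN]; abel, add_mul, one_mul, mul_sub, mul_one, hsq, sub_zero, sub_add_cancel])
  have hu : u.1 = 1 + N := by rw [hN]; abel
  have hΔ : cj u (cj u X) - (2 : F) • cj u X + X = (-2 : F) • (N * X * N) := by
    have e1 : ∀ Y, cj u Y = Y + N * Y - Y * N - N * Y * N := fun Y => by
      rw [cj_apply, hu, hui, add_mul, one_mul, mul_sub, mul_one, add_mul]; abel
    have a1 : ∀ Z : TMat F m (s + 1), N * (N * Z) = 0 := fun Z => by rw [← mul_assoc, hsq, zero_mul]
    rw [e1 (cj u X), e1 X]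
    simp only [mul_add, mul_sub, add_mul, sub_mul, mul_assoc, hsq, a1, mul_zero, two_smul, neg_smul, two_mul]
    abel
  have hrN : (cj u (cj u X) - (2 : F) • cj u X + X).rank ≤ m ^ s := by
    rw [hΔ, show (-2 : F) • (N * X * N) = ((-2 : F) • (1 : TMat F m (s + 1))) * N * (X * N) by
      rw [Matrix.smul_mul, Matrix.smul_mul, one_mul, mul_assoc]]
    exact ((Matrix.rank_mul_le_left _ _).trans (Matrix.rank_mul_le_right _ _)).trans hrk
  -- straightening the three idempotents
  set T : Fin (s + 1) → GL (Fin m) F := fun l =>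
    if l = π j then (A j)⁻¹ else if l = π (π j) then (A (π j) * A j)⁻¹ else 1 with hT
  have h12 : π (π j) ≠ π j := fun h => h1 (π.injective h)
  have hstep : ∀ l a, cj u (slot l a) = slot (π l) (cj (A l) a) := fun l a => by
    rw [he, ← cj_cj, pure_conj, permGL_conj_slot]
  have c0 : cj (pureGL T) X = slot j e := by
    rw [hX, pure_conj, hT]
    simp only [if_neg h1.symm, if_neg h1'.symm, cj_one]
  have c1 : cj (pureGL T) (cj u X) = slot (π j) e := by
    rw [hX, hstep, pure_conj, hT]
    simp only [if_true, cj_inv_cj]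
  have c2 : cj (pureGL T) (cj u (cj u X)) = slot (π (π j)) e := by
    rw [hX, hstep, hstep, pure_conj, hT]
    simp only [if_neg h12, if_true, cj_cj, inv_mul_cancel, cj_one]
  have hD := (rank_cj_le (pureGL T) _).trans hrN
  rw [map_add, map_sub, map_smul, c0, c1, c2, hedef, slot_diag, slot_diag, slot_diag, ← Matrix.diagonal_smul,
    Matrix.diagonal_sub, Matrix.diagonal_add, Matrix.rank_diagonal] at hD
  simp only [Pi.smul_apply] at hD
  set i1 := π j
  set i2 := π (π j)
  -- counting
  have hs2 : 2 ≤ s := by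
    have := Finset.card_le_univ ({j, i1, i2} : Finset (Fin (s + 1)))
    rw [Finset.card_insert_of_notMem (by simp [h1.symm, h1'.symm]), Finset.card_pair h12.symm, Fintype.card_fin] at this
    omega
  set S : Fin (s + 1) → Fin (s + 1) → Fin (s + 1) → Finset (Fin (s + 1) → Fin m) := fun a b c =>
    Finset.univ.filter fun x => x a = 0 ∧ x b ≠ 0 ∧ x c ≠ 0 with hS
  have hsub : S j i1 i2 ∪ (S i1 j i2 ∪ S i2 j i1) ⊆ Finset.univ.filter fun x =>
      ((if x i2 = 0 then (1 : F) else 0) - (2 : F) • (if x i1 = 0 then (1 : F) else 0)) +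
        (if x j = 0 then 1 else 0) ≠ 0 := by
    intro x hx
    simp only [hS, Finset.mem_union, Finset.mem_filter, Finset.mem_univ, true_and] at hx ⊢
    rcases hx with ⟨a, b, c⟩ | ⟨a, b, c⟩ | ⟨a, b, c⟩ <;> simp [a, b, c, h2]
  have hd1 : Disjoint (S i1 j i2) (S i2 j i1) := Finset.disjoint_left.2 fun x hx hx' => by
    simp only [hS, Finset.mem_filter] at hx hx'; exact hx.2.2.2 hx'.2.1
  have hd2 : Disjoint (S j i1 i2) (S i1 j i2 ∪ S i2 j i1) := Finset.disjoint_left.2 fun x hx hx' => by
    simp only [hS, Finset.mem_union, Finset.mem_filter] at hx hx'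
    rcases hx' with h | h <;> exact h.2.2.1 hx.2.1
  have hle := Finset.card_le_card hsub
  rw [Finset.card_union_of_disjoint hd2, Finset.card_union_of_disjoint hd1, hS,
    three_count hs2 h1.symm h1'.symm h12.symm, three_count hs2 h1 h12.symm h1'.symm,
    three_count hs2 h1' h12 h1.symm, ← Fintype.card_subtype] at hle
  have hle' := hle.trans hD
  obtain ⟨r, rfl⟩ : ∃ r, s = r + 2 := ⟨s - 2, by omega⟩
  rw [Nat.add_sub_cancel, pow_add] at hle'
  have hpos : 0 < m ^ r := pow_pos (by omega) _
  have hk : 3 * (m - 1) ^ 2 ≤ m ^ 2 := Nat.le_of_mul_le_mul_right (by linarith) hpos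
  obtain ⟨k, rfl⟩ : ∃ k, m = k + 3 := ⟨m - 3, by omega⟩
  rw [show k + 3 - 1 = k + 2 by omega] at hk
  nlinarith

/-- The matrix coefficient of a permutation times a pure tensor. -/
theorem perm_pure_apply {n : ℕ} (π : Equiv.Perm (Fin n)) (A : Fin n → GL (Fin m) F) (x y : Fin n → Fin m) :
    (permGL π * pureGL A : GL (Fin n → Fin m) F).1 x y =
      ∏ l, (A l : Matrix (Fin m) (Fin m) F) (x (π l)) (y l) := by
  rw [Units.val_mul, Matrix.mul_apply, Finset.sum_eq_single (x ∘ π)]
  · simp [permGL, pureGL, pure']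
  · intro z _ hz; simp [permGL, hz]
  · simp

theorem comp_swap_swap {α β : Type*} [DecidableEq α] (x : α → β) (i j : α) : x ∘ Equiv.swap i j ∘ Equiv.swap i j = x :=
  funext fun l => by simp

/-- Half of the pairs of unequal coordinates. -/
theorem card_lt_pairs {n : ℕ} {i j : Fin (n + 1)} (hij : i ≠ j) :
    2 * Fintype.card {x : Fin (n + 1) → Fin m // x i < x j} + m ^ n = m ^ (n + 1) := by
  classical
  rw [Fintype.card_subtype]
  set L := Finset.univ.filter fun x : Fin (n + 1) → Fin m => x i < x j
  set G := Finset.univ.filter fun x : Fin (n + 1) → Fin m => x j < x i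
  set E := Finset.univ.filter fun x : Fin (n + 1) → Fin m => x i = x j
  have hG : G.card = L.card := Finset.card_bij (fun x _ => x ∘ Equiv.swap i j)
    (fun x hx => by simpa [L, G] using hx) (fun x _ y _ e => by
      simpa [Function.comp_assoc, comp_swap_swap] using congrArg (· ∘ Equiv.swap i j) e)
    fun y hy => ⟨y ∘ Equiv.swap i j, by simpa [L, G] using hy, by simp [Function.comp_assoc, comp_swap_swap]⟩
  have hE : E.card = m ^ n := by
    obtain ⟨i', hi'⟩ := Fin.exists_succAbove_eq hij
    rw [Finset.card_bij (t := (Finset.univ : Finset (Fin n → Fin m))) (fun x _ => j.removeNth x)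
      (fun _ _ => Finset.mem_univ _) (fun x hx y hy e => ?_)
      fun y _ => ⟨j.insertNth (y i') y, by simp [E, ← hi'], by simp⟩]
    · simp
    · simp only [E, Finset.mem_filter, Finset.mem_univ, true_and] at hx hy
      rw [← Fin.insertNth_self_removeNth j x, ← Fin.insertNth_self_removeNth j y, e, ← hx, ← hy, ← hi']
      exact congrArg (fun a => j.insertNth a (j.removeNth y)) (congrFun e i')
  have hu : (Finset.univ : Finset (Fin (n + 1) → Fin m)) = L ∪ (G ∪ E) := by
    ext x; simp only [Finset.mem_union, L, G, E, Finset.mem_filter, Finset.mem_univ, true_and, true_iff]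
    exact (lt_trichotomy (x i) (x j)).imp_right fun h => h.symm
  have hc := congrArg Finset.card hu
  rw [Finset.card_union_of_disjoint, Finset.card_union_of_disjoint, hG, hE, Finset.card_univ, Fintype.card_fun,
    Fintype.card_fin, Fintype.card_fin] at hc
  · omega
  · exact Finset.disjoint_left.2 fun x hx hx' => by
      simp only [G, E, Finset.mem_filter] at hx hx'; exact hx.2.ne hx'.2.symm
  · exact Finset.disjoint_left.2 fun x hx hx' => by
      simp only [L, G, E, Finset.mem_union, Finset.mem_filter] at hx hx'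
      rcases hx' with h | h
      · exact lt_asymm hx.2 h.2
      · exact hx.2.ne h.2

/-- A straightened involution exchanging two slots has dimension three and is the exchange. -/
theorem swap_shape (hm : 3 ≤ m) {π : Equiv.Perm (Fin (s + 1))} {i j : Fin (s + 1)} (hij : i ≠ j) (hi : π i = j)
    (hj : π j = i) {A : Fin (s + 1) → GL (Fin m) F} (hAi : A i = 1) {u : GL (Fin (s + 1) → Fin m) F}
    (he : u = permGL π * pureGL A) (hsq : u * u = 1) {c : F}
    (hAj : (A j : Matrix (Fin m) (Fin m) F) = c • 1) (hrk : (u.1 - 1).rank ≤ m ^ s) :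
    m = 3 ∧ u = permGL (Equiv.swap i j) := by
  classical
  have hent : ∀ x y, u.1 x y = (if x j = y i then 1 else 0) * ((if x i = y j then c else 0) *
      ∏ l ∈ (Finset.univ.erase i).erase j, (A l : Matrix (Fin m) (Fin m) F) (x (π l)) (y l)) := fun x y => by
    rw [he, perm_pure_apply, ← Finset.mul_prod_erase _ _ (Finset.mem_univ i),
      ← Finset.mul_prod_erase _ _ (Finset.mem_erase.2 ⟨hij.symm, Finset.mem_univ j⟩), hi, hj, hAi, hAj,
      Units.val_one, Matrix.one_apply, Matrix.smul_apply, Matrix.one_apply]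
    simp
  have hz : ∀ x y, ¬ (x j = y i ∧ x i = y j) → u.1 x y = 0 := fun x y h => by
    rw [hent]
    by_cases h1 : x j = y i
    · rw [if_neg fun h2 : x i = y j => h ⟨h1, h2⟩, zero_mul, mul_zero]
    · rw [if_neg h1, zero_mul]
  let κ := {x : Fin (s + 1) → Fin m // x i < x j}
  let r : κ → Fin (s + 1) → Fin m := Subtype.val
  let w : κ → Fin (s + 1) → Fin m := fun x => x.1 ∘ Equiv.swap i j
  have hwr : ∀ x y : κ, r x ≠ w y := fun x y e => by
    have h1 := congrFun e i; have h2 := congrFun e j
    simp only [r, w, Function.comp_apply, Equiv.swap_apply_left, Equiv.swap_apply_right] at h1 h2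
    exact lt_asymm x.2 (by rw [h1, h2]; exact y.2)
  have hinv : (u.1.submatrix r w) * (u.1.submatrix w r) = 1 := by
    ext x y
    have e : ((u * u : GL (Fin (s + 1) → Fin m) F) : TMat F m (s + 1)) (r x) (r y) =
        (1 : Matrix κ κ F) x y := by
      rw [hsq, Units.val_one, Matrix.one_apply, Matrix.one_apply]
      exact if_congr Subtype.val_injective.eq_iff rfl rfl
    rw [← e, Units.val_mul, Matrix.mul_apply, Matrix.mul_apply]
    simp only [Matrix.submatrix_apply]
    refine Finset.sum_bij_ne_zero (fun z _ _ => w z) (fun _ _ _ => Finset.mem_univ _)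
      (fun a _ _ b _ _ e => Subtype.ext (by simpa [w, Function.comp_assoc, comp_swap_swap] using congrArg (· ∘ Equiv.swap i j) e))
      (fun b _ hb => ?_) fun _ _ _ => rfl
    have hp : (r x) j = b i ∧ (r x) i = b j := by
      by_contra h; exact hb (by rw [hz _ _ h, zero_mul])
    have hlt : b j < b i := by rw [← hp.1, ← hp.2]; exact x.2
    have hk : (b ∘ Equiv.swap i j) i < (b ∘ Equiv.swap i j) j := by simpa using hlt
    have hw : w ⟨b ∘ Equiv.swap i j, hk⟩ = b := by simp [w, Function.comp_assoc, comp_swap_swap]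
    exact ⟨⟨_, hk⟩, Finset.mem_univ _, by rw [hw]; exact hb, hw⟩
  have hU : IsUnit (u.1.submatrix r w) := IsUnit.of_mul_eq_one _ hinv
  have hsub : ∀ {κ' : Type} (_ : Fintype κ') (a b : κ' → Fin (s + 1) → Fin m), (∀ p q, a p ≠ b q) →
      ((u.1 - 1).submatrix a b) = u.1.submatrix a b := fun _ a b h => by
    ext p q; simp [Matrix.one_apply, h p q]
  have h1 : Fintype.card κ ≤ m ^ s := by
    refine le_trans ?_ hrk
    rw [← Matrix.rank_of_isUnit _ hU, ← hsub inferInstance r w hwr]
    exact Matrix.rank_submatrix_le _ _ _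
  have hcount := card_lt_pairs (m := m) hij
  have hm3 : m = 3 := by
    have hpos : 0 < m ^ s := pow_pos (by omega) _
    rw [pow_succ] at hcount
    by_contra hne
    have : m ^ s * 4 ≤ m ^ s * m := Nat.mul_le_mul_left _ (by omega)
    show False
    change 2 * Fintype.card κ + m ^ s = m ^ s * m at hcount
    omega
  have hcard : Fintype.card κ = m ^ s := by
    have : m ^ (s + 1) = 3 * m ^ s := by rw [pow_succ, hm3]; ring
    change 2 * Fintype.card κ + m ^ s = m ^ (s + 1) at hcount
    omega
  have hdiag : ∀ x y, x i = x j → y i = y j → u.1 x y = if x = y then 1 else 0 := by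
    intro x y hx hy
    by_contra hne
    let r' : κ ⊕ Unit → Fin (s + 1) → Fin m := Sum.elim r fun _ => x
    let w' : κ ⊕ Unit → Fin (s + 1) → Fin m := Sum.elim w fun _ => y
    have e : (u.1 - 1).submatrix r' w' = Matrix.fromBlocks (u.1.submatrix r w) 0 0 (Matrix.of fun (_ _ : Unit) => (u.1 - 1) x y) := by
      ext (p | p) (q | q)
      · simp [r', w', Matrix.one_apply, hwr p q]
      · have h0 : ¬ (r p j = y i ∧ r p i = y j) := fun h => p.2.ne (h.2.trans (hy.symm.trans h.1.symm))
        have h0' : r p ≠ y := fun e' => p.2.ne (show r p i = r p j by rw [e', hy])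
        simp [r', w', Matrix.one_apply, hz _ _ h0, h0']
      · have h0 : ¬ (x j = w q i ∧ x i = w q j) := fun h => q.2.ne (by
          have e1 := h.1; have e2 := h.2
          simp [w] at e1 e2
          rw [← e1, ← e2, hx])
        have h0' : x ≠ w q := fun e' => q.2.ne (by
          have e1 := congrFun e' i; have e2 := congrFun e' j
          simp [w] at e1 e2
          rw [← e1, ← e2, hx])
        simp [r', w', Matrix.one_apply, hz _ _ h0, h0']
      · simp [r', w']
    have hbig : Fintype.card (κ ⊕ Unit) ≤ (u.1 - 1).rank := by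
      rw [← Matrix.rank_of_isUnit ((u.1 - 1).submatrix r' w') (by
        rw [e, Matrix.isUnit_fromBlocks_zero₁₂]
        refine ⟨hU, (Matrix.isUnit_iff_isUnit_det _).2 ?_⟩
        rw [Matrix.det_unique, isUnit_iff_ne_zero]
        simpa [Matrix.one_apply, sub_eq_zero] using hne)]
      exact Matrix.rank_submatrix_le _ _ _
    rw [Fintype.card_sum, Fintype.card_unit, hcard] at hbig
    omega
  refine ⟨hm3, Units.ext (Matrix.ext fun x y => ?_)⟩
  show u.1 x y = if y = x ∘ Equiv.swap i j then 1 else 0
  by_cases hp : x j = y i ∧ x i = y j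
  · set x' := Function.update (Function.update x i 0) j 0 with hx'
    set y' := Function.update (Function.update y i 0) j 0 with hy'
    have e1 : x' i = x' j := by simp [hx', hij]
    have e2 : y' i = y' j := by simp [hy', hij]
    have hrest : ∀ l ∈ (Finset.univ.erase i).erase j, x' (π l) = x (π l) ∧ y' l = y l := fun l hl => by
      simp only [Finset.mem_erase] at hl
      have hl1 : π l ≠ i := fun e => hl.1 (π.injective (e.trans hj.symm))
      have hl2 : π l ≠ j := fun e => hl.2.1 (π.injective (e.trans hi.symm))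
      simp [hx', hy', hl1, hl2, hl.1, hl.2.1]
    have e3 : u.1 x y = u.1 x' y' := by
      rw [hent, hent, if_pos hp.1, if_pos hp.2, if_pos (e1.symm.trans (by simp [hx', hy', hij])),
        if_pos (by simp [hx', hy', hij]),
        Finset.prod_congr rfl (fun l hl => show (A l : Matrix (Fin m) (Fin m) F) (x (π l)) (y l) = (A l : Matrix (Fin m) (Fin m) F) (x' (π l)) (y' l) by
          rw [(hrest l hl).1, (hrest l hl).2])]
    rw [e3, hdiag _ _ e1 e2]
    refine if_congr ?_ rfl rfl
    constructor
    · intro h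
      funext l
      rcases eq_or_ne l i with rfl | h1
      · simpa using hp.1.symm
      rcases eq_or_ne l j with rfl | h2
      · simpa using hp.2.symm
      have := congrFun h l
      simp [hx', hy', h1, h2] at this
      simp [Equiv.swap_apply_of_ne_of_ne h1 h2, this]
    · intro h
      funext l
      rcases eq_or_ne l i with rfl | h1
      · simp [hx', hy', hij]
      rcases eq_or_ne l j with rfl | h2
      · simp [hx', hy']
      simp [hx', hy', h1, h2, h, Equiv.swap_apply_of_ne_of_ne h1 h2]
  · rw [hz _ _ hp, if_neg]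
    intro h
    exact hp ⟨by simp [h], by simp [h]⟩

end CfsgLib.TensorWreathSL
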