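import Cfsg.Agent.Lib.TensorWreathSL.Lev

/-!
A unipotent element of small rank that is a Kronecker product with a non-scalar first factor is a one-slot root.
-/

set_option autoImplicit false
set_option linter.unusedSectionVars false

namespace CfsgLib.TensorWreathSL

open Cfsg Cfsg.Geo CfsgLib.Aschbacher CfsgLib.AschbacherForm CfsgLib.TensorWreath
open scoped Matrix MatrixGroups

variable {F : Type*} [Field F] [Finite F] {m s : ℕ} [NeZero m]

/-- A functional killing a subspace, with value one outside it. -/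
theorem exists_dual {W : Submodule F (Fin m → F)} {u : Fin m → F} (hu : u ∉ W) :
    ∃ ψ : Fin m → F, ψ ⬝ᵥ u = 1 ∧ ∀ w ∈ W, ψ ⬝ᵥ w = 0 := by
  obtain ⟨φ, hW, hu'⟩ := Maximal.exists_ann W u hu
  exact ⟨φ, hu', hW⟩

/-- Elements of the kernel side of a nilpotent endomorphism outside an invariant subspace. -/
theorem exists_out {N : Matrix (Fin m) (Fin m) F} {S : Submodule F (Fin m → F)} {k : ℕ} (hN : N ^ k = 0)
    (hS : S ≠ ⊤) : ∃ x, x ∉ S ∧ N *ᵥ x ∈ S := by
  classical
  obtain ⟨x, -, hx⟩ := SetLike.exists_of_lt hS.lt_top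
  have hex : ∃ j, N ^ j *ᵥ x ∈ S := ⟨k, by rw [hN, Matrix.zero_mulVec]; exact zero_mem _⟩
  have h0 : Nat.find hex ≠ 0 := fun h => hx (by have := Nat.find_spec hex; rwa [h, pow_zero, Matrix.one_mulVec] at this)
  refine ⟨N ^ (Nat.find hex - 1) *ᵥ x, Nat.find_min hex (by omega), ?_⟩
  rw [Matrix.mulVec_mulVec, ← pow_succ', show Nat.find hex - 1 + 1 = Nat.find hex by omega]
  exact Nat.find_spec hex

/-- Two rows of blocks against two columns of blocks. -/
theorem two_rows (i : Fin (s + 1)) (ψ₁ ψ₂ v₁ v₂ : Fin m → F) (N : TMat F m (s + 1)) {κ : Type*} [Fintype κ]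
    (P : Matrix κ (Fin s → Fin m) F) (Q : Matrix (Fin s → Fin m) κ F) :
    Matrix.fromRows (rowM i ψ₁) (P * rowM i ψ₂) * N * Matrix.fromCols (colM i v₁) (colM i v₂ * Q) =
      Matrix.fromBlocks (rowM i ψ₁ * N * colM i v₁) (rowM i ψ₁ * N * colM i v₂ * Q)
        (P * (rowM i ψ₂ * N * colM i v₁)) (P * (rowM i ψ₂ * N * colM i v₂) * Q) := by
  rw [Matrix.fromRows_mul, Matrix.fromRows_mul_fromCols]
  simp only [Matrix.mul_assoc]

/-- The Kronecker case of the root lemma. -/
theorem pure_root (hm : 3 ≤ m) {i : Fin (s + 1)} {u : GL (Fin (s + 1) → Fin m) F} {A : GL (Fin m) F}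
    {B : GL (Fin s → Fin m) F} (he : u = slotGL i A * emb i B) (hsq : (u.1 - 1) * (u.1 - 1) = 0)
    (hrk : (u.1 - 1).rank ≤ m ^ s) (hA : ∀ c : F, (A : Matrix (Fin m) (Fin m) F) ≠ c • 1) :
    IsRoot i (u.1 - 1) := by
  classical
  obtain ⟨p, hp⟩ := CharP.exists F
  have := hp
  have : Fact p.Prime := ⟨CharP.char_is_prime F p⟩
  have hcardU : Fintype.card (Fin s → Fin m) = m ^ s := by simp
  set N := u.1 - 1 with hNdef
  -- the element has order `p`
  have hup : (up ((A : Matrix (Fin m) (Fin m) F) ^ p) : BMat F m s) * dg ((B : TMat F m s) ^ p) = 1 := by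
    have h1 : u.1 ^ p = 1 := by
      rw [show u.1 = 1 + N by rw [hNdef]; abel, add_pow_char_of_commute p (Commute.one_left N), one_pow,
        show N ^ p = N ^ 2 * N ^ (p - 2) by rw [← pow_add, Nat.add_sub_cancel' (Fact.out : p.Prime).two_le],
        sq, hsq, zero_mul, add_zero]
    have h2 := congrArg (blk i) h1
    rw [map_one, map_pow, he, blk_slot_emb] at h2
    rw [map_pow, map_pow, ← (show Commute (up (A : Matrix (Fin m) (Fin m) F) : BMat F m s) (dg (B : TMat F m s)) from (dg_up_comm _ _).symm).mul_pow]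
    exact h2
  have hBp : (B : TMat F m s) ^ p ≠ 0 := by
    have : IsUnit ((B : TMat F m s) ^ p) := B.isUnit.pow p
    exact this.ne_zero
  obtain ⟨lam, hlam0, hlam⟩ : ∃ lam : F, lam ≠ 0 ∧ (A : Matrix (Fin m) (Fin m) F) ^ p = lam • 1 := by
    have hent : ∀ k l, ((A : Matrix (Fin m) (Fin m) F) ^ p) k l • ((B : TMat F m s) ^ p) = if k = l then 1 else 0 :=
      fun k l => by rw [← up_dg_apply, hup, Matrix.one_apply]
    refine ⟨((A : Matrix (Fin m) (Fin m) F) ^ p) 0 0, fun e => ?_, ?_⟩
    · have := hent 0 0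
      rw [e, zero_smul, if_pos rfl] at this
      exact zero_ne_one this
    · ext k l
      rw [Matrix.smul_apply, Matrix.one_apply, smul_eq_mul]
      rcases eq_or_ne k l with rfl | hkl
      · rw [if_pos rfl, mul_one]
        have h1 := (hent k k).trans ((if_pos rfl).trans ((hent 0 0).trans (if_pos rfl)).symm)
        exact sub_eq_zero.1 ((smul_eq_zero.1 (by rw [sub_smul, h1, sub_self])).resolve_right hBp)
      · rw [if_neg hkl, mul_zero]
        have := hent k l
        rw [if_neg hkl] at this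
        exact (smul_eq_zero.1 this).resolve_right hBp
  obtain ⟨μ, hμ⟩ := (Finite.injective_iff_surjective.1 (frobenius_inj F p)) lam
  rw [frobenius_def] at hμ
  have hμ0 : μ ≠ 0 := fun e => hlam0 (by rw [← hμ, e, zero_pow (Fact.out : p.Prime).ne_zero])
  set N' : Matrix (Fin m) (Fin m) F := μ⁻¹ • (A : Matrix (Fin m) (Fin m) F) - 1 with hN'
  have hN'p : N' ^ p = 0 := by
    rw [hN', sub_pow_char_of_commute p (Commute.one_right _), smul_pow, hlam, one_pow, smul_smul, inv_pow, hμ,
      inv_mul_cancel₀ hlam0, one_smul, sub_self]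
  set B' : TMat F m s := μ • (B : TMat F m s) with hB'
  have hB'u : IsUnit B' := by
    rw [hB', ← Units.smul_mk0 hμ0]
    exact B.isUnit.smul (Units.mk0 μ hμ0)
  have hu : u.1 = slot i (1 + N') * embM i B' := by
    rw [he, Units.val_mul, slotGL_val, emb_val, hN', add_sub_cancel, hB', slot_smul, map_smul, Matrix.smul_mul,
      Matrix.mul_smul, smul_smul, inv_mul_cancel₀ hμ0, one_smul]
  have hN'0 : N' ≠ 0 := fun e => hA μ (by
    rw [hN', sub_eq_zero] at e
    rw [← e, smul_smul, mul_inv_cancel₀ hμ0, one_smul])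
  have hblock : ∀ ψ v, rowM i ψ * N * colM i v = (ψ ⬝ᵥ ((1 + N') *ᵥ v)) • B' - (ψ ⬝ᵥ v) • 1 := fun ψ v => by
    have e1 := rowM_slot_emb_colM i ψ v (1 : Matrix (Fin m) (Fin m) F) (1 : TMat F m s)
    rw [slot_one, map_one, one_mul, Matrix.one_mulVec] at e1
    rw [hNdef, Matrix.mul_sub, Matrix.sub_mul, hu, rowM_slot_emb_colM, e1]
  -- a vector moved onto a fixed one
  obtain ⟨v, w, hw0, hvw, hww⟩ : ∃ v w, w ≠ 0 ∧ N' *ᵥ v = w ∧ N' *ᵥ w = 0 := by
    have hex : ∃ k, N' ^ k = 0 := ⟨p, hN'p⟩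
    have h2 : 2 ≤ Nat.find hex := by
      by_contra hlt
      have := Nat.find_spec hex
      rcases (by omega : Nat.find hex = 0 ∨ Nat.find hex = 1) with e | e <;> rw [e] at this
      · rw [pow_zero] at this; exact one_ne_zero this
      · rw [pow_one] at this; exact hN'0 this
    obtain ⟨a, ha⟩ : ∃ a, N' ^ (Nat.find hex - 1) *ᵥ a ≠ 0 := by
      by_contra hcon
      push Not at hcon
      exact Nat.find_min hex (m := Nat.find hex - 1) (by omega)
        (Matrix.ext_of_mulVec_single fun k => by rw [hcon, Matrix.zero_mulVec])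
    refine ⟨N' ^ (Nat.find hex - 2) *ᵥ a, _, ha, ?_, ?_⟩
    · rw [Matrix.mulVec_mulVec, ← pow_succ', show Nat.find hex - 2 + 1 = Nat.find hex - 1 by omega]
    · rw [Matrix.mulVec_mulVec, ← pow_succ', show Nat.find hex - 1 + 1 = Nat.find hex by omega, Nat.find_spec hex,
        Matrix.zero_mulVec]
  set S : Submodule F (Fin m → F) := Submodule.span F {v, w} with hS
  have hSne : S ≠ ⊤ := fun e => by
    have h1 : Module.finrank F S ≤ 2 := by
      classical
      have := finrank_span_finset_le_card (R := F) ({v, w} : Finset (Fin m → F))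
      rw [Finset.coe_insert, Finset.coe_singleton] at this
      exact this.trans Finset.card_le_two
    rw [e, finrank_top, Module.finrank_fintype_fun_eq_card, Fintype.card_fin] at h1
    omega
  obtain ⟨x, hxS, hNx⟩ := exists_out hN'p hSne
  obtain ⟨α, β, hαβ⟩ := Submodule.mem_span_pair.1 hNx
  set x' := x - β • v with hx'
  have hvS : v ∈ S := Submodule.subset_span (by simp)
  have hwS : w ∈ S := Submodule.subset_span (by simp)
  have hx'S : x' ∉ S := fun h => hxS (by
    have := add_mem h (S.smul_mem β hvS)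
    rwa [hx', sub_add_cancel] at this)
  have hNx' : N' *ᵥ x' = α • v := by
    rw [hx', Matrix.mulVec_sub, Matrix.mulVec_smul, hvw, ← hαβ, add_sub_cancel_right]
  have hwn : w ∉ Submodule.span F {v, x'} := fun h => by
    obtain ⟨a, b, hab⟩ := Submodule.mem_span_pair.1 h
    have hb : b = 0 := by
      by_contra hb
      refine hx'S ?_
      have : b • x' ∈ S := by
        rw [show b • x' = w - a • v by rw [← hab]; abel]
        exact sub_mem hwS (S.smul_mem _ hvS)
      rwa [S.smul_mem_iff hb] at this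
    rw [hb, zero_smul, add_zero] at hab
    have ha : a • w = 0 := by rw [← hvw, ← Matrix.mulVec_smul, hab, hww]
    rcases smul_eq_zero.1 ha with e | e
    · exact hw0 (by rw [← hab, e, zero_smul])
    · exact hw0 e
  obtain ⟨ψ₂, h2x, h2S⟩ := exists_dual hx'S
  obtain ⟨ψ₁, h1w, h1S⟩ := exists_dual hwn
  have h1v : ψ₁ ⬝ᵥ v = 0 := h1S v (Submodule.subset_span (by simp))
  have h1x : ψ₁ ⬝ᵥ x' = 0 := h1S x' (Submodule.subset_span (by simp))
  have e11 : rowM i ψ₁ * N * colM i v = B' := by
    rw [hblock, Matrix.add_mulVec, Matrix.one_mulVec, hvw, dotProduct_add, h1v, h1w, zero_add, one_smul, zero_smul,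
      sub_zero]
  have e12 : rowM i ψ₁ * N * colM i x' = 0 := by
    rw [hblock, Matrix.add_mulVec, Matrix.one_mulVec, hNx', dotProduct_add, h1x, dotProduct_smul, h1v, smul_zero,
      add_zero, zero_smul, zero_smul, sub_zero]
  have e21 : rowM i ψ₂ * N * colM i v = 0 := by
    rw [hblock, Matrix.add_mulVec, Matrix.one_mulVec, hvw, dotProduct_add, h2S v hvS, h2S w hwS, add_zero, zero_smul,
      zero_smul, sub_zero]
  have e22 : rowM i ψ₂ * N * colM i x' = B' - 1 := by
    rw [hblock, Matrix.add_mulVec, Matrix.one_mulVec, hNx', dotProduct_add, h2x, dotProduct_smul, h2S v hvS,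
      smul_zero, add_zero, one_smul, one_smul]
  have hB1 : B' = 1 := by
    by_contra hne
    obtain ⟨a, b, hab⟩ : ∃ a b, (B' - 1) a b ≠ 0 := by
      by_contra hcon
      push Not at hcon
      exact hne (sub_eq_zero.1 (Matrix.ext hcon))
    have := card_le_rank N (Matrix.fromRows (rowM i ψ₁) (Matrix.single () a (1 : F) * rowM i ψ₂))
      (Matrix.fromCols (colM i v) (colM i x' * Matrix.single b () (1 : F))) (by
      rw [two_rows, e11, e12, e21, e22, Matrix.zero_mul, Matrix.mul_zero, Matrix.isUnit_fromBlocks_zero₁₂]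
      refine ⟨hB'u, (Matrix.isUnit_iff_isUnit_det _).2 ?_⟩
      rw [Matrix.det_unique, isUnit_iff_ne_zero]
      simpa [Matrix.mul_apply, Matrix.single_apply, Finset.sum_mul, ite_and] using hab)
    rw [Fintype.card_sum, hcardU, Fintype.card_unit] at this
    omega
  rw [hB1] at hblock
  have hN : N = slot i N' := by
    rw [hNdef, hu, hB1, map_one, mul_one, slot_add, slot_one, add_sub_cancel_left]
  -- rank one
  have hline : ∀ y, N' *ᵥ y ∈ F ∙ w := fun y => by
    by_contra hy
    have hw' : w ∉ F ∙ (N' *ᵥ y) := fun hm' => by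
      obtain ⟨c, hc⟩ := Submodule.mem_span_singleton.1 hm'
      have hc0 : c ≠ 0 := fun e => hw0 (by rw [← hc, e, zero_smul])
      exact hy (Submodule.mem_span_singleton.2 ⟨c⁻¹, by rw [← hc, inv_smul_smul₀ hc0]⟩)
    obtain ⟨φ₂, p22, p2S⟩ := exists_dual hy
    obtain ⟨φ₁, p11, p1S⟩ := exists_dual hw'
    have hb : ∀ ψ z, rowM i ψ * N * colM i z = (ψ ⬝ᵥ (N' *ᵥ z)) • (1 : TMat F m s) := fun ψ z => by
      rw [hblock, Matrix.add_mulVec, Matrix.one_mulVec, dotProduct_add, add_smul, add_sub_cancel_left]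
    have := card_le_rank N (Matrix.fromRows (rowM i φ₁) ((1 : TMat F m s) * rowM i φ₂))
      (Matrix.fromCols (colM i v) (colM i y * (1 : TMat F m s))) (by
      rw [two_rows, hb, hb, hb, hb, hvw, p11, p22, p1S _ (Submodule.mem_span_singleton_self _),
        p2S _ (Submodule.mem_span_singleton_self _)]
      simp only [zero_smul, one_smul, Matrix.mul_one, Matrix.one_mul, Matrix.isUnit_fromBlocks_zero₁₂, isUnit_one,
        and_self])
    rw [Fintype.card_sum, hcardU] at this
    have hpos : 0 < m ^ s := pow_pos (by omega) _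
    omega
  obtain ⟨ψ, hψw, -⟩ := exists_dual (W := ⊥) (u := w) (by simpa using hw0)
  have hform : N' = Matrix.vecMulVec w (ψ ᵥ* N') := by
    refine Matrix.ext_of_mulVec_single fun k => ?_
    obtain ⟨c, hc⟩ := Submodule.mem_span_singleton.1 (hline (Pi.single k 1))
    rw [Matrix.vecMulVec_mulVec, op_smul_eq_smul, ← Matrix.dotProduct_mulVec, ← hc, dotProduct_smul, hψw,
      smul_eq_mul, mul_one]
  refine ⟨w, ψ ᵥ* N', hw0, fun e => hN'0 (by rw [hform, e, Matrix.vecMulVec_zero]), ?_, by rw [hN, ← hform]⟩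
  rw [← Matrix.dotProduct_mulVec, hww, dotProduct_zero]

end CfsgLib.TensorWreathSL
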