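import Cfsg.Agent.Lib.TensorWreathSL.Block
import Cfsg.Agent.Lib.AschbacherOrth.OddRows
import Cfsg.Agent.Lib.TensorMax.Basic
import Cfsg.Agent.Lib.Maximal.Transvec

/-!
The tensor wreath group as the group permuting the slot algebras; one-slot root elements; subgroups containing the
special linear groups of all slots.
-/

set_option autoImplicit false
set_option linter.unusedSectionVars false

namespace CfsgLib.TensorWreathSL

open Cfsg Cfsg.Geo CfsgLib.Aschbacher CfsgLib.AschbacherForm CfsgLib.TensorWreath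
open scoped Matrix MatrixGroups

variable {F : Type*} [Field F] {m s : ℕ}

/-- The element permutes the slot algebras. -/
def Rep (g : GL (Fin s → Fin m) F) (π : Equiv.Perm (Fin s)) : Prop :=
  ∀ i a, ∃ a', cj g (slot i a) = slot (π i) a'

/-- The standard tensor wreath group. -/
abbrev Std (F : Type*) [Field F] (m s : ℕ) : Subgroup (GL (Fin s → Fin m) F) := tensorWreathStandard m s F

theorem Rep.mul {g h : GL (Fin s → Fin m) F} {π σ : Equiv.Perm (Fin s)} (hg : Rep g π) (hh : Rep h σ) :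
    Rep (g * h) (π * σ) := fun i a => by
  obtain ⟨a', ha⟩ := hh i a
  obtain ⟨a'', ha'⟩ := hg (σ i) a'
  exact ⟨a'', by rw [← cj_cj, ha, ha', Equiv.Perm.mul_apply]⟩

theorem rep_pureGL (A : Fin s → GL (Fin m) F) : Rep (pureGL A) 1 := fun i a =>
  ⟨cj (A i) a, by rw [cj_apply]; exact pure'_conj_slot A i a⟩

theorem rep_permGL (π : Equiv.Perm (Fin s)) : Rep (permGL π : GL (Fin s → Fin m) F) π := fun i a =>
  ⟨a, permGL_conj_slot π i a⟩

theorem exists_rep_of_std [Finite F] {g : GL (Fin s → Fin m) F} (h : g ∈ Std F m s) :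
    ∃ π A, g = permGL π * pureGL A ∧ Rep g π := by
  have := Fintype.ofFinite F
  obtain ⟨π, A, rfl⟩ := AschbacherOrth.rep_of_mem h
  exact ⟨π, A, rfl, mul_one π ▸ (rep_permGL π).mul (rep_pureGL A)⟩

theorem permGL_mem (π : Equiv.Perm (Fin s)) : (permGL π : GL (Fin s → Fin m) F) ∈ Std F m s :=
  Subgroup.subset_closure (Or.inr ⟨π, fun _ _ => rfl⟩)

theorem pureGL_mem (A : Fin s → GL (Fin m) F) : pureGL A ∈ Std F m s :=
  Subgroup.subset_closure (Or.inl ⟨A, fun _ _ => rfl⟩)

theorem slotGL_eq_pureGL (i : Fin s) (A : GL (Fin m) F) : slotGL i A = pureGL (Function.update (fun _ => 1) i A) := by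
  refine Units.ext ?_
  show slot i (A : Matrix (Fin m) (Fin m) F) = pure' _
  rw [slot_eq_pure]
  congr 1
  funext j
  rcases eq_or_ne j i with rfl | hj
  · simp
  · simp [hj]

theorem slotGL_mem (i : Fin s) (A : GL (Fin m) F) : slotGL i A ∈ Std F m s :=
  slotGL_eq_pureGL i A ▸ pureGL_mem _

variable [NeZero m]

theorem std_of_rep {g : GL (Fin s → Fin m) F} {π : Equiv.Perm (Fin s)} (hs : 0 < s) (h : Rep g π) :
    g ∈ Std F m s := by
  obtain ⟨A, rfl⟩ := slot_decomp hs g π h
  exact mul_mem (permGL_mem π) (pureGL_mem A)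

theorem Rep.unique [Finite F] (hm : 2 ≤ m) {g : GL (Fin s → Fin m) F} {π σ : Equiv.Perm (Fin s)} (h : Rep g π) (h' : Rep g σ) :
    π = σ := by
  have := Fintype.ofFinite F
  refine Equiv.ext fun i => slot_disjoint (F := F) hm fun b => ?_
  -- the conjugation maps the slot algebra onto its image
  choose θ hθ using h i
  have hinj : Function.Injective θ := fun a a' e => by
    have : cj g (slot i a) = cj g (slot i a') := by rw [hθ, hθ, e]
    exact slot_injective i ((cj g).injective this)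
  have hlin : ∀ a a', θ (a + a') = θ a + θ a' := fun a a' => slot_injective (π i) (by
    rw [← hθ, slot_add, slot_add, map_add, hθ, hθ])
  have hsmul : ∀ (c : F) a, θ (c • a) = c • θ a := fun c a => slot_injective (π i) (by
    rw [← hθ, slot_smul, slot_smul, map_smul, hθ])
  obtain ⟨a, ha⟩ := (LinearMap.injective_iff_surjective (f := (⟨⟨θ, hlin⟩, hsmul⟩ : Matrix (Fin m) (Fin m) F →ₗ[F]
    Matrix (Fin m) (Fin m) F))).1 hinj b
  obtain ⟨a', ha'⟩ := h' i a
  exact ⟨a', by rw [← ha', hθ]; exact congrArg _ ha.symm⟩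

theorem emb_mem [Finite F] (i : Fin (s + 1)) {B : GL (Fin s → Fin m) F} (hB : B ∈ Std F m s) :
    emb i B ∈ Std F m (s + 1) := by
  induction hB using Subgroup.closure_induction with
  | mem g hg =>
    obtain ⟨π, A, rfl, hrep⟩ := exists_rep_of_std (Subgroup.subset_closure hg)
    refine std_of_rep (π := (finSuccEquiv' i).symm.permCongr (Equiv.optionCongr π)) s.succ_pos fun k a => ?_
    rcases Fin.eq_self_or_eq_succAbove i k with rfl | ⟨j, rfl⟩
    · refine ⟨a, ?_⟩
      rw [show ((finSuccEquiv' k).symm.permCongr (Equiv.optionCongr π)) k = k by simp [Equiv.permCongr_apply],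
        cj_eq_self_iff, emb_val]
      exact (slot_embM_comm k a _).symm
    · obtain ⟨a', ha'⟩ := hrep j a
      refine ⟨a', ?_⟩
      rw [show ((finSuccEquiv' i).symm.permCongr (Equiv.optionCongr π)) (i.succAbove j) = i.succAbove (π j) by
        simp [Equiv.permCongr_apply], cj_apply, emb_val, ← map_inv, emb_val, ← embM_slot, ← embM_slot, ← map_mul,
        ← map_mul]
      exact congrArg _ ha'
  | one => rw [map_one]; exact one_mem _
  | mul a b _ _ ha hb => rw [map_mul]; exact mul_mem ha hb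
  | inv a _ ha => rw [map_inv]; exact inv_mem ha

/-- A slot root. -/
def IsRoot (i : Fin s) (N : TMat F m s) : Prop :=
  ∃ v φ : Fin m → F, v ≠ 0 ∧ φ ≠ 0 ∧ φ ⬝ᵥ v = 0 ∧ N = slot i (Matrix.vecMulVec v φ)

theorem IsRoot.sq {i : Fin s} {N : TMat F m s} (h : IsRoot i N) : N * N = 0 := by
  obtain ⟨v, φ, -, -, h0, rfl⟩ := h
  rw [← slot_mul, vmv_smul_mul, h0, zero_smul, slot_zero]

theorem isRoot_single (i : Fin s) {k l : Fin m} (h : k ≠ l) :
    IsRoot i (slot (F := F) i (Matrix.single k l (1 : F))) :=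
  ⟨Pi.single k 1, Pi.single l 1, by simp, by simp, by simp [h.symm], by
    rw [Matrix.single_eq_single_vecMulVec_single]⟩

theorem IsRoot.smul {i : Fin s} {N : TMat F m s} (h : IsRoot i N) {c : F} (hc : c ≠ 0) : IsRoot i (c • N) := by
  obtain ⟨v, φ, hv, hφ, h0, rfl⟩ := h
  exact ⟨c • v, φ, smul_ne_zero hc hv, hφ, by rw [dotProduct_smul, h0, smul_zero], by
    rw [Matrix.smul_vecMulVec, slot_smul]⟩

theorem IsRoot.ne_zero {i : Fin s} {N : TMat F m s} (h : IsRoot i N) : N ≠ 0 := by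
  obtain ⟨v, φ, hv, hφ, -, rfl⟩ := h
  intro e
  have h1 : Matrix.vecMulVec v φ = 0 := slot_injective i (e.trans (slot_zero i).symm)
  obtain ⟨a, ha⟩ := Function.ne_iff.1 hv
  obtain ⟨b, hb⟩ := Function.ne_iff.1 hφ
  exact mul_ne_zero ha hb (congrFun (congrFun h1 a) b)

theorem slot_conj (i : Fin s) (A : GL (Fin m) F) (a : Matrix (Fin m) (Fin m) F) :
    cj (slotGL i A) (slot i a) = slot i (cj A a) := by
  rw [cj_apply, cj_apply, ← map_inv, slotGL_val, slotGL_val, slot_mul, slot_mul]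

theorem slot_conj_ne {i j : Fin s} (h : i ≠ j) (A : GL (Fin m) F) (a : Matrix (Fin m) (Fin m) F) :
    cj (slotGL i A) (slot j a) = slot j a :=
  (cj_eq_self_iff _ _).2 (slot_commute h _ _)

theorem cj_vmv (A : GL (Fin m) F) (v φ : Fin m → F) :
    cj A (Matrix.vecMulVec v φ) =
      Matrix.vecMulVec ((A : Matrix (Fin m) (Fin m) F) *ᵥ v) (φ ᵥ* (↑A⁻¹ : Matrix (Fin m) (Fin m) F)) := by
  rw [cj_apply, Matrix.mul_vecMulVec, Matrix.vecMulVec_mul]

/-- Moving a root to a standard one by determinant one. -/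
theorem exists_move (hm : 3 ≤ m) {v φ : Fin m → F} (hv : v ≠ 0) (hφ : φ ≠ 0) (h : φ ⬝ᵥ v = 0) {o c : Fin m}
    (hoc : o ≠ c) :
    ∃ A : GL (Fin m) F, (A : Matrix (Fin m) (Fin m) F).det = 1 ∧
      cj A (Matrix.vecMulVec v φ) = Matrix.single o c 1 := by
  obtain ⟨B, hB, e1, e2⟩ := TensorMax.exists_det_one_pair (β := Fin m) (by simpa using hm)
    (w := φ) (ψ := v) (w' := Pi.single c 1) (ψ' := Pi.single o 1) hφ hv h (by simp) (by simp) (by simp [hoc.symm])
  have hu : IsUnit B.det := by rw [hB]; exact isUnit_one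
  let U : GL (Fin m) F := ⟨B, B⁻¹, Matrix.mul_nonsing_inv _ hu, Matrix.nonsing_inv_mul _ hu⟩
  refine ⟨U⁻¹, ?_, ?_⟩
  · show B⁻¹.det = 1
    rw [Matrix.det_nonsing_inv, hB, Ring.inverse_one]
  · rw [cj_vmv, inv_inv]
    show Matrix.vecMulVec (B⁻¹ *ᵥ v) (φ ᵥ* B) = _
    rw [e1, ← e2, Matrix.mulVec_mulVec, Matrix.nonsing_inv_mul _ hu, Matrix.one_mulVec,
      Matrix.single_eq_single_vecMulVec_single]

/-- Moving a root to a standard one inside the slot. -/
theorem IsRoot.move (hm : 3 ≤ m) {i : Fin s} {N : TMat F m s} (h : IsRoot i N) {o c : Fin m} (hoc : o ≠ c) :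
    ∃ A : GL (Fin m) F, (A : Matrix (Fin m) (Fin m) F).det = 1 ∧
      cj (slotGL i A) N = slot i (Matrix.single o c 1) := by
  obtain ⟨v, φ, hv, hφ, h0, rfl⟩ := h
  obtain ⟨A, hA, e⟩ := exists_move hm hv hφ h0 hoc
  exact ⟨A, hA, by rw [slot_conj, e]⟩

/-- A unit `1 + N` with `N` square zero. -/
def oneAdd (N : TMat F m s) (h : N * N = 0) : GL (Fin s → Fin m) F where
  val := 1 + N
  inv := 1 - N
  val_inv := by rw [add_mul, one_mul, mul_sub, mul_one, h, sub_zero, sub_add_cancel]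
  inv_val := by rw [sub_mul, one_mul, mul_add, mul_one, h, add_zero, add_sub_cancel_right]

theorem cj_oneAdd (g : GL (Fin s → Fin m) F) (N : TMat F m s) :
    cj g (1 + N) = 1 + cj g N := by rw [map_add, map_one]

theorem cj_sq (g : GL (Fin s → Fin m) F) {N : TMat F m s} (h : N * N = 0) : cj g N * cj g N = 0 := by
  rw [← map_mul, h, map_zero]

theorem oneAdd_conj (g : GL (Fin s → Fin m) F) {N : TMat F m s} (h : N * N = 0) :
    g * oneAdd N h * g⁻¹ = oneAdd (cj g N) (cj_sq g h) :=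
  Units.ext (by rw [← cj_val]; exact cj_oneAdd g N)

/-- A group containing the special linear group of each slot, with no root element twisted by a non-scalar
coefficient. -/
structure SLCtx (M : Subgroup (GL (Fin s → Fin m) F)) : Prop where
  sl : ∀ i (A : GL (Fin m) F), (A : Matrix (Fin m) (Fin m) F).det = 1 → slotGL i A ∈ M
  nr : ∀ i (k l : Fin m), k ≠ l → ∀ C : TMat F m s, Cent i C →
    InM M (1 + slot i (Matrix.single k l 1) * C) → ∃ c : F, C = c • 1

theorem root_unit (i : Fin s) {v φ : Fin m → F} (h : φ ⬝ᵥ v = 0) :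
    ((slotGL i (Maximal.tv v φ h) : GL (Fin s → Fin m) F) : TMat F m s) = 1 + slot i (Matrix.vecMulVec v φ) := by
  rw [slotGL_val, Maximal.tv_val, slot_add, slot_one]

theorem SLCtx.root_mem {M : Subgroup (GL (Fin s → Fin m) F)} (hM : SLCtx M) {i : Fin s} {N : TMat F m s}
    (h : IsRoot i N) : oneAdd N h.sq ∈ M := by
  obtain ⟨v, φ, -, -, h0, e⟩ := id h
  have : oneAdd N h.sq = slotGL i (Maximal.tv v φ h0) :=
    Units.ext (by rw [root_unit, ← e]; rfl)
  rw [this]
  exact hM.sl i _ (Maximal.tv_det v φ h0)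

theorem SLCtx.unip {M : Subgroup (GL (Fin s → Fin m) F)} (hM : SLCtx M) {i : Fin s} {N : TMat F m s}
    (h : IsRoot i N) : Unip F M N := by
  refine ⟨h.sq, fun c => ?_⟩
  rcases eq_or_ne c 0 with rfl | hc
  · exact ⟨1, one_mem _, by simp⟩
  · exact ⟨_, hM.root_mem (h.smul hc), rfl⟩

end CfsgLib.TensorWreathSL
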