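import Cfsg.Agent.Lib.TensorWreathSL.RootMove

/-!
An exchange of two slots of dimension three in characteristic two is not conjugate to a one-slot root: the special
linear group diagonal in the two slots would embed in a soluble group.
-/

set_option autoImplicit false
set_option linter.unusedSectionVars false

namespace CfsgLib.TensorWreathSL

open Cfsg Cfsg.Geo CfsgLib.Aschbacher CfsgLib.AschbacherForm CfsgLib.TensorWreath
open scoped Matrix MatrixGroups

variable {F : Type*} [Field F] [Finite F] {m s : ℕ} [NeZero m]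

/-- The centraliser of a root in dimension three. -/
structure Lvl0 (A : Matrix (Fin 3) (Fin 3) F) : Prop where
  dg : A 0 0 = A 1 1
  e10 : A 1 0 = 0
  e20 : A 2 0 = 0
  e12 : A 1 2 = 0

/-- The derived terms of the centraliser of a root in dimension three. -/
structure Lvl (r : ℕ) (A : Matrix (Fin 3) (Fin 3) F) : Prop where
  base : Lvl0 A
  one : 1 ≤ r → A 0 0 = 1 ∧ A 2 2 = 1
  two : 2 ≤ r → A 0 2 = 0 ∧ A 2 1 = 0
  three : 3 ≤ r → A = 1

theorem lvl_mul0 {A A' : Matrix (Fin 3) (Fin 3) F} (h : Lvl0 A) (h' : Lvl0 A') :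
    (A * A') 0 0 = A 0 0 * A' 0 0 ∧ (A * A') 2 2 = A 2 2 * A' 2 2 ∧ (A * A') 1 1 = A 1 1 * A' 1 1 ∧
      (A * A') 0 2 = A 0 0 * A' 0 2 + A 0 2 * A' 2 2 ∧ (A * A') 2 1 = A 2 1 * A' 1 1 + A 2 2 * A' 2 1 ∧
      Lvl0 (A * A') := by
  obtain ⟨h1, h2, h3, h4⟩ := h
  obtain ⟨k1, k2, k3, k4⟩ := h'
  refine ⟨?_, ?_, ?_, ?_, ?_, ⟨?_, ?_, ?_, ?_⟩⟩ <;>
    simp [Matrix.mul_apply, Fin.sum_univ_three, h2, h3, h4, k2, k3, k4]
  linear_combination A' 0 0 * h1 + A 1 1 * k1

theorem lvl_comm {r : ℕ} {A A' : GL (Fin 3) F} (hA : Lvl r A.1) (hA' : Lvl r A'.1)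
    (hC0 : Lvl0 (A * A' * A⁻¹ * A'⁻¹).1) : Lvl (r + 1) (A * A' * A⁻¹ * A'⁻¹).1 := by
  set C := (A * A' * A⁻¹ * A'⁻¹).1 with hC
  have key : C * (A'.1 * A.1) = A.1 * A'.1 := by
    rw [hC, ← Units.val_mul, ← Units.val_mul, ← Units.val_mul]
    exact congrArg Units.val (by group)
  obtain ⟨a00, a22, a11, a02, a21, aa⟩ := lvl_mul0 hA.base hA'.base
  obtain ⟨b00, b22, b11, b02, b21, bb⟩ := lvl_mul0 hA'.base hA.base
  obtain ⟨c00, c22, c11, c02, c21, -⟩ := lvl_mul0 hC0 bb
  rw [key] at c00 c22 c11 c02 c21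
  have hu := (A' * A).isUnit
  have hne : (A'.1 * A.1) 0 0 ≠ 0 ∧ (A'.1 * A.1) 2 2 ≠ 0 := by
    obtain ⟨h1, h2, h3, h4⟩ := bb
    have hd : IsUnit ((A'.1 * A.1).det) := (Matrix.isUnit_iff_isUnit_det _).1 hu
    rw [Matrix.det_fin_three, h2, h3, h4, ← h1] at hd
    rw [isUnit_iff_ne_zero] at hd
    constructor <;> intro e <;> apply hd <;> rw [e] <;> ring
  have e00 : C 0 0 = 1 := by
    refine mul_right_cancel₀ hne.1 ?_
    rw [one_mul, ← c00, a00, b00, mul_comm]
  have e22 : C 2 2 = 1 := by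
    refine mul_right_cancel₀ hne.2 ?_
    rw [one_mul, ← c22, a22, b22, mul_comm]
  refine ⟨hC0, fun _ => ⟨e00, e22⟩, fun h => ?_, fun h => ?_⟩
  · obtain ⟨x1, x2⟩ := hA.one (by omega)
    obtain ⟨y1, y2⟩ := hA'.one (by omega)
    constructor
    · have := c02
      rw [a02, b02, b22, e00, x1, x2, y1, y2] at this
      linear_combination -this
    · have := c21
      rw [a21, b21, b11, e22, ← hA.base.dg, ← hA'.base.dg, x1, x2, y1, y2] at this
      linear_combination -this
  · obtain ⟨⟨l1, l2, l3, l4⟩, ho, ht, -⟩ := hA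
    obtain ⟨⟨k1, k2, k3, k4⟩, ho', ht', -⟩ := hA'
    obtain ⟨x1, x2⟩ := ho (by omega)
    obtain ⟨y1, y2⟩ := ho' (by omega)
    obtain ⟨x3, x4⟩ := ht (by omega)
    obtain ⟨y3, y4⟩ := ht' (by omega)
    have hcomm : A'.1 * A.1 = A.1 * A'.1 := by
      ext i j
      fin_cases i <;> fin_cases j <;>
        simp [Matrix.mul_apply, Fin.sum_univ_three, ← l1, ← k1, l2, l3, l4, k2, k3, k4, x1, x2, y1, y2, x3, x4, y3, y4,
          add_comm]
    rw [hcomm] at key
    exact (A * A').isUnit.mul_right_cancel (key.trans (one_mul _).symm)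

/-- The element has a component at this level. -/
def HasLvl (r : ℕ) (i : Fin (s + 1)) (g : GL (Fin (s + 1) → Fin 3) F) : Prop :=
  ∃ A B, Lvl r (A : GL (Fin 3) F).1 ∧ g = slotGL i A * emb i B

theorem slot_emb_commutator (i : Fin (s + 1)) (A A' : GL (Fin m) F) (B B' : GL (Fin s → Fin m) F) :
    (slotGL i A * emb i B) * (slotGL i A' * emb i B') * (slotGL i A * emb i B)⁻¹ * (slotGL i A' * emb i B')⁻¹ =
      slotGL i (A * A' * A⁻¹ * A'⁻¹) * emb i (B * B' * B⁻¹ * B'⁻¹) := by
  have hc : ∀ (A : GL (Fin m) F) (B : GL (Fin s → Fin m) F),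
      Commute (slotGL i A) (emb i B) := slotGL_emb_comm i
  have hm : ∀ (A A' : GL (Fin m) F) (B B' : GL (Fin s → Fin m) F),
      (slotGL i A * emb i B) * (slotGL i A' * emb i B') = slotGL i (A * A') * emb i (B * B') := fun A A' B B' => by
    rw [map_mul, map_mul, mul_assoc, ← mul_assoc (emb i B), (hc A' B).symm.eq]
    simp only [mul_assoc]
  have hi : ∀ (A : GL (Fin m) F) (B : GL (Fin s → Fin m) F),
      (slotGL i A * emb i B)⁻¹ = slotGL i A⁻¹ * emb i B⁻¹ := fun A B => by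
    rw [(hc A B).eq, _root_.mul_inv_rev, map_inv, map_inv]
  rw [hm, hi, hm, hi, hm]

/-- The elementary transvection. -/
def tvS (k l : Fin m) (h : k ≠ l) : GL (Fin m) F :=
  Maximal.tv (Pi.single k 1) (Pi.single l 1) (by simp [h.symm])

theorem tvS_val (k l : Fin m) (h : k ≠ l) :
    (tvS (F := F) k l h : Matrix (Fin m) (Fin m) F) = 1 + Matrix.single k l 1 := by
  rw [tvS, Maximal.tv_val, Matrix.single_eq_single_vecMulVec_single]

theorem tvS_det (k l : Fin m) (h : k ≠ l) : (tvS (F := F) k l h : Matrix (Fin m) (Fin m) F).det = 1 :=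
  Maximal.tv_det _ _ _

theorem tvS_inv_val (k l : Fin m) (h : k ≠ l) :
    ((tvS (F := F) k l h)⁻¹ : GL (Fin m) F).1 = 1 - Matrix.single k l 1 := by
  refine left_inv_eq_right_inv (Units.inv_mul _) ?_
  rw [tvS_val, add_mul, one_mul, mul_sub, mul_one, Matrix.single_mul_single_of_ne _ _ _ _ h.symm, sub_zero,
    sub_add_cancel]

theorem tvS_commutator {k l n : Fin m} (hkl : k ≠ l) (hln : l ≠ n) (hkn : k ≠ n) :
    tvS (F := F) k n hkn = tvS k l hkl * tvS l n hln * (tvS k l hkl)⁻¹ * (tvS l n hln)⁻¹ := by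
  refine Units.ext ?_
  rw [Units.val_mul, Units.val_mul, Units.val_mul, tvS_inv_val, tvS_inv_val, tvS_val, tvS_val, tvS_val]
  have e1 : Matrix.single l n (1 : F) * Matrix.single k l 1 = 0 := Matrix.single_mul_single_of_ne _ _ _ _ hkn.symm _
  have e2 : Matrix.single k l (1 : F) * Matrix.single k l 1 = 0 := Matrix.single_mul_single_of_ne _ _ _ _ hkl.symm _
  have e3 : Matrix.single l n (1 : F) * Matrix.single l n 1 = 0 := Matrix.single_mul_single_of_ne _ _ _ _ hln.symm _
  rw [show Matrix.single k n (1 : F) = Matrix.single k l 1 * Matrix.single l n 1 by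
    rw [Matrix.single_mul_single_same, mul_one]]
  simp only [add_mul, mul_add, one_mul, mul_one, mul_sub, sub_mul, e1, e2, e3, zero_mul, mul_zero, mul_assoc]
  abel

theorem emb_eq_slot_scalar {i : Fin (s + 1)} {A : Matrix (Fin m) (Fin m) F} {B : GL (Fin s → Fin m) F}
    (h : (emb i B).1 = slot i A) : ∃ c : F, (B : TMat F m s) = c • 1 := by
  refine ⟨A 0 0, ?_⟩
  have h' := congrFun (congrFun (congrArg (blk i) h) 0) 0
  rwa [emb_val, blk_embM, blk_slot_self, up_apply, dg_apply, if_pos rfl] at h'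

/-- In characteristic two an exchange of two slots is no conjugate of a root. -/
theorem Lev.no_swap {M : Subgroup (GL (Fin (s + 1) → Fin 3) F)} (hL : Lev M) (h2 : (2 : F) = 0) {i0 : Fin (s + 1)}
    {N : TMat F 3 (s + 1)} (hN : IsRoot i0 N) {g : GL (Fin (s + 1) → Fin 3) F} (hg : g ∈ M)
    {T : Fin (s + 1) → GL (Fin 3) F} {i j : Fin (s + 1)} (hij : i ≠ j)
    (hsw : cj (pureGL T) (cj g (1 + N)) = (permGL (Equiv.swap i j) : GL (Fin (s + 1) → Fin 3) F).1) : False := by
  classical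
  have := Fintype.ofFinite F
  obtain ⟨A₀, hA₀, e₀⟩ := hN.move hL.hm (o := (0 : Fin 3)) (c := 1) (by decide)
  have hh₀ : slotGL i0 A₀ ∈ M := hL.ctx.sl i0 A₀ hA₀
  obtain ⟨g', hg', rfl⟩ : ∃ g' ∈ M, g = g' * slotGL i0 A₀ := ⟨g * (slotGL i0 A₀)⁻¹, mul_mem hg (inv_mem hh₀), by group⟩
  clear hg
  rename' g' => g, hg' => hg
  rw [← cj_cj, map_add, map_one, e₀] at hsw
  set x : TMat F 3 (s + 1) := slot i0 (Matrix.single 0 1 1) with hx
  have hxr : IsRoot i0 x := isRoot_single i0 (by decide)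
  set D := pureGL T with hD
  set P : GL (Fin (s + 1) → Fin 3) F := permGL (Equiv.swap i j) with hP
  have hsl : ∀ (l : Fin (s + 1)) (A : GL (Fin 3) F), D⁻¹ * slotGL l A * D = slotGL l ((T l)⁻¹ * A * T l) := by
    intro l A
    refine Units.ext ?_
    have h := pure_conj (fun k => (T k)⁻¹) l (A : Matrix (Fin 3) (Fin 3) F)
    rw [← pureGL_inv, ← hD] at h
    rw [slotGL_val, Units.val_mul, Units.val_mul, slotGL_val]
    rw [cj_apply, inv_inv] at h
    rw [h, cj_apply, inv_inv]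
    rfl
  have hEmem : ∀ l (A : GL (Fin 3) F), A.1.det = 1 → D⁻¹ * slotGL l A * D ∈ M := fun l A hA => by
    rw [hsl]
    refine hL.ctx.sl l _ ?_
    rw [Units.val_mul, Units.val_mul, Matrix.det_mul, Matrix.det_mul, hA, mul_one, ← Matrix.det_mul, Units.inv_mul,
      Matrix.det_one]
  have hPc : ∀ (A : GL (Fin 3) F), P * slotGL i A = slotGL j A * P ∧ P * slotGL j A = slotGL i A * P := fun A => by
    have hk : ∀ l, P * slotGL l A = slotGL (Equiv.swap i j l) A * P := fun l => by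
      have h := permGL_conj_slot (Equiv.swap i j) l (A : Matrix (Fin 3) (Fin 3) F)
      have : P * slotGL l A * P⁻¹ = slotGL (Equiv.swap i j l) A := Units.ext (by rw [← cj_val]; exact h)
      rw [← this, inv_mul_cancel_right]
    exact ⟨by rw [hk, Equiv.swap_apply_left], by rw [hk, Equiv.swap_apply_right]⟩
  have hdd : ∀ A B : GL (Fin 3) F, slotGL i A * slotGL j B = slotGL j B * slotGL i A := fun A B =>
    Units.ext (slot_commute hij _ _)
  let E : GL (Fin 3) F →* GL (Fin (s + 1) → Fin 3) F :=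
    (MulAut.conj g⁻¹).toMonoidHom.comp ((MulAut.conj D⁻¹).toMonoidHom.comp
      { toFun := fun A => slotGL i A * slotGL j A
        map_one' := by simp
        map_mul' := fun A B => by
          rw [map_mul, map_mul, mul_assoc, ← mul_assoc (slotGL i B), hdd B A]
          simp only [mul_assoc] })
  have hEv : ∀ A, E A = g⁻¹ * (D⁻¹ * (slotGL i A * slotGL j A) * D) * g := fun A => by
    show g⁻¹ * (D⁻¹ * (slotGL i A * slotGL j A) * D⁻¹⁻¹) * g⁻¹⁻¹ = _
    rw [inv_inv, inv_inv]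
  have hPd : ∀ A, P * (slotGL i A * slotGL j A) = slotGL i A * slotGL j A * P := fun A => by
    rw [← mul_assoc, (hPc A).1, mul_assoc, (hPc A).2, ← mul_assoc, hdd]
  have hu : oneAdd x hxr.sq = g⁻¹ * (D⁻¹ * P * D) * g := by
    refine Units.ext ?_
    rw [← inv_inv g, ← inv_inv D, inv_inv g⁻¹, inv_inv D⁻¹]
    have e : (P : GL (Fin (s + 1) → Fin 3) F).1 = (D * (g * oneAdd x hxr.sq * g⁻¹) * D⁻¹).1 := by
      rw [← cj_val, ← cj_val]; exact hsw.symm.trans rfl
    rw [Units.ext e]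
    group
  have hE : ∀ A : GL (Fin 3) F, A.1.det = 1 → HasLvl 0 i0 (E A) := by
    intro A hA
    have hmem : E A ∈ M := by
      rw [hEv, show D⁻¹ * (slotGL i A * slotGL j A) * D = (D⁻¹ * slotGL i A * D) * (D⁻¹ * slotGL j A * D) by group]
      exact mul_mem (mul_mem (inv_mem hg) (mul_mem (hEmem _ _ hA) (hEmem _ _ hA))) hg
    have hcomm : E A * oneAdd x hxr.sq = oneAdd x hxr.sq * E A := by
      have h := hPd A
      rw [hu, hEv]
      calc _ = g⁻¹ * (D⁻¹ * (slotGL i A * slotGL j A * P) * D) * g := by group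
        _ = g⁻¹ * (D⁻¹ * (P * (slotGL i A * slotGL j A)) * D) * g := by rw [h]
        _ = _ := by group
    have hfix : cj (E A) x = x := (cj_eq_self_iff _ _).2 (by
      have := congrArg Units.val hcomm
      rw [Units.val_mul, Units.val_mul] at this
      change (E A).1 * (1 + x) = (1 + x) * (E A).1 at this
      rw [mul_add, add_mul, mul_one, one_mul] at this
      exact add_left_cancel this)
    obtain ⟨-, A', B', -, e⟩ := hL.cent_root hxr hmem hfix
    refine ⟨A', B', ⟨?_, fun h => absurd h (by omega), fun h => absurd h (by omega), fun h => absurd h (by omega)⟩, e⟩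
    rw [e, hx, slot_emb_conj] at hfix
    have h1 := (cj_eq_self_iff A' _).1 (slot_injective i0 hfix)
    have q : ∀ p q : Fin 3, ((A'.1 * Matrix.single (0 : Fin 3) 1 (1 : F)) : Matrix (Fin 3) (Fin 3) F) p q =
        ((Matrix.single (0 : Fin 3) 1 (1 : F) * A'.1) : Matrix (Fin 3) (Fin 3) F) p q :=
      fun p q => congrFun (congrFun h1 p) q
    have q1 := q 0 1; have q2 := q 1 1; have q3 := q 2 1; have q4 := q 0 2
    simp [Matrix.mul_apply, Fin.sum_univ_three, Matrix.single_apply] at q1 q2 q3 q4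
    exact ⟨q1, q2, q3, q4.symm⟩
  have hrec : ∀ r, r ≤ 3 → ∀ k l (h : k ≠ l), HasLvl r i0 (E (tvS k l h)) := by
    intro r
    induction r with
    | zero => intro _ k l h; exact hE _ (tvS_det k l h)
    | succ r ih =>
      intro hr k l h
      obtain ⟨n, hn1, hn2⟩ := Fin.exists_ne_and_ne_of_two_lt k l (by omega : 2 < 3)
      obtain ⟨A, B, hA, e⟩ := ih (by omega) k n hn1.symm
      obtain ⟨A', B', hA', e'⟩ := ih (by omega) n l hn2
      refine ⟨_, _, lvl_comm hA hA' ?_, by
        rw [tvS_commutator hn1.symm hn2 h, map_mul, map_mul, map_mul, map_inv, map_inv, e, e', slot_emb_commutator]⟩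
      have hzero : ∀ A : GL (Fin 3) F, Lvl0 A.1 → Lvl0 A⁻¹.1 := fun A h => by
        have : ∀ n : ℕ, Lvl0 ((A ^ n : GL (Fin 3) F).1) := fun n => by
          induction n with
          | zero => constructor <;> simp
          | succ n ih => rw [pow_succ, Units.val_mul]; exact (lvl_mul0 ih h).2.2.2.2.2
        obtain ⟨n, -, hn⟩ := (mem_zpowers_iff_mem_range_orderOf.1 (inv_mem (Subgroup.mem_zpowers A)) |> fun h =>
          (Finset.mem_image.1 h))
        rw [← hn]; exact this n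
      have a0 := hA.base
      have a0' := hA'.base
      rw [Units.val_mul, Units.val_mul, Units.val_mul]
      exact (lvl_mul0 (lvl_mul0 (lvl_mul0 a0 a0').2.2.2.2.2 (hzero _ a0)).2.2.2.2.2 (hzero _ a0')).2.2.2.2.2
  set U := tvS (F := F) (0 : Fin 3) 1 (by decide) with hU
  obtain ⟨A, B, hA, e⟩ := hrec 3 le_rfl 0 1 (by decide)
  rw [show A = 1 from Units.ext (hA.three le_rfl), map_one, one_mul] at e
  have hUU : U⁻¹ = U := Units.ext (by
    rw [hU, tvS_inv_val, tvS_val, sub_eq_add_neg]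
    congr 1
    rw [← neg_one_smul F, show (-1 : F) = 1 by linear_combination -h2, one_smul])
  set k := g⁻¹ * (D⁻¹ * slotGL i U * D) * g with hk
  have hkM : k ∈ M := mul_mem (mul_mem (inv_mem hg) (hEmem i U (tvS_det _ _ _))) hg
  have hconj : k * oneAdd x hxr.sq * k⁻¹ = oneAdd x hxr.sq * E U := by
    have e1 : slotGL i U * P * slotGL i U = P * (slotGL i U * slotGL j U) := by
      rw [hdd, ← mul_assoc P, (hPc U).2]
    rw [hu, hk, hEv]
    calc _ = g⁻¹ * (D⁻¹ * (slotGL i U * P * (slotGL i U)⁻¹) * D) * g := by group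
      _ = g⁻¹ * (D⁻¹ * (P * (slotGL i U * slotGL j U)) * D) * g := by rw [← map_inv, hUU, e1]
      _ = _ := by group
  set u₂ := oneAdd x hxr.sq * E U with hu₂
  have hval : u₂.1 - 1 = cj k x := by
    rw [← hconj, ← cj_val, show (oneAdd x hxr.sq).1 = 1 + x from rfl, map_add, map_one, add_sub_cancel_left]
  have hroot : oneAdd x hxr.sq = slotGL i0 (tvS 0 1 (by decide)) := Units.ext (by
    rw [slotGL_val, tvS_val, slot_add, slot_one]; rfl)
  have hpr := pure_root (i := i0) (u := u₂) (A := tvS 0 1 (by decide)) (B := B) le_rfl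
    (by rw [hu₂, hroot, ← e]) (by rw [hval]; exact cj_sq _ hxr.sq)
    (by rw [hval]; exact (rank_cj_le _ _).trans hxr.rank_le) (fun c hc => by
      have := congrFun (congrFun hc 0) 1
      simp [tvS_val, Matrix.single_apply] at this)
  obtain ⟨v, φ, -, -, -, hv⟩ := hpr
  obtain ⟨c, hc⟩ : ∃ c : F, (B : TMat F 3 s) = c • 1 := by
    refine emb_eq_slot_scalar (i := i0) (A := ((tvS (F := F) (0 : Fin 3) 1 (by decide))⁻¹ : GL (Fin 3) F).1 *
      (1 + Matrix.vecMulVec v φ)) ?_
    rw [slot_mul, slot_add, slot_one, ← hv, add_sub_cancel, hu₂, hroot, e, Units.val_mul, slotGL_val, ← mul_assoc,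
      ← slot_mul, Units.inv_mul, slot_one, one_mul]
  -- the diagonal element would be a scalar
  have hd : (slotGL i U * slotGL j U).1 = c • 1 := by
    have h1 : slotGL i U * slotGL j U = D * (g * E U * g⁻¹) * D⁻¹ := by rw [hEv]; group
    rw [h1, e, ← cj_val, ← cj_val, emb_val, hc, map_smul, map_one, map_smul, map_one, map_smul, map_one]
  have hd' := congrFun (congrFun hd fun _ => 0) (Function.update (Function.update (fun _ => 0) i 1) j 1)
  rw [Units.val_mul, slotGL_val, slotGL_val, slot_eq_pure, slot_eq_pure, pure'_mul] at hd'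
  simp only [pure', Matrix.of_apply, Matrix.smul_apply, smul_eq_mul] at hd'
  rw [Finset.prod_eq_one, Matrix.one_apply_ne, mul_zero] at hd'
  · exact one_ne_zero hd'
  · intro e; simpa using congrFun e j
  · intro l _
    rcases eq_or_ne l i with rfl | h1
    · simp [hij, hU, tvS_val]
    rcases eq_or_ne l j with rfl | h2'
    · simp [hij.symm, hU, tvS_val]
    simp [h1, h2']

end CfsgLib.TensorWreathSL
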